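import Groth.Agent.S0511
import Groth.Agent.S0515
import Groth.Agent.S0509
import Groth.Agent.S2801
import Groth.Agent.EtpbcB.LocAcycB
import Mathlib.RingTheory.Polynomial.IsIntegral
import Mathlib.LinearAlgebra.TensorProduct.RightExactness

/-!
# The henselization of the affine line at the origin of the closed fibre
-/

set_option autoImplicit false
set_option linter.unusedSectionVars false

universe u

open Polynomial TensorProduct IsLocalRing

namespace K286

namespace HenLine

variable {A : Type u} [CommRing A] [IsLocalRing A] (P : Ideal A[X]) [P.IsPrime]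
  (hP : P = (maximalIdeal A).map (Polynomial.C : A →+* A[X]) ⊔ Ideal.span {Polynomial.X})

include hP in
theorem mem_iff (p : A[X]) : p ∈ P ↔ p.eval 0 ∈ maximalIdeal A := by
  constructor
  · have h1 : P ≤ (maximalIdeal A).comap (Polynomial.evalRingHom (0 : A)) := by
      rw [hP, sup_le_iff, Ideal.map_le_iff_le_comap, Ideal.span_singleton_le_iff_mem]
      refine ⟨fun a ha => ?_, ?_⟩
      · simpa using ha
      · simp
    exact fun h => h1 h
  · intro h
    have h1 : p = Polynomial.C (p.eval 0) + X * p.divX := by
      conv_lhs => rw [← Polynomial.divX_mul_X_add p]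
      rw [← Polynomial.coeff_zero_eq_eval_zero]
      ring
    rw [h1, hP]
    exact Ideal.add_mem _ (Ideal.mem_sup_left (Ideal.mem_map_of_mem _ h))
      (Ideal.mem_sup_right (Ideal.mul_mem_right _ _ (Ideal.mem_span_singleton_self _)))

/-- Evaluation at zero on the local ring of the line. -/
noncomputable def ev₀ (hP : P = (maximalIdeal A).map (Polynomial.C : A →+* A[X]) ⊔
    Ideal.span {Polynomial.X}) : Localization.AtPrime P →+* A :=
  IsLocalization.lift (M := P.primeCompl) (g := Polynomial.evalRingHom (0 : A)) (fun y => by
    have h1 : (y : A[X]) ∉ P := y.2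
    rw [mem_iff P hP] at h1
    simpa using h1)

theorem ev₀_algebraMap (p : A[X]) :
    ev₀ P hP (algebraMap A[X] (Localization.AtPrime P) p) = p.eval 0 :=
  IsLocalization.lift_eq _ _

theorem ev₀_surjective : Function.Surjective (ev₀ P hP) := fun a =>
  ⟨algebraMap _ _ (Polynomial.C a), by rw [ev₀_algebraMap, Polynomial.eval_C]⟩

theorem isLocalHom_ev₀ : IsLocalHom (ev₀ P hP) := by
  refine ⟨fun x hx => ?_⟩
  obtain ⟨⟨a, s⟩, h⟩ := IsLocalization.surj P.primeCompl x
  have hs : IsUnit (algebraMap A[X] (Localization.AtPrime P) s) := IsLocalization.map_units _ s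
  have h1 : IsUnit (ev₀ P hP (algebraMap A[X] (Localization.AtPrime P) a)) := by
    rw [← h, map_mul]
    exact hx.mul (hs.map _)
  rw [ev₀_algebraMap] at h1
  have h2 : a ∉ P := by
    rw [mem_iff P hP]
    exact fun h => h h1
  have h3 : IsUnit (algebraMap A[X] (Localization.AtPrime P) a) :=
    IsLocalization.map_units (M := P.primeCompl) _ ⟨a, h2⟩
  rw [← h] at h3
  exact isUnit_of_mul_isUnit_left h3

theorem ker_ev₀ : RingHom.ker (ev₀ P hP) =
    Ideal.span {algebraMap A[X] (Localization.AtPrime P) Polynomial.X} := by
  apply le_antisymm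
  · intro x hx
    rw [RingHom.mem_ker] at hx
    obtain ⟨⟨a, s⟩, h⟩ := IsLocalization.surj P.primeCompl x
    have hs : IsUnit (algebraMap A[X] (Localization.AtPrime P) s) := IsLocalization.map_units _ s
    have h1 : a.eval 0 = 0 := by
      rw [← ev₀_algebraMap P hP, ← h, map_mul, hx, zero_mul]
    have h2 : Polynomial.X ∣ a := by
      rw [Polynomial.X_dvd_iff, Polynomial.coeff_zero_eq_eval_zero, h1]
    obtain ⟨b, rfl⟩ := h2
    rw [Ideal.mem_span_singleton]
    rw [← hs.dvd_mul_right]
    exact ⟨algebraMap _ _ b, by rw [← map_mul]; exact h⟩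
  · rw [Ideal.span_singleton_le_iff_mem, RingHom.mem_ker, ev₀_algebraMap, Polynomial.eval_X]

variable (R : Type u) [CommRing R] [IsLocalRing R] [Algebra (Localization.AtPrime P) R]
    [IsLocalHom (algebraMap (Localization.AtPrime P) R)]
    [Hensel.IsHenselization (Localization.AtPrime P) R]

/-- The structure map. -/
noncomputable def str : A →+* R := (algebraMap (Localization.AtPrime P) R).comp
  ((algebraMap A[X] (Localization.AtPrime P)).comp Polynomial.C)

/-- The coordinate. -/
noncomputable def coord : R :=
  algebraMap (Localization.AtPrime P) R (algebraMap A[X] (Localization.AtPrime P) Polynomial.X)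

/-- The structure map of a henselization of a henselian ring is bijective. -/
theorem bijective_of_henselian (A S : Type u) [CommRing A] [HenselianLocalRing A] [CommRing S]
    [IsLocalRing S] [Algebra A S] [IsLocalHom (algebraMap A S)] [h : Hensel.IsHenselization A S] :
    Function.Bijective (algebraMap A S) := by
  have hS : HenselianLocalRing S := h.henselian
  obtain ⟨g, hg, -⟩ := h.universal A (RingHom.id A) (by infer_instance)
  have hg' : ∀ a, g (algebraMap A S a) = a := fun a => congr($hg a)
  refine ⟨fun x y hxy => ?_, fun s => ⟨g s, ?_⟩⟩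
  · rw [← hg' x, hxy, hg']
  · obtain ⟨g', -, hg''⟩ := h.universal S (algebraMap A S) inferInstance
    have h1 := hg'' ((algebraMap A S).comp g) (by
      ext a
      change algebraMap A S (g (algebraMap A S a)) = _
      rw [hg'])
    have h2 := hg'' (RingHom.id S) (by rfl)
    have h3 : (algebraMap A S).comp g = RingHom.id S := h1.trans h2.symm
    exact congr($h3 s)

/-- **The retraction of the henselized line onto the base.** -/
theorem exists_retraction [HenselianLocalRing A] :
    ∃ ρ : R →+* A, (∀ a, ρ (str P R a) = a) ∧ ρ (coord P R) = 0 ∧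
      RingHom.ker ρ = Ideal.span {coord P R} ∧
      ∀ x, ρ (algebraMap (Localization.AtPrime P) R x) = ev₀ P hP x := by
  have hR : Hensel.IsHenselization (Localization.AtPrime P) R := inferInstance
  have hloc := isLocalHom_ev₀ P hP
  obtain ⟨ρ, hρ, -⟩ := hR.universal A (ev₀ P hP) hloc
  have hρ' : ∀ x, ρ (algebraMap (Localization.AtPrime P) R x) = ev₀ P hP x :=
    fun x => congr($hρ x)
  have h0 : ρ (coord P R) = 0 := by
    rw [coord, hρ', ev₀_algebraMap, Polynomial.eval_X]
  refine ⟨ρ, fun a => ?_, h0, le_antisymm ?_ ?_, hρ'⟩
  · change ρ (algebraMap (Localization.AtPrime P) R _) = a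
    rw [hρ']
    exact (ev₀_algebraMap P hP _).trans Polynomial.eval_C
  · let _ : Algebra (Localization.AtPrime P) A := (ev₀ P hP).toAlgebra
    have hl : IsLocalHom (algebraMap (Localization.AtPrime P) A) := hloc
    have hsurj : Function.Surjective (algebraMap (Localization.AtPrime P) A) :=
      ev₀_surjective P hP
    have hint : Algebra.IsIntegral (Localization.AtPrime P) A :=
      Algebra.isIntegral_of_surjective hsurj
    obtain ⟨h1, h2, h3⟩ := Groth.Agent.S2801.result (Localization.AtPrime P) A R
    have hbij := bijective_of_henselian A (A ⊗[Localization.AtPrime P] R)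
    have hHT : HenselianLocalRing (A ⊗[Localization.AtPrime P] R) := h3.henselian
    -- the two maps agree
    let inc : R →+* A ⊗[Localization.AtPrime P] R :=
      (Algebra.TensorProduct.includeRight :
        R →ₐ[Localization.AtPrime P] A ⊗[Localization.AtPrime P] R).toRingHom
    have hinc : inc = (algebraMap A (A ⊗[Localization.AtPrime P] R)).comp ρ := by
      obtain ⟨g', -, hg''⟩ := hR.universal (A ⊗[Localization.AtPrime P] R)
        ((algebraMap A (A ⊗[Localization.AtPrime P] R)).comp (ev₀ P hP)) (by
          exact RingHom.isLocalHom_comp _ _)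
      refine (hg'' inc ?_).trans (hg'' _ ?_).symm
      · ext x
        change (1 : A) ⊗ₜ[Localization.AtPrime P] (algebraMap (Localization.AtPrime P) R x) =
          algebraMap A _ (ev₀ P hP x)
        rw [Algebra.TensorProduct.algebraMap_apply, Algebra.algebraMap_eq_smul_one,
          ← TensorProduct.smul_tmul]
        congr 1
        change x • (1 : A) = _
        rw [Algebra.smul_def, mul_one]
        rfl
      · change ((algebraMap A (A ⊗[Localization.AtPrime P] R)).comp ρ).comp
          (algebraMap (Localization.AtPrime P) R) = _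
        rw [RingHom.comp_assoc, hρ]
    intro x hx
    rw [RingHom.mem_ker] at hx
    have h4 : inc x = 0 := by
      rw [hinc, RingHom.comp_apply, hx, map_zero]
    let f : Localization.AtPrime P →ₐ[Localization.AtPrime P] A := Algebra.ofId _ _
    have h5 : (1 : Localization.AtPrime P) ⊗ₜ[Localization.AtPrime P] x ∈
        RingHom.ker (Algebra.TensorProduct.map f (AlgHom.id (Localization.AtPrime P) R)) := by
      rw [RingHom.mem_ker, Algebra.TensorProduct.map_tmul, map_one]
      exact h4
    rw [Algebra.TensorProduct.rTensor_ker f hsurj] at h5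
    let l : (Localization.AtPrime P) ⊗[Localization.AtPrime P] R →+* R :=
      (Algebra.TensorProduct.lid (Localization.AtPrime P) R : _ →+* R)
    have h7 : RingHom.ker f = Ideal.span {algebraMap A[X] (Localization.AtPrime P) Polynomial.X} :=
      ker_ev₀ P hP
    have h8 : (RingHom.ker f).map (Algebra.TensorProduct.includeLeft :
        Localization.AtPrime P →ₐ[Localization.AtPrime P] (Localization.AtPrime P)
          ⊗[Localization.AtPrime P] R) ≤ (Ideal.span {coord P R}).comap l := by
      rw [h7, Ideal.map_span, Set.image_singleton, Ideal.span_singleton_le_iff_mem, Ideal.mem_comap]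
      change Algebra.TensorProduct.lid (Localization.AtPrime P) R (_ ⊗ₜ[_] 1) ∈ _
      rw [Algebra.TensorProduct.lid_tmul, Algebra.smul_def, mul_one]
      exact Ideal.mem_span_singleton_self _
    have h9 := h8 h5
    rw [Ideal.mem_comap] at h9
    change Algebra.TensorProduct.lid (Localization.AtPrime P) R (1 ⊗ₜ[_] x) ∈ _ at h9
    rwa [Algebra.TensorProduct.lid_tmul, one_smul] at h9
  · rw [Ideal.span_singleton_le_iff_mem, RingHom.mem_ker, h0]

section Facts

theorem flat_str : (str P R).Flat := by
  have h1 : (algebraMap (Localization.AtPrime P) R).Flat := by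
    have := Groth.Agent.S0509.result (Localization.AtPrime P) R
    exact RingHom.flat_algebraMap_iff.2 inferInstance
  have h2 : (algebraMap A[X] (Localization.AtPrime P)).Flat :=
    RingHom.flat_algebraMap_iff.2 (IsLocalization.flat _ P.primeCompl)
  have h3 : (Polynomial.C : A →+* A[X]).Flat := by
    have : Module.Flat A A[X] := inferInstance
    exact RingHom.flat_algebraMap_iff (R := A) (S := A[X]).2 this
  exact RingHom.Flat.comp (RingHom.Flat.comp h3 h2) h1

include P in
theorem isNoetherianRing [IsNoetherianRing A] : IsNoetherianRing R := by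
  have h1 : IsNoetherianRing (Localization.AtPrime P) :=
    IsLocalization.isNoetherianRing P.primeCompl _ inferInstance
  exact (Groth.Agent.S0511.result (Localization.AtPrime P) R).1 h1

include P in
theorem isDomain_and_isIntegrallyClosed [IsDomain A] [IsIntegrallyClosed A] :
    IsDomain R ∧ IsIntegrallyClosed R := by
  have h1 : IsDomain (Localization.AtPrime P) := inferInstance
  have h2 : IsIntegrallyClosed (Localization.AtPrime P) :=
    isIntegrallyClosed_of_isLocalization (R := A[X]) (Localization.AtPrime P) P.primeCompl
      P.primeCompl_le_nonZeroDivisors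
  exact (Groth.Agent.S0515.result (Localization.AtPrime P) R).1 ⟨h1, h2⟩

theorem injective_algebraMap : Function.Injective (algebraMap (Localization.AtPrime P) R) := by
  have := Groth.Agent.S0509.result (Localization.AtPrime P) R
  exact FaithfulSMul.algebraMap_injective _ _

theorem coord_ne_zero [IsDomain A] : coord P R ≠ 0 := by
  intro h
  have h1 : algebraMap A[X] (Localization.AtPrime P) Polynomial.X = 0 :=
    injective_algebraMap P R (h.trans (map_zero _).symm)
  rw [FaithfulSMul.algebraMap_eq_zero_iff] at h1
  exact Polynomial.X_ne_zero h1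

/-- Separable closedness is invariant under ring isomorphisms. -/
theorem isSepClosed_of_ringEquiv {K L : Type*} [Field K] [Field L] (e : K ≃+* L) [IsSepClosed K] :
    IsSepClosed L := by
  refine IsSepClosed.of_exists_root L (fun p hp hirr hsep => ?_)
  have h1 : (p.map (e.symm : L →+* K)).Separable := hsep.map
  have h2 : (p.map (e.symm : L →+* K)).degree ≠ 0 := by
    rw [Polynomial.degree_map]
    exact hirr.degree_pos.ne'
  obtain ⟨x, hx⟩ := IsSepClosed.exists_root _ h2 h1
  refine ⟨e x, ?_⟩
  have h3 : p = (p.map (e.symm : L →+* K)).map (e : K →+* L) := by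
    rw [Polynomial.map_map]
    simp
  rw [h3, Polynomial.eval_map]
  have h4 := Polynomial.eval₂_at_apply (p := p.map (e.symm : L →+* K)) (e : K →+* L) x
  rw [hx.eq_zero, map_zero] at h4
  exact h4

include hP in
theorem isSepClosed_residueField [HenselianLocalRing A] [IsSepClosed (ResidueField A)] :
    IsSepClosed (ResidueField R) := by
  obtain ⟨ρ, hρ, -, -, -⟩ := exists_retraction P hP R
  have hsurj : Function.Surjective ρ := fun a => ⟨str P R a, hρ a⟩
  have hm : (maximalIdeal A).comap ρ = maximalIdeal R :=
    IsLocalRing.eq_maximalIdeal (Ideal.comap_isMaximal_of_surjective ρ hsurj)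
  have hloc : IsLocalHom ρ := ⟨fun x hx => by
    by_contra hn
    have h1 : x ∈ maximalIdeal R := hn
    rw [← hm, Ideal.mem_comap] at h1
    exact h1 hx⟩
  let e : ResidueField R →+* ResidueField A := ResidueField.map ρ
  have he : Function.Bijective e := by
    refine ⟨e.injective, fun x => ?_⟩
    obtain ⟨a, rfl⟩ := IsLocalRing.residue_surjective x
    refine ⟨residue R (str P R a), ?_⟩
    change ResidueField.map ρ (residue R (str P R a)) = _
    rw [ResidueField.map_residue, hρ]
  exact isSepClosed_of_ringEquiv (RingEquiv.ofBijective e he).symm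

end Facts

end HenLine

end K286
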