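import Groth.Agent.SGA4h.K286.MainM
import Groth.Agent.SGA4h.K286.HenLine
import Groth.Agent.EtpbcB.SBCIntCl
import Groth.Agent.EtpbcB.SBCPoint
import Groth.Agent.S12236

/-!
# Galois covers of the geometric fibres of the henselized line
-/

set_option autoImplicit false
set_option linter.unusedSectionVars false

universe u

open CategoryTheory CategoryTheory.Limits AlgebraicGeometry Polynomial IsLocalRing TensorProduct

namespace K286

namespace Gen

open Groth.Agent Groth.Agent.Pi1A.FEtAffine Groth.Agent.EtpbcB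
open K286.TransAct

variable {A : Type u} [CommRing A] [HenselianLocalRing A] (P : Ideal A[X]) [P.IsPrime]
  (hP : P = (maximalIdeal A).map (Polynomial.C : A →+* A[X]) ⊔ Ideal.span {Polynomial.X})
  (R : Type u) [CommRing R] [IsLocalRing R] [Algebra (Localization.AtPrime P) R]
  [IsLocalHom (algebraMap (Localization.AtPrime P) R)]
  [Hensel.IsHenselization (Localization.AtPrime P) R]

include hP in
theorem isLocalHom_retraction (ρ : R →+* A) (hρ : ∀ a, ρ (HenLine.str P R a) = a) :
    IsLocalHom ρ ∧ IsLocalHom (HenLine.str P R) := by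
  have hsurj : Function.Surjective ρ := fun a => ⟨HenLine.str P R a, hρ a⟩
  have hm : (maximalIdeal A).comap ρ = maximalIdeal R :=
    IsLocalRing.eq_maximalIdeal (Ideal.comap_isMaximal_of_surjective ρ hsurj)
  refine ⟨⟨fun x hx => ?_⟩, ⟨fun x hx => ?_⟩⟩
  · by_contra hn
    have h1 : x ∈ maximalIdeal R := hn
    rw [← hm, Ideal.mem_comap] at h1
    exact h1 hx
  · have h1 := hx.map ρ
    rwa [hρ] at h1

include hP in
/-- **Galois covers of degree prime to the residue characteristic of the geometric fibres of the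
henselized line are split.** -/
theorem isSplit (A' : Type u) [CommRing A'] [IsDomain A'] [IsIntegrallyClosed A'] [Algebra A A']
    [Algebra.IsIntegral A A'] (Ω : Type u) [Field Ω] [Algebra A' Ω] [IsFractionRing A' Ω]
    [IsAlgClosed Ω] (n : ℕ) (hn0 : n ≠ 0) (hn : IsUnit (n : A)) {X : Scheme.{u}}
    (x₁ : X ⟶ Spec (CommRingCat.of R)) (x₂ : X ⟶ Spec (CommRingCat.of Ω))
    (hX : IsPullback x₁ x₂ (Spec.map (CommRingCat.ofHom (HenLine.str P R)))
      (Spec.map (CommRingCat.ofHom ((algebraMap A' Ω).comp (algebraMap A A')))))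
    (Y : FEt.Cat X) {Γ : Type u} [Group Γ] [Finite Γ] (ρ : Γ →* Aut Y) (hρ : TransAct ρ)
    (hcard : Nat.card Γ ∣ n) : Pi1.IsSplit Y := by
  obtain ⟨r₀, hr1, hr2, hr3, -⟩ := HenLine.exists_retraction P hP R
  obtain ⟨hrl, hsl⟩ := isLocalHom_retraction P hP R r₀ hr1
  have hR4 : HenselianLocalRing R := Hensel.IsHenselization.henselian (R := Localization.AtPrime P)
  let _ : Algebra A[X] R :=
    ((algebraMap (Localization.AtPrime P) R).comp (algebraMap A[X] (Localization.AtPrime P))).toAlgebra
  let _ : Algebra A R := (HenLine.str P R).toAlgebra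
  have : IsScalarTower A A[X] R := IsScalarTower.of_algebraMap_eq' rfl
  have : IsScalarTower A[X] (Localization.AtPrime P) R := IsScalarTower.of_algebraMap_eq' rfl
  have hAR : IsLocalHom (algebraMap A R) := hsl
  have hflat : Module.Flat A R := HenLine.flat_str P R
  have hind : EtPBC.IsIndEtale A[X] R :=
    Proet.IndEtale.isIndEtale_trans A[X] (Localization.AtPrime P) R
      (SBCPoint.isIndEtale_of_isLocalization P.primeCompl _)
      (S12236.result (Localization.AtPrime P) R)
  -- the ring `A'`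
  obtain ⟨hA', hloc, -⟩ := S1964.result A A'
  have hΩ' : IsAlgClosed (FractionRing A') :=
    IsAlgClosed.of_ringEquiv Ω (FractionRing A')
      (IsLocalization.algEquiv (nonZeroDivisors A') (FractionRing A') Ω).symm.toRingEquiv
  have hκA' : IsAlgClosed (ResidueField A') := LocAcycSecA.isAlgClosed_residueField
  -- the ring `A' ⊗ R`
  have hpi : IsPurelyInseparable (ResidueField A) (ResidueField R) := by
    have hsurj : Function.Surjective (algebraMap (ResidueField A) (ResidueField R)) := by
      intro x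
      obtain ⟨x, rfl⟩ := IsLocalRing.residue_surjective x
      refine ⟨residue A (r₀ x), ?_⟩
      change ResidueField.map (algebraMap A R) (residue A (r₀ x)) = _
      rw [ResidueField.map_residue, ← sub_eq_zero, ← map_sub, residue_eq_zero_iff]
      intro hu
      have h1 := hu.map r₀
      rw [map_sub] at h1
      have h2 : r₀ (algebraMap A R (r₀ x)) = r₀ x := hr1 _
      rw [h2, sub_self] at h1
      exact not_isUnit_zero h1
    exact ⟨Algebra.isIntegral_of_surjective hsurj, fun x _ => hsurj x⟩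
  have hBl : IsLocalRing (A' ⊗[A] R) := CalgC.TensorLocalPI.isLocalRing (Or.inr hpi)
  have hBh : HenselianLocalRing (A' ⊗[A] R) := by
    let _ : Algebra R (A' ⊗[A] R) := Algebra.TensorProduct.rightAlgebra
    have hBi : Algebra.IsIntegral R (A' ⊗[A] R) := SBCIntCl.integral_tensor A R A'
    exact Etrest.IntHens.henselianLocalRing_of_isIntegral R (A' ⊗[A] R)
  let _ := SBCDefs.polyAlg A R A'
  have hie : EtPBC.IsIndEtale A'[X] (A' ⊗[A] R) := SBCIntCl.isIndEtale_tensor A R A' hind
  have hdom : IsDomain (A' ⊗[A] R) := SBCIntCl.isDomain_of_isIndEtale A'[X] _ hie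
  have hic : IsIntegrallyClosed (A' ⊗[A] R) := LocAcycModel.isIntegrallyClosed_of_isIndEtale hie
  have hCm : ∀ a : A', algebraMap A'[X] (A' ⊗[A] R) (C a) = algebraMap A' (A' ⊗[A] R) a := by
    intro a
    change Polynomial.eval₂ _ _ (C a) = _
    rw [eval₂_C]
  -- the retraction
  let r₁ : R →ₐ[A] A := { r₀ with commutes' := hr1 }
  let r' : A' ⊗[A] R →ₐ[A'] A' := Algebra.TensorProduct.lift (AlgHom.id A' A')
    ((Algebra.ofId A A').comp r₁) (fun _ _ => Commute.all _ _)
  have hr'1 : ∀ a, (r' : A' ⊗[A] R →+* A') (algebraMap A'[X] (A' ⊗[A] R) (C a)) = a := by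
    intro a
    rw [hCm]
    exact r'.commutes a
  have hr's : Function.Surjective r' := fun a => ⟨algebraMap A' _ a, r'.commutes a⟩
  have hr'l : IsLocalHom (r' : A' ⊗[A] R →+* A') := by
    have hm : (maximalIdeal A').comap (r' : A' ⊗[A] R →+* A') = maximalIdeal (A' ⊗[A] R) :=
      IsLocalRing.eq_maximalIdeal (Ideal.comap_isMaximal_of_surjective _ hr's)
    refine ⟨fun x hx => ?_⟩
    by_contra hn
    have h1 : x ∈ maximalIdeal (A' ⊗[A] R) := hn
    rw [← hm, Ideal.mem_comap] at h1
    exact h1 hx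
  have hκ : IsSepClosed (ResidueField (A' ⊗[A] R)) := by
    let e : ResidueField (A' ⊗[A] R) →+* ResidueField A' :=
      ResidueField.map (r' : A' ⊗[A] R →+* A')
    have he : Function.Bijective e := by
      refine ⟨e.injective, fun x => ?_⟩
      obtain ⟨a, rfl⟩ := IsLocalRing.residue_surjective x
      refine ⟨residue _ (algebraMap A' _ a), ?_⟩
      change ResidueField.map (r' : A' ⊗[A] R →+* A') (residue _ (algebraMap A' _ a)) = _
      rw [ResidueField.map_residue]
      congr 1
      exact r'.commutes a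
    exact HenLine.isSepClosed_of_ringEquiv (RingEquiv.ofBijective e he).symm
  -- the generic fibre
  let Q := Ω ⊗[A'] (A' ⊗[A] R)
  have hA'Ω : Function.Injective (algebraMap A' Ω) := IsFractionRing.injective A' Ω
  have hflat' : Module.Flat A' (A' ⊗[A] R) := inferInstance
  let ι₀ : A' ⊗[A] R →ₐ[A'] Q := Algebra.TensorProduct.includeRight
  have hι₀ : Function.Injective ι₀ := Algebra.TensorProduct.includeRight_injective hA'Ω
  have hinjA' : Function.Injective (algebraMap A' (A' ⊗[A] R)) := by
    intro a b hab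
    have h1 := congrArg r' hab
    rwa [r'.commutes, r'.commutes] at h1
  have hMle : Algebra.algebraMapSubmonoid (A' ⊗[A] R) (nonZeroDivisors A') ≤
      nonZeroDivisors (A' ⊗[A] R) := by
    rintro _ ⟨a, ha, rfl⟩
    apply mem_nonZeroDivisors_of_ne_zero
    rw [Ne, map_eq_zero_iff _ hinjA']
    exact nonZeroDivisors.ne_zero ha
  let _ : Algebra (A' ⊗[A] R) Q := Algebra.TensorProduct.rightAlgebra
  have hQloc : IsLocalization (Algebra.algebraMapSubmonoid (A' ⊗[A] R) (nonZeroDivisors A')) Q :=
    IsLocalization.tensorRight Ω (nonZeroDivisors A')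
  have hQdom : IsDomain Q := IsLocalization.isDomain_of_le_nonZeroDivisors Q hMle
  have hQic : IsIntegrallyClosed Q := isIntegrallyClosed_of_isLocalization Q _ hMle
  have hQ : ∀ y : Q, ∃ (s : A') (b : A' ⊗[A] R), s ≠ 0 ∧
      (ι₀ : A' ⊗[A] R →+* Q) (algebraMap A'[X] (A' ⊗[A] R) (C s)) * y =
        (ι₀ : A' ⊗[A] R →+* Q) b := by
    intro y
    obtain ⟨⟨b, ⟨_, s, hs, rfl⟩⟩, h⟩ := IsLocalization.surj
      (Algebra.algebraMapSubmonoid (A' ⊗[A] R) (nonZeroDivisors A')) y
    refine ⟨s, b, nonZeroDivisors.ne_zero hs, ?_⟩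
    rw [hCm, mul_comm]
    exact h
  have hnA' : IsUnit (n : A') := by
    have h1 := hn.map (algebraMap A A')
    rwa [map_natCast] at h1
  -- the schemes
  have sq1 := isPullback_SpecMap_of_isPushout _ _ _ _
    (CommRingCat.isPushout_tensorProduct A A' R)
  have sq2 := isPullback_SpecMap_of_isPushout _ _ _ _
    (CommRingCat.isPushout_tensorProduct A' Ω (A' ⊗[A] R))
  have sq := sq2.flip.paste_horiz sq1.flip
  have hbot : Spec.map (CommRingCat.ofHom (algebraMap A' Ω)) ≫
      Spec.map (CommRingCat.ofHom (algebraMap A A')) =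
      Spec.map (CommRingCat.ofHom ((algebraMap A' Ω).comp (algebraMap A A'))) := by
    rw [← Spec.map_comp, ← CommRingCat.ofHom_comp]
  rw [hbot] at sq
  let e : Spec (CommRingCat.of Q) ≅ X := sq.isoIsPullback _ _ hX
  have hsp := MainM.isSplit (A := A') (B := A' ⊗[A] R) hie (r' : A' ⊗[A] R →+* A') hr'1 hr'l n hn0
    hnA' (ι₀ : A' ⊗[A] R →+* Q) hι₀ hQ ((FEt.restrict e.hom).obj Y) (Pi1.H383.PrincBC.bcAction e.hom ρ)
    (bc hρ e.hom) hcard
  have h1 : Pi1.IsSplit ((FEt.restrict e.inv).obj ((FEt.restrict e.hom).obj Y)) :=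
    Groth.Agent.Pi1.H384.SplitBasic.isSplit_restrict _ hsp
  refine Groth.Agent.Pi1.H384.SplitBasic.isSplit_of_iso ?_ h1
  exact (((restrictComp e.inv e.hom).symm ≪≫ restrictCongr e.inv_hom_id ≪≫ restrictId X).app Y)

end Gen

end K286
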