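import Groth.Prelude.Def_Pi1

/-!
# Split covers indexed by `Fin n`
-/

set_option autoImplicit false

universe u

open CategoryTheory CategoryTheory.Limits AlgebraicGeometry

namespace K286.FinSplit

theorem isSplit_of_fin {X : Scheme.{u}} (Y : FEt.Cat X)
    (h : ∃ (n : ℕ) (e : Y.left ≅ ∐ fun _ : Fin n => X),
      e.hom ≫ Sigma.desc (fun _ => 𝟙 X) = Y.hom) : Pi1.IsSplit Y := by
  obtain ⟨n, e, he⟩ := h
  let i : ULift.{u} (Fin n) ≃ Fin n := Equiv.ulift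
  let r : (∐ fun _ : ULift.{u} (Fin n) => X) ≅ ∐ fun _ : Fin n => X :=
    Sigma.reindex i (fun _ : Fin n => X)
  refine ⟨ULift.{u} (Fin n), inferInstance, e ≪≫ r.symm, fun j => ?_⟩
  have h1 : Sigma.ι (fun _ : ULift.{u} (Fin n) => X) j ≫ r.hom =
      Sigma.ι (fun _ : Fin n => X) (i j) := Sigma.ι_reindex_hom i (fun _ : Fin n => X) j
  rw [Iso.trans_inv, Iso.symm_inv, ← he, Category.assoc, Iso.inv_hom_id_assoc,
    ← Category.assoc, h1]
  exact Sigma.ι_desc _ _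

theorem fin_of_isSplit {X : Scheme.{u}} (Y : FEt.Cat X) (h : Pi1.IsSplit Y) :
    ∃ (n : ℕ) (e : Y.left ≅ ∐ fun _ : Fin n => X),
      e.hom ≫ Sigma.desc (fun _ => 𝟙 X) = Y.hom := by
  obtain ⟨ι, hι, e, he⟩ := h
  obtain ⟨n, ⟨i⟩⟩ := Finite.exists_equiv_fin ι
  let r : (∐ fun _ : ι => X) ≅ ∐ fun _ : Fin n => X :=
    Sigma.reindex i (fun _ : Fin n => X)
  refine ⟨n, e ≪≫ r, ?_⟩
  rw [← Iso.eq_inv_comp]
  apply Sigma.hom_ext
  intro j
  obtain ⟨j, rfl⟩ := i.surjective j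
  have h1 : Sigma.ι (fun _ : ι => X) j ≫ r.hom =
      Sigma.ι (fun _ : Fin n => X) (i j) := Sigma.ι_reindex_hom i (fun _ : Fin n => X) j
  have h2 : Sigma.ι (fun _ : Fin n => X) (i j) ≫ r.inv = Sigma.ι (fun _ : ι => X) j := by
    rw [← h1, Category.assoc, Iso.hom_inv_id, Category.comp_id]
  rw [Iso.trans_inv, Category.assoc, ← Category.assoc, h2]
  exact (Sigma.ι_desc _ _).trans (he j).symm

end K286.FinSplit
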