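import Groth.Agent.SGA4h.K286.GenClos
import Groth.Agent.SGA4h.K286.FinSplit
import Groth.Agent.Pi1B.PurInsepSpec
import Groth.Agent.S0283
import Mathlib.FieldTheory.PurelyInseparable.Basic

/-!
# Principal covers of the generic fibre of the henselized line
-/

set_option autoImplicit false
set_option linter.unusedSectionVars false

universe u

open CategoryTheory CategoryTheory.Limits AlgebraicGeometry Polynomial IsLocalRing TensorProduct

namespace K286

namespace SepDesc

open Groth.Agent Groth.Agent.Pi1A.FEtAffine Groth.Agent.Pi1.H384.SplitCover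
open K286.TransAct

/-- A cover split by a morphism along which pullback is fully faithful is split. -/
theorem isSplit_of_restrict {X Y : Scheme.{u}} (c : X ⟶ Y) (h1 : (FEt.restrict c).Full)
    (h2 : (FEt.restrict c).Faithful) (T : FEt.Cat Y) (h : Pi1.IsSplit ((FEt.restrict c).obj T)) :
    Pi1.IsSplit T := by
  obtain ⟨ι, _, ⟨e⟩⟩ := Groth.Agent.Pi1.H384.SplitBasic.exists_iso_trivialObj h
  let e' : (FEt.restrict c).obj T ≅ (FEt.restrict c).obj (trivialObj Y ι) :=
    e ≪≫ (Groth.Agent.Pi1.H384.SplitBasic.restrictTrivial c ι).symm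
  exact Groth.Agent.Pi1.H384.SplitBasic.isSplit_of_iso ((FEt.restrict c).preimageIso e').symm
    (Groth.Agent.Pi1.H384.SplitBasic.isSplit_trivialObj Y ι)

/-- Base change along a purely inseparable field extension is fully faithful on covers. -/
theorem restrict_purInsep (k K : Type u) [Field k] [Field K] [Algebra k K]
    [IsPurelyInseparable k K] {X Y : Scheme.{u}} {a : Y ⟶ X} {g : Y ⟶ Spec (CommRingCat.of K)}
    {f : X ⟶ Spec (CommRingCat.of k)}
    (h : IsPullback a g f (Spec.map (CommRingCat.ofHom (algebraMap k K)))) :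
    (FEt.restrict a).Full ∧ (FEt.restrict a).Faithful := by
  have h1 : UniversallyInjective (Spec.map (CommRingCat.ofHom (algebraMap k K))) :=
    Groth.Agent.Pi1B.PurInsepSpec.universallyInjective_specMap k K
  have h2 : IsIntegralHom (Spec.map (CommRingCat.ofHom (algebraMap k K))) := by
    rw [IsIntegralHom.SpecMap_iff]
    exact algebraMap_isIntegral_iff.2 inferInstance
  have h3 : Surjective (Spec.map (CommRingCat.ofHom (algebraMap k K))) :=
    ⟨fun _ => ⟨default, Subsingleton.elim (α := PrimeSpectrum k) _ _⟩⟩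
  have h4 : IsIntegralHom a := MorphismProperty.of_isPullback h.flip h2
  have h5 : UniversallyInjective a := MorphismProperty.of_isPullback h.flip h1
  have h6 : Surjective a := MorphismProperty.of_isPullback h.flip h3
  exact Groth.Agent.S0283.result a

variable {A : Type u} [CommRing A] [IsDomain A] [HenselianLocalRing A] (P : Ideal A[X]) [P.IsPrime]
  (hP : P = (maximalIdeal A).map (Polynomial.C : A →+* A[X]) ⊔ Ideal.span {Polynomial.X})
  (R : Type u) [CommRing R] [IsLocalRing R] [Algebra (Localization.AtPrime P) R]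
  [IsLocalHom (algebraMap (Localization.AtPrime P) R)]
  [Hensel.IsHenselization (Localization.AtPrime P) R]

include hP in
theorem isSplit (K Ω : Type u) [Field K] [Algebra A K] [IsFractionRing A K] [Field Ω]
    [IsSepClosed Ω] [Algebra K Ω] {Z : Scheme.{u}} (z₁ : Z ⟶ Spec (CommRingCat.of R))
    (z₂ : Z ⟶ Spec (CommRingCat.of K))
    (hZ : IsPullback z₁ z₂ (Spec.map (CommRingCat.ofHom (HenLine.str P R)))
      (Spec.map (CommRingCat.ofHom (algebraMap A K))))
    (Z' : FEt.Cat Z) {G : Type u} [Group G] [Finite G] (ρ : G →* Aut Z') (hρ : TransAct ρ)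
    (hn : IsUnit ((Nat.card G : ℕ) : A)) {Zb : Scheme.{u}} (b : Zb ⟶ Z)
    (b₂ : Zb ⟶ Spec (CommRingCat.of Ω))
    (hb : b ≫ z₂ = b₂ ≫ Spec.map (CommRingCat.ofHom (algebraMap K Ω))) :
    Pi1.IsSplit ((FEt.restrict b).obj Z') := by
  let Kb := AlgebraicClosure K
  let Ωa := AlgebraicClosure Ω
  let i : Kb →ₐ[K] Ωa := IsAlgClosed.lift
  -- the cover over the algebraic closure
  let g : pullback z₂ (Spec.map (CommRingCat.ofHom (algebraMap K Kb))) ⟶ Z := pullback.fst _ _
  have hg := IsPullback.of_hasPullback z₂ (Spec.map (CommRingCat.ofHom (algebraMap K Kb)))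
  have sq := hg.paste_horiz hZ
  rw [← Spec.map_comp, ← CommRingCat.ofHom_comp] at sq
  have hsp1 : Pi1.IsSplit ((FEt.restrict g).obj Z') :=
    GenClos.isSplit P hP R A Function.surjective_id K Kb (Nat.card G) Nat.card_pos.ne' hn
      ((algebraMap K Kb).comp (algebraMap A K)) rfl _ _ sq _
      (Pi1.H383.PrincBC.bcAction g ρ) (bc hρ g) dvd_rfl
  -- the cover over the algebraic closure of `Ω`
  let c : pullback b₂ (Spec.map (CommRingCat.ofHom (algebraMap Ω Ωa))) ⟶ Zb := pullback.fst _ _
  have hc := IsPullback.of_hasPullback b₂ (Spec.map (CommRingCat.ofHom (algebraMap Ω Ωa)))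
  have hi : Spec.map (CommRingCat.ofHom (algebraMap Ω Ωa)) ≫
      Spec.map (CommRingCat.ofHom (algebraMap K Ω)) =
      Spec.map (CommRingCat.ofHom (i : Kb →+* Ωa)) ≫
      Spec.map (CommRingCat.ofHom (algebraMap K Kb)) := by
    rw [← Spec.map_comp, ← Spec.map_comp, ← CommRingCat.ofHom_comp, ← CommRingCat.ofHom_comp,
      i.comp_algebraMap, ← IsScalarTower.algebraMap_eq]
  let h : pullback b₂ (Spec.map (CommRingCat.ofHom (algebraMap Ω Ωa))) ⟶
      pullback z₂ (Spec.map (CommRingCat.ofHom (algebraMap K Kb))) :=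
    pullback.lift (c ≫ b) (pullback.snd _ _ ≫ Spec.map (CommRingCat.ofHom (i : Kb →+* Ωa))) (by
      rw [Category.assoc, hb, Category.assoc, ← hi, ← Category.assoc, pullback.condition,
        Category.assoc])
  have hh : h ≫ g = c ≫ b := pullback.lift_fst _ _ _
  have hsp2 : Pi1.IsSplit ((FEt.restrict c).obj ((FEt.restrict b).obj Z')) := by
    refine Groth.Agent.Pi1.H384.SplitBasic.isSplit_of_iso ?_
      (Groth.Agent.Pi1.H384.SplitBasic.isSplit_restrict h hsp1)
    exact (((restrictComp h g).symm ≪≫ restrictCongr hh ≪≫ restrictComp c b).app Z')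
  have hpi : IsPurelyInseparable Ω Ωa := inferInstance
  obtain ⟨h1, h2⟩ := restrict_purInsep Ω Ωa hc
  exact isSplit_of_restrict c h1 h2 _ hsp2

end SepDesc

end K286
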