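import Groth.Agent.Pi1A.FEtAffine
import Groth.Agent.Pi1.H394.Mu
import Groth.Agent.S0294
import Groth.Prelude.Def_Pi1

/-!
# Connected split covers are isomorphisms; orders prime to the characteristic
-/

set_option autoImplicit false

universe u

open CategoryTheory CategoryTheory.Limits AlgebraicGeometry

namespace K286

namespace SplitConn

/-- A connected split finite étale cover is an isomorphism. -/
theorem isIso_of_isSplit {X : Scheme.{u}} (Y : FEt.Cat X) [ConnectedSpace Y.left]
    (h : Pi1.IsSplit Y) : IsIso Y.hom := by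
  obtain ⟨ι, _, e, he⟩ := h
  obtain ⟨y⟩ : Nonempty Y.left := inferInstance
  obtain ⟨⟨i, x⟩, hx⟩ := (sigmaMk (fun _ : ι => X)).surjective (e.hom y)
  have hc : PreconnectedSpace ↥(∐ fun _ : ι => X) := by
    let h := Scheme.homeoOfIso e
    exact ⟨by
      rw [← h.surjective.range_eq, ← Set.image_univ]
      exact isPreconnected_univ.image _ h.continuous.continuousOn⟩
  have hr : Set.range (Sigma.ι (fun _ : ι => X) i) =
      (sigmaMk (fun _ : ι => X)) '' (Set.range (Sigma.mk i)) := by
    rw [← Set.range_comp]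
    apply congrArg
    funext x
    exact (sigmaMk_mk (fun _ : ι => X) i x).symm
  have hcl : IsClopen (Set.range (Sigma.ι (fun _ : ι => X) i)) := by
    rw [hr]
    refine ⟨(sigmaMk (fun _ : ι => X)).isClosedMap _ Topology.IsClosedEmbedding.sigmaMk.isClosed_range,
      (sigmaMk (fun _ : ι => X)).isOpenMap _ Topology.IsOpenEmbedding.sigmaMk.isOpen_range⟩
  have huniv := hcl.eq_univ ⟨_, x, rfl⟩
  have hiso : IsIso (Sigma.ι (fun _ : ι => X) i) :=
    isIso_of_isOpenImmersion_of_opensRange_eq_top _ (TopologicalSpace.Opens.ext huniv)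
  have h1 : e.inv ≫ Y.hom = inv (Sigma.ι (fun _ : ι => X) i) := by
    rw [← cancel_epi (Sigma.ι (fun _ : ι => X) i), he i, IsIso.hom_inv_id]
  have h2 : Y.hom = e.hom ≫ inv (Sigma.ι (fun _ : ι => X) i) := by
    rw [← h1, Iso.hom_inv_id_assoc]
  rw [h2]
  infer_instance

/-- The automorphism group of a connected finite étale cover is finite. -/
theorem finite_aut {X : Scheme.{u}} (K : FEt.Cat X) [ConnectedSpace K.left] : Finite (Aut K) := by
  let x : K.left := Classical.arbitrary _
  let Ω : Type u := AlgebraicClosure (K.left.residueField x)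
  let ζ : Spec (CommRingCat.of Ω) ⟶ K.left :=
    Spec.map (CommRingCat.ofHom (algebraMap (K.left.residueField x) Ω)) ≫
      K.left.fromSpecResidueField x
  let ξ : Spec (CommRingCat.of Ω) ⟶ X := ζ ≫ K.hom
  let a : FEt.fiberObj ξ K := ⟨ζ, rfl⟩
  have hfin : Finite (FEt.fiberObj ξ K) := Groth.Agent.S0294.result ξ K
  have h1 : IsFinite K.hom := K.prop.1
  have h2 : Etale K.hom := K.prop.2
  refine Finite.of_injective (β := FEt.fiberObj ξ K) (fun σ : Aut K => (FEt.fiber ξ).map σ.hom a) ?_
  intro σ τ hst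
  apply Aut.ext
  apply MorphismProperty.Over.Hom.ext
  exact Groth.Agent.Pi1.H394.Mu.hom_ext_of_point (T₀ := Spec (CommRingCat.of Ω)) K.hom _ _
    ((Groth.Agent.Pi1A.FEtAffine.hom_w σ.hom).trans (Groth.Agent.Pi1A.FEtAffine.hom_w τ.hom).symm) ζ
    (congrArg Subtype.val hst)

end SplitConn

/-- A natural number all of whose prime divisors are nonzero in a field is nonzero. -/
theorem natCast_ne_zero {k : Type*} [Field k] {n : ℕ} (hn : n ≠ 0)
    (h : ∀ q : ℕ, q.Prime → q ∣ n → (q : k) ≠ 0) : (n : k) ≠ 0 := by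
  intro h0
  have h1 : ringChar k ∣ n := (ringChar.spec k n).1 h0
  rcases CharP.char_is_prime_or_zero k (ringChar k) with h2 | h2
  · exact h _ h2 h1 (ringChar.Nat.cast_ringChar)
  · rw [h2, Nat.zero_dvd] at h1
    exact hn h1

end K286
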