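import Groth.Agent.SGA4h.K286.Gen
import Groth.Agent.SGA4h.K286.SplitConn

/-!
# Galois covers of the fibres of the henselized line over an algebraic closure of a residue field
-/

set_option autoImplicit false
set_option linter.unusedSectionVars false

universe u

open CategoryTheory CategoryTheory.Limits AlgebraicGeometry Polynomial IsLocalRing TensorProduct

namespace K286

namespace GenClos

open Groth.Agent Groth.Agent.Pi1A.FEtAffine Groth.Agent.EtpbcB
open K286.TransAct

variable {A : Type u} [CommRing A] [HenselianLocalRing A] (P : Ideal A[X]) [P.IsPrime]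
  (hP : P = (maximalIdeal A).map (Polynomial.C : A →+* A[X]) ⊔ Ideal.span {Polynomial.X})
  (R : Type u) [CommRing R] [IsLocalRing R] [Algebra (Localization.AtPrime P) R]
  [IsLocalHom (algebraMap (Localization.AtPrime P) R)]
  [Hensel.IsHenselization (Localization.AtPrime P) R]

include hP in
/-- **Galois covers of degree prime to the residue characteristic of the geometric fibres of the
henselized line are split.** -/
theorem isSplit (A₁ : Type u) [CommRing A₁] [IsDomain A₁] [Algebra A A₁]
    (hsurj : Function.Surjective (algebraMap A A₁)) (k : Type u) [Field k] [Algebra A₁ k]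
    [IsFractionRing A₁ k] (Ω : Type u) [Field Ω] [Algebra k Ω] [IsAlgClosure k Ω]
    (n : ℕ) (hn0 : n ≠ 0) (hn : IsUnit (n : A)) (φ : A →+* Ω)
    (hφ : φ = (algebraMap k Ω).comp ((algebraMap A₁ k).comp (algebraMap A A₁))) {X : Scheme.{u}}
    (x₁ : X ⟶ Spec (CommRingCat.of R)) (x₂ : X ⟶ Spec (CommRingCat.of Ω))
    (hX : IsPullback x₁ x₂ (Spec.map (CommRingCat.ofHom (HenLine.str P R)))
      (Spec.map (CommRingCat.ofHom φ)))
    (Y : FEt.Cat X) {Γ : Type u} [Group Γ] [Finite Γ] (ρ : Γ →* Aut Y) (hρ : TransAct ρ)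
    (hcard : Nat.card Γ ∣ n) : Pi1.IsSplit Y := by
  let _ : Algebra A₁ Ω := ((algebraMap k Ω).comp (algebraMap A₁ k)).toAlgebra
  have : IsScalarTower A₁ k Ω := IsScalarTower.of_algebraMap_eq' rfl
  let _ : Algebra A Ω := φ.toAlgebra
  have : IsScalarTower A A₁ Ω := IsScalarTower.of_algebraMap_eq' hφ
  have hΩ : IsAlgClosed Ω := IsAlgClosure.isAlgClosed k
  have halg : Algebra.IsAlgebraic k Ω := IsAlgClosure.isAlgebraic
  have halg1 : Algebra.IsAlgebraic A₁ Ω :=
    (IsFractionRing.comap_isAlgebraic_iff (A := A₁) (K := k) (C := Ω)).2 halg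
  have hinj : Function.Injective (algebraMap A₁ Ω) :=
    (algebraMap k Ω).injective.comp (IsFractionRing.injective A₁ k)
  let A' := integralClosure A₁ Ω
  have hA'1 : IsIntegrallyClosed A' := SBCIntCl.isIntegrallyClosed_integralClosure A₁ Ω
  have hA'2 : IsFractionRing A' Ω := integralClosure.isFractionRing_of_algebraic
    (fun x hx => hinj (hx.trans (map_zero _).symm))
  let _ : Algebra A A' := ((algebraMap A₁ A').comp (algebraMap A A₁)).toAlgebra
  have : IsScalarTower A A₁ A' := IsScalarTower.of_algebraMap_eq' rfl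
  have hint1 : Algebra.IsIntegral A A₁ := Algebra.isIntegral_of_surjective hsurj
  have hint2 : Algebra.IsIntegral A A' := Algebra.IsIntegral.trans A₁
  exact Gen.isSplit P hP R A' Ω n hn0 hn x₁ x₂ (by
    have h1 : (algebraMap A' Ω).comp (algebraMap A A') = φ := by rw [hφ]; rfl
    rw [h1]
    exact hX) Y ρ hρ hcard

end GenClos

end K286
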