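import Groth.Agent.SGA4h.K286.GoodSec
import Mathlib.LinearAlgebra.Matrix.Nondegenerate
import Mathlib.LinearAlgebra.Matrix.NonsingularInverse

/-!
# Good covers which split along the generic point of a section are finite étale
-/

set_option autoImplicit false
set_option linter.unusedSectionVars false

universe u

open TensorProduct PowerSeries

namespace K286

namespace GoodCover

open Groth.Agent.EtpbcB.LocAcyc

section General

variable {C B : Type u} [CommRing C] [CommRing B] [Algebra C B] {V : Set (PrimeSpectrum C)}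

theorem ext_lin {D M : Type u} [CommRing D] [Algebra C D] [AddCommGroup M] [Module D M]
    (f g : D ⊗[C] B →ₗ[D] M) (h : ∀ b, f (1 ⊗ₜ[C] b) = g (1 ⊗ₜ[C] b)) : f = g := by
  apply LinearMap.ext
  intro x
  induction x using TensorProduct.induction_on with
  | zero => rw [map_zero, map_zero]
  | add x y hx hy => rw [map_add, map_add, hx, hy]
  | tmul d b =>
    have h1 : (d ⊗ₜ[C] b : D ⊗[C] B) = d • (1 ⊗ₜ[C] b) := by
      rw [TensorProduct.smul_tmul', smul_eq_mul, mul_one]
    rw [h1, map_smul, map_smul, h]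

/-- The trace of a finite free algebra is compatible with base change. -/
theorem tr_self [Module.Free C B] [Module.Finite C B] (D : Type u) [CommRing D] [Algebra C D]
    (b : B) : TrForm.tr C B D b = algebraMap C D (Algebra.trace C B b) := by
  rw [TrForm.tr_apply, Algebra.trace_apply, Algebra.trace_apply, ← LinearMap.trace_baseChange]
  congr 1
  apply ext_lin
  intro y
  simp [Algebra.TensorProduct.tmul_mul_tmul]

theorem finrank_eq (h : GoodCover C B V) (𝔮 : PrimeSpectrum C) (h𝔮 : 𝔮 ∈ V) (D : Type u)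
    [CommRing D] [Nontrivial D] [Algebra C D]
    (hD : ∀ c : C, c ∉ 𝔮.asIdeal → IsUnit (algebraMap C D c)) :
    Module.finrank D (D ⊗[C] B) = Module.finrank (Localization.AtPrime 𝔮.asIdeal)
      (Localization.AtPrime 𝔮.asIdeal ⊗[C] B) := by
  let _ := locAlg 𝔮.asIdeal D hD
  have := locAlg_tower 𝔮.asIdeal D hD
  have hloc : ∀ c : C, c ∉ 𝔮.asIdeal → IsUnit (algebraMap C (Localization.AtPrime 𝔮.asIdeal) c) :=
    fun c hc => IsLocalization.map_units (M := 𝔮.asIdeal.primeCompl) _ ⟨c, hc⟩
  have := h.finite 𝔮 h𝔮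
  have := h.free_of 𝔮 h𝔮 (Localization.AtPrime 𝔮.asIdeal) hloc
  let e : D ⊗[Localization.AtPrime 𝔮.asIdeal] (Localization.AtPrime 𝔮.asIdeal ⊗[C] B) ≃ₐ[D]
    D ⊗[C] B := Algebra.TensorProduct.cancelBaseChange C _ D D B
  rw [← e.toLinearEquiv.finrank_eq, Module.finrank_baseChange]

theorem trace_pi (k : Type u) [Field k] (n : ℕ) (x : Fin n → k) :
    Algebra.trace k (Fin n → k) x = ∑ i, x i := by
  rw [Algebra.trace_eq_matrix_trace (Pi.basisFun k (Fin n)), Matrix.trace]
  refine Finset.sum_congr rfl fun i _ => ?_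
  simp [Algebra.leftMulMatrix_eq_repr_mul]

end General

variable {A C B : Type u} [CommRing A] [IsDomain A] [IsNoetherianRing A] [IsIntegrallyClosed A]
  [CommRing C] [CommRing B] [Algebra C B] {V : Set (PrimeSpectrum C)} [Algebra A C]
  {ρ : C →ₐ[A] A} {t : C} (hd : SecData ρ t)
  [IsDomain C] [IsNoetherianRing C] [IsIntegrallyClosed C]

/-- The sections over `A` from sections over the fraction field. -/
theorem exists_section [Module.Finite C B] {k : Type u} [Field k] [Algebra A k]
    [IsFractionRing A k] (χ : B →+* k) (hχ : ∀ c, χ (algebraMap C B c) = algebraMap A k (ρ c)) :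
    ∃ σ : B →+* A, (∀ c, σ (algebraMap C B c) = ρ c) ∧ ∀ b, algebraMap A k (σ b) = χ b := by
  have hinj : Function.Injective (algebraMap A k) := FaithfulSMul.algebraMap_injective A k
  have h1 : ∀ b, ∃ a : A, algebraMap A k a = χ b := by
    intro b
    rw [← IsIntegrallyClosed.isIntegral_iff]
    have h2 : IsIntegral C b := Algebra.IsIntegral.isIntegral b
    refine IsIntegral.map_of_comp_eq (ρ : C →+* A) χ ?_ h2
    ext c
    exact (hχ c).symm
  choose a ha using h1
  refine ⟨{ toFun := a, map_one' := ?_, map_mul' := fun x y => ?_, map_zero' := ?_,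
            map_add' := fun x y => ?_ }, fun c => ?_, fun b => ha b⟩
  · apply hinj
    rw [ha, map_one, map_one]
  · apply hinj
    rw [ha, map_mul, map_mul, ha, ha]
  · apply hinj
    rw [ha, map_zero, map_zero]
  · apply hinj
    rw [ha, map_add, map_add, ha, ha]
  · apply hinj
    exact (ha _).trans (hχ c)

include hd in
/-- **Core theorem**. -/
theorem finite_etale [IsLocalRing C] (h : GoodCover C B V) (hV : ContainsHeightOne V)
    (hρ : ContainsSection ρ V) (k : Type u) [Field k] [Algebra A k] [IsFractionRing A k]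
    [Algebra C k] (hk : ∀ c, algebraMap C k c = algebraMap A k (ρ c)) (n : ℕ)
    (e : k ⊗[C] B ≃ₐ[k] (Fin n → k)) :
    Module.Finite C B ∧ Module.Free C B ∧ Algebra.Etale C B := by
  classical
  have hfin := h.module_finite hV
  refine ⟨hfin, ?_⟩
  have hinj : Function.Injective (algebraMap A k) := FaithfulSMul.algebraMap_injective A k
  -- the generic point of the section
  let 𝔭₀ : PrimeSpectrum A := ⟨⊥, Ideal.isPrime_bot⟩
  have h𝔭₀ : 𝔭₀.asIdeal.height ≤ 1 := by
    change (⊥ : Ideal A).height ≤ 1
    rw [Ideal.height_bot]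
    exact zero_le_one
  let 𝔮₀ : PrimeSpectrum C := PrimeSpectrum.comap (ρ : C →+* A) 𝔭₀
  have h𝔮₀ : 𝔮₀ ∈ V := hρ _ h𝔭₀
  have hku : ∀ c : C, c ∉ 𝔮₀.asIdeal → IsUnit (algebraMap C k c) := fun c hc => by
    rw [hk]
    exact unit_K k (ρ c) hc
  have := h.finite_of _ h𝔮₀ k hku
  -- the sections
  have hsec : ∀ i : Fin n, ∃ σ : B →+* A, (∀ c, σ (algebraMap C B c) = ρ c) ∧
      ∀ b, algebraMap A k (σ b) = e (1 ⊗ₜ[C] b) i := by
    intro i
    obtain ⟨σ, hσ1, hσ2⟩ := exists_section (ρ := ρ) (k := k)
      (((Pi.evalRingHom (fun _ : Fin n => k) i).comp (e : k ⊗[C] B →+* (Fin n → k))).comp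
        (Algebra.TensorProduct.includeRight : B →ₐ[C] k ⊗[C] B).toRingHom) (fun c => by
        change e (1 ⊗ₜ[C] algebraMap C B c) i = _
        have h1 : (1 ⊗ₜ[C] algebraMap C B c : k ⊗[C] B) =
            algebraMap k (k ⊗[C] B) (algebraMap C k c) := by
          rw [Algebra.TensorProduct.algebraMap_apply, Algebra.algebraMap_self, RingHom.id_apply,
            Algebra.algebraMap_eq_smul_one, Algebra.algebraMap_eq_smul_one,
            TensorProduct.smul_tmul]
        rw [h1, AlgEquiv.commutes, hk]
        rfl)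
    exact ⟨σ, hσ1, hσ2⟩
  choose σ hσ1 hσ2 using hsec
  choose y hy using fun i => exists_dual_section hd h hV hρ (σ i) (hσ1 i)
  -- the trace modulo `t`
  have htr : ∀ b, algebraMap A k (ρ (h.Tr hV b)) = ∑ l, e (1 ⊗ₜ[C] b) l := by
    intro b
    rw [← hk, ← h.Tr_spec hV 𝔮₀ h𝔮₀ k hku, TrForm.tr_apply, ← trace_pi]
    exact (Algebra.trace_eq_of_algEquiv e _).symm
  have hortho : ∀ i l, e (1 ⊗ₜ[C] y i) l = if l = i then 1 else 0 := by
    intro i l
    have h1 : ∀ x : k ⊗[C] B, Algebra.trace k (k ⊗[C] B) ((1 ⊗ₜ[C] y i) * x) = e x i := by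
      have h2 : Algebra.traceForm k (k ⊗[C] B) (1 ⊗ₜ[C] y i) =
          (LinearMap.proj i).comp e.toLinearMap := by
        apply ext_lin
        intro b
        rw [Algebra.traceForm_apply, Algebra.TensorProduct.tmul_mul_tmul, one_mul,
          ← TrForm.tr_apply, h.Tr_spec hV 𝔮₀ h𝔮₀ k hku, hk, hy, hσ2]
        rfl
      intro x
      have h3 := LinearMap.congr_fun h2 x
      rw [Algebra.traceForm_apply] at h3
      exact h3
    have h4 := h1 (e.symm (Pi.single l 1))
    rw [← Algebra.trace_eq_of_algEquiv e, map_mul, AlgEquiv.apply_symm_apply, trace_pi] at h4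
    simp only [Pi.mul_apply, Pi.single_apply, mul_ite, mul_one, mul_zero, Finset.sum_ite_eq',
      Finset.mem_univ, if_true] at h4
    rw [h4]
    simp only [eq_comm]
  -- the Gram matrix
  let M : Matrix (Fin n) (Fin n) C := Matrix.of fun i j => h.Tr hV (y i * y j)
  have hMρ : M.map ρ = 1 := by
    ext i j
    apply hinj
    rw [Matrix.map_apply]
    change algebraMap A k (ρ (h.Tr hV (y i * y j))) = _
    rw [htr]
    have h1 : ∀ l, e (1 ⊗ₜ[C] (y i * y j)) l =
        (if l = i then 1 else 0) * (if l = j then 1 else 0) := by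
      intro l
      rw [← hortho, ← hortho, ← Pi.mul_apply, ← map_mul, Algebra.TensorProduct.tmul_mul_tmul,
        one_mul]
    simp only [h1, mul_ite, mul_one, mul_zero, Finset.sum_ite_eq', Finset.mem_univ, if_true,
      Matrix.one_apply]
    by_cases hij : i = j
    · simp [hij]
    · rw [if_neg (fun h => hij h.symm), if_neg hij, map_zero]
  have htn : ¬ IsUnit t := by
    intro htu
    have := htu.map ρ
    rw [hd.rho_t] at this
    exact not_isUnit_zero this
  have hdet : IsUnit M.det := by
    have h1 : ρ M.det = 1 := by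
      have h2 : ρ M.det = (M.map ρ).det := AlgHom.map_det ρ M
      rw [h2, hMρ, Matrix.det_one]
    have h3 : M.det - 1 ∈ Ideal.span {t} := by
      rw [← hd.ker, RingHom.mem_ker, map_sub, h1, map_one, sub_self]
    obtain ⟨c, hc⟩ := Ideal.mem_span_singleton.1 h3
    by_contra hn
    have h4 : (1 : C) ∈ IsLocalRing.maximalIdeal C := by
      have h5 : (1 : C) = M.det - t * c := by
        rw [← hc]
        ring
      rw [h5]
      exact Ideal.sub_mem _ hn (Ideal.mul_mem_right _ _ htn)
    exact h4 isUnit_one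
  -- the generic fibre
  let K := FractionRing C
  have := h.finite_K K hV
  have := h.etale_K K hV
  have hrank : Module.finrank K (K ⊗[C] B) = n := by
    rw [h.finrank_eq 𝔮₀ h𝔮₀ K (fun c hc => unit_K K c (fun h0 => by
      rw [Ideal.mem_bot] at h0
      exact hc (h0 ▸ 𝔮₀.asIdeal.zero_mem))), ← h.finrank_eq 𝔮₀ h𝔮₀ k hku,
      e.toLinearEquiv.finrank_eq, Module.finrank_fin_fun]
  let Y : Fin n → K ⊗[C] B := fun i => 1 ⊗ₜ[C] y i
  have hYM : ∀ i j, Algebra.trace K (K ⊗[C] B) (Y i * Y j) = algebraMap C K (M i j) := by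
    intro i j
    change Algebra.trace K (K ⊗[C] B) ((1 ⊗ₜ[C] y i) * (1 ⊗ₜ[C] y j)) = _
    rw [Algebra.TensorProduct.tmul_mul_tmul, one_mul, ← TrForm.tr_apply, Tr_spec₀ h hV]
    rfl
  have hMK : (M.map (algebraMap C K)).det ≠ 0 := by
    have h1 : (M.map (algebraMap C K)).det = algebraMap C K M.det := (RingHom.map_det _ _).symm
    rw [h1]
    exact (hdet.map (algebraMap C K)).ne_zero
  have hYli : LinearIndependent K Y := by
    rw [Fintype.linearIndependent_iff]
    intro g hg
    have h1 : Matrix.vecMul g (M.map (algebraMap C K)) = 0 := by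
      ext j
      rw [Matrix.vecMul, dotProduct]
      have h2 := congrArg (fun x => Algebra.trace K (K ⊗[C] B) (x * Y j)) hg
      simp only [Finset.sum_mul, map_sum, smul_mul_assoc, map_smul, hYM, zero_mul, map_zero,
        smul_eq_mul] at h2
      exact h2
    exact fun i => congrFun (Matrix.eq_zero_of_vecMul_eq_zero hMK h1) i
  have hYsp : Submodule.span K (Set.range Y) = ⊤ :=
    hYli.span_eq_top_of_card_eq_finrank' (by rw [Fintype.card_fin, hrank])
  -- the basis
  have hli : LinearIndependent C y := by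
    rw [Fintype.linearIndependent_iff] at hYli ⊢
    intro g hg i
    have h1 := hYli (fun i => algebraMap C K (g i)) (by
      have h2 := congrArg (fun b => (1 ⊗ₜ[C] b : K ⊗[C] B)) hg
      simp only [TensorProduct.tmul_sum, TensorProduct.tmul_smul, TensorProduct.tmul_zero] at h2
      rw [← h2]
      refine Finset.sum_congr rfl fun j _ => ?_
      rw [algebraMap_smul]) i
    rwa [FaithfulSMul.algebraMap_eq_zero_iff] at h1
  have hsp : ⊤ ≤ Submodule.span C (Set.range y) := by
    intro b _
    let v : Fin n → C := fun j => h.Tr hV (b * y j)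
    let c : Fin n → C := Matrix.vecMul v M⁻¹
    have hc : Matrix.vecMul c M = v := by
      rw [Matrix.vecMul_vecMul, Matrix.nonsing_inv_mul M hdet, Matrix.vecMul_one]
    have hb : b - ∑ i, c i • y i = 0 := by
      apply h.injective K
      rw [TensorProduct.tmul_zero]
      have h5 : Algebra.traceForm K (K ⊗[C] B) (1 ⊗ₜ[C] (b - ∑ i, c i • y i)) = 0 := by
        apply LinearMap.ext_on_range hYsp
        intro j
        rw [Algebra.traceForm_apply]
        change Algebra.trace K (K ⊗[C] B) ((1 ⊗ₜ[C] (b - ∑ i, c i • y i)) * (1 ⊗ₜ[C] y j)) = 0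
        rw [Algebra.TensorProduct.tmul_mul_tmul, one_mul, ← TrForm.tr_apply, Tr_spec₀ h hV]
        have h6 : h.Tr hV ((b - ∑ i, c i • y i) * y j) = 0 := by
          have h7 := congrFun hc j
          rw [Matrix.vecMul, dotProduct] at h7
          rw [sub_mul, map_sub, Finset.sum_mul, map_sum]
          simp only [smul_mul_assoc, map_smul, smul_eq_mul]
          change v j - ∑ i, c i * M i j = 0
          rw [h7, sub_self]
        rw [h6, map_zero]
      exact (Groth.Agent.S2733.bijective_traceForm_of_etale (A := K) (B := K ⊗[C] B)).1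
        (h5.trans (map_zero _).symm)
    rw [sub_eq_zero] at hb
    rw [hb]
    exact Submodule.sum_mem _ fun i _ => Submodule.smul_mem _ _ (Submodule.subset_span ⟨i, rfl⟩)
  let β : Module.Basis (Fin n) C B := Module.Basis.mk hli hsp
  have hfree : Module.Free C B := Module.Free.of_basis β
  refine ⟨hfree, Groth.Agent.S2733.etale_of_bijective_traceForm ?_⟩
  rw [Groth.Agent.S2733.bijective_traceForm_iff_isUnit_discr β, Algebra.discr_def]
  have h8 : Algebra.traceMatrix C β = M := by
    ext i j
    apply FaithfulSMul.algebraMap_injective C K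
    rw [Algebra.traceMatrix, Matrix.of_apply, Algebra.traceForm_apply, ← tr_self, Tr_spec₀ h hV]
    simp only [β, Module.Basis.mk_apply]
    rfl
  rw [h8]
  exact hdet

end GoodCover

end K286
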