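import Groth.Agent.SGA4h.K286.GoodGeom2
import Groth.Agent.SGA4h.K286.GoodCore
import Groth.Agent.Pi1.H395.PurityGen

/-!
# Finite étale covers which split along a section (Lefschetz type theorem)
-/

set_option autoImplicit false
set_option linter.unusedSectionVars false

universe u

open CategoryTheory CategoryTheory.Limits AlgebraicGeometry TensorProduct

namespace K286

namespace LefSplit

open Groth.Agent Groth.Agent.EtpbcB.LocAcyc

/-- Going down for heights. -/
theorem height_comap_le {A C : Type u} [CommRing A] [CommRing C] [Algebra A C]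
    [IsNoetherianRing A] [IsNoetherianRing C] [Module.Flat A C] (n' : Ideal C) [n'.IsPrime] :
    (n'.comap (algebraMap A C)).height ≤ n'.height := by
  have : n'.LiesOver (n'.comap (algebraMap A C)) := ⟨rfl⟩
  rw [Ideal.height_eq_height_add_of_liesOver_of_hasGoingDown (n'.comap (algebraMap A C)) n']
  exact le_self_add

/-- **Lefschetz type theorem.** -/
theorem isSplit {A C : Type u} [CommRing A] [IsDomain A] [IsNoetherianRing A]
    [IsIntegrallyClosed A] [CommRing C] [IsDomain C] [IsNoetherianRing C] [IsIntegrallyClosed C]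
    [HenselianLocalRing C] [IsSepClosed (IsLocalRing.ResidueField C)] [Algebra A C]
    [Module.Flat A C] (ρ : C →ₐ[A] A) (t : C) (hd : SecData ρ t)
    (U : (Spec (CommRingCat.of A)).Opens)
    (hU : ∀ p : PrimeSpectrum A, p ∉ U → (2 : WithBot ℕ∞) ≤ ringKrullDim (Localization.AtPrime p.asIdeal))
    (V : (Spec (CommRingCat.of C)).Opens)
    (hV : V = Spec.map (CommRingCat.ofHom (algebraMap A C)) ⁻¹ᵁ U)
    (W : FEt.Cat (V : Scheme.{u})) (k : Type u) [Field k] [Algebra A k] [IsFractionRing A k]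
    (β : Spec (CommRingCat.of k) ⟶ V)
    (hβ : β ≫ V.ι = Spec.map (CommRingCat.ofHom ((algebraMap A k).comp (ρ : C →+* A))))
    (hs : Pi1.IsSplit ((FEt.restrict β).obj W)) : Pi1.IsSplit W := by
  have hUle : ∀ p : PrimeSpectrum A, p.asIdeal.height ≤ 1 → p ∈ U := by
    intro p hp
    by_contra hpU
    have h1 := hU p hpU
    rw [IsLocalization.AtPrime.ringKrullDim_eq_height p.asIdeal] at h1
    have h2 : (2 : ℕ∞) ≤ p.asIdeal.height := WithBot.coe_le_coe.1 h1
    have h3 : (2 : ℕ∞) ≤ 1 := h2.trans hp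
    exact absurd h3 (by decide)
  have hcompact : CompactSpace V := by
    have : TopologicalSpace.NoetherianSpace (Spec (CommRingCat.of C)) :=
      inferInstanceAs (TopologicalSpace.NoetherianSpace (PrimeSpectrum C))
    exact isCompact_iff_compactSpace.mp (TopologicalSpace.NoetherianSpace.isCompact
      (V : Set (Spec (CommRingCat.of C))))
  have hgood := GoodGeom.goodCover V W
  have hV1 : GoodCover.ContainsHeightOne {x : PrimeSpectrum C | x ∈ V} := by
    intro 𝔮 h𝔮
    have h1 : (PrimeSpectrum.comap (algebraMap A C) 𝔮).asIdeal.height ≤ 1 :=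
      (height_comap_le 𝔮.asIdeal).trans h𝔮
    have h2 := hUle _ h1
    change 𝔮 ∈ V
    rw [hV]
    exact h2
  have hρ1 : GoodCover.ContainsSection ρ {x : PrimeSpectrum C | x ∈ V} := by
    intro 𝔭 h𝔭
    have h1 : PrimeSpectrum.comap (algebraMap A C) (PrimeSpectrum.comap (ρ : C →+* A) 𝔭) = 𝔭 := by
      rw [← PrimeSpectrum.comap_comp_apply]
      have h2 : (ρ : C →+* A).comp (algebraMap A C) = RingHom.id A := by
        ext a
        simp
      rw [h2]
      rfl
    have h2 := hUle _ h𝔭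
    change PrimeSpectrum.comap (ρ : C →+* A) 𝔭 ∈ V
    rw [hV]
    change PrimeSpectrum.comap (algebraMap A C) (PrimeSpectrum.comap (ρ : C →+* A) 𝔭) ∈ U
    rwa [h1]
  let _ : Algebra C k := ((algebraMap A k).comp (ρ : C →+* A)).toAlgebra
  obtain ⟨ι, hι, ⟨e⟩⟩ := GoodGeom.exists_algEquiv V W k β hβ hs
  obtain ⟨n, ⟨i⟩⟩ := Finite.exists_equiv_fin ι
  let e' : k ⊗[C] GoodGeom.Fn V W ≃ₐ[k] (Fin n → k) :=
    e.trans (AlgEquiv.piCongrLeft' k (fun _ => k) i)
  obtain ⟨hf, -, he⟩ := GoodCover.finite_etale hd hgood hV1 hρ1 k (fun c => rfl) n e'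
  let Y : FEt.Cat (Spec (CommRingCat.of C)) := Pi1A.FEtAffine.ofAlgebra C (GoodGeom.Fn V W)
  have hY : Pi1.IsSplit Y := Groth.Agent.Pi1.H395.PurityGen.isSplit_of_henselian C Y
  have iso : (FEt.restrict V.ι).obj Y ≅ W :=
    Pi1C.FEtExtend.isoOfIsPullback V.ι Y W W.left.toSpecΓ (GoodGeom.isPullback_Fn V W)
  exact Groth.Agent.Pi1.H384.SplitBasic.isSplit_of_iso iso (Groth.Agent.Pi1.H384.SplitBasic.isSplit_restrict V.ι hY)

end LefSplit

end K286
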