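import Groth.Agent.SGA4h.K286.AbhGal
import Groth.Agent.Pi1.H382.Extend

/-!
# Extension over the special fibre of Galois covers, after adjoining an `n`-th root of the uniformizer
-/

set_option autoImplicit false
set_option linter.unusedSectionVars false

universe u v

open CategoryTheory CategoryTheory.Limits AlgebraicGeometry IsLocalRing

namespace K286.Extend

open Groth.Agent.Pi1A.FEtAffine Groth.Agent.Pi1.H383.PrincBC K286.TransAct
open Groth.Agent.Pi1.H382.StalkDvr Groth.Agent.Pi1.H382.BC Groth.Agent.Pi1.H382.Trait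
open Groth.Agent.Pi1.H382.Abh Groth.Agent.Pi1.H382.Extend

section

variable {V : Type u} [CommRing V] [IsDomain V] [IsDiscreteValuationRing V]
  {Y : Scheme.{u}} (p : Y ⟶ Spec (CommRingCat.of V))

/-- At a maximal point of the special fibre the maximal ideal is generated by the uniformizer. -/
theorem maximalIdeal_eq [Smooth p] {ϖ : V} (hϖ : Irreducible ϖ) {ξ : Y} (hξ : p ξ = closedPoint V)
    (hgen : ∀ y : Y, y ⤳ ξ → p y = closedPoint V → y = ξ) :
    maximalIdeal (Y.presheaf.stalk ξ) = Ideal.span {sm p ξ ϖ} := by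
  have hp := isPrime_span p hϖ hξ
  let z : PrimeSpectrum (Y.presheaf.stalk ξ) := ⟨_, hp⟩
  have h1 : p (Y.fromSpecStalk ξ z) = closedPoint V :=
    (sm_mem_iff p hϖ ξ z).mp (Ideal.mem_span_singleton_self _)
  have h2 : Y.fromSpecStalk ξ z ⤳ ξ := by
    have : Y.fromSpecStalk ξ z ∈ Set.range (Y.fromSpecStalk ξ) := ⟨z, rfl⟩
    rw [Scheme.range_fromSpecStalk] at this
    exact this
  have h3 : Y.fromSpecStalk ξ z = ξ := hgen _ h2 h1
  have h4 : z = closedPoint (Y.presheaf.stalk ξ) := by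
    apply (IsPreimmersion.isEmbedding (f := Y.fromSpecStalk ξ)).injective
    rw [h3, Scheme.fromSpecStalk_closedPoint]
  have h5 : z.asIdeal = (closedPoint (Y.presheaf.stalk ξ)).asIdeal := by rw [h4]
  exact h5.symm

theorem isDiscreteValuationRing [Smooth p] {ϖ : V} (hϖ : Irreducible ϖ) {ξ : Y}
    (hξ : p ξ = closedPoint V) (hgen : ∀ y : Y, y ⤳ ξ → p y = closedPoint V → y = ξ)
    [IsDomain (Y.presheaf.stalk ξ)] :
    IsDiscreteValuationRing (Y.presheaf.stalk ξ) ∧ Irreducible (sm p ξ ϖ) := by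
  have hmax := maximalIdeal_eq p hϖ hξ hgen
  have hne : sm p ξ ϖ ≠ 0 := by
    intro h
    exact hϖ.ne_zero (sm_injective p ξ (h.trans (map_zero _).symm))
  have hnf : ¬ IsField (Y.presheaf.stalk ξ) := by
    rw [IsLocalRing.isField_iff_maximalIdeal_eq, hmax, Ideal.span_singleton_eq_bot]
    exact hne
  have hreg := isRegularLocalRing p ξ
  have hdvr : IsDiscreteValuationRing (Y.presheaf.stalk ξ) := by
    refine ((IsDiscreteValuationRing.TFAE _ hnf).out 4 0).mp ?_
    rw [hmax]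
    exact ⟨⟨_, rfl⟩⟩
  exact ⟨hdvr, (IsDiscreteValuationRing.irreducible_iff_uniformizer _).mpr hmax⟩

end

/-- Extension of a Galois cover of the generic fibre after adjoining an `n`-th root of the uniformizer,
`n` an invertible multiple of the order of the group. -/
theorem exists_extension {V K : Type u} [CommRing V] [IsDomain V] [IsDiscreteValuationRing V]
    [Field K] [Algebra V K] [IsFractionRing V K] {Y G : Scheme.{u}}
    {p : Y ⟶ Spec (CommRingCat.of V)} {g : G ⟶ Y} {k : G ⟶ Spec (CommRingCat.of K)} [Smooth p]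
    (hG : IsPullback g k p (Spec.map (CommRingCat.ofHom (algebraMap V K))))
    {ϖ : V} (hϖ : Irreducible ϖ) (W₀ : FEt.Cat G) {Γ : Type u} [Group Γ] (ρ : Γ →* Aut W₀)
    (hρ : TransAct ρ) (n : ℕ) (hn : IsUnit (n : V)) (hcard : Nat.card Γ ∣ n)
    (V₂ K₂ : Type u) [CommRing V₂] [IsDomain V₂] [IsDiscreteValuationRing V₂] [Field K₂]
    [Algebra V₂ K₂] [IsFractionRing V₂ K₂] (ψ : V →+* V₂) [IsLocalHom ψ]
    (hψ : Function.Injective ψ) (t : V₂) (ht : t ^ n = ψ ϖ) (Y₂ G₂ : Scheme.{u})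
    (p₂ : Y₂ ⟶ Spec (CommRingCat.of V₂)) [Smooth p₂] (h : Y₂ ⟶ Y) [Flat h]
    (hw : h ≫ p = p₂ ≫ Spec.map (CommRingCat.ofHom ψ))
    (g₂ : G₂ ⟶ Y₂) (k₂ : G₂ ⟶ Spec (CommRingCat.of K₂))
    (hG₂ : IsPullback g₂ k₂ p₂ (Spec.map (CommRingCat.ofHom (algebraMap V₂ K₂))))
    (m : G₂ ⟶ G) (hm : m ≫ g = g₂ ≫ h) :
    ∃ Y' : FEt.Cat Y₂, Nonempty ((FEt.restrict g₂).obj Y' ≅ (FEt.restrict m).obj W₀) := by
  have hg := isOpenImmersion_generic hG
  have hg₂ := isOpenImmersion_generic hG₂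
  have hYn : IsLocallyNoetherian Y₂ := LocallyOfFiniteType.isLocallyNoetherian p₂
  let U : Y₂.Opens := g₂.opensRange
  let e : (U : Scheme.{u}) ⟶ G₂ := g₂.isoOpensRange.inv
  have he : e ≫ g₂ = U.ι := g₂.isoOpensRange_inv_comp
  let Z : FEt.Cat (U : Scheme.{u}) := (FEt.restrict (e ≫ m)).obj W₀
  have hU : ∀ y : Y₂, y ∉ U → p₂ y = closedPoint V₂ := by
    intro y hy
    by_contra h1
    exact hy ((mem_range_iff hG₂ y).mpr h1)
  obtain ⟨Y', ⟨i⟩⟩ := Groth.Agent.S0287.result U (dense_generic hG₂) Z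
    (fun x _ => isRegularLocalRing p₂ x) (by
      intro ξ₂ hξ₂ hdim
      have hp₂ := hU ξ₂ hξ₂
      have hph : ∀ y : Y₂, p (h y) = Spec.map (CommRingCat.ofHom ψ) (p₂ y) := by
        intro y
        rw [← Scheme.Hom.comp_apply, hw, Scheme.Hom.comp_apply]
      have hx : p (h ξ₂) = closedPoint V := by
        rw [hph, hp₂]
        exact specMap_closedPoint ψ
      let ξ : Y := h ξ₂
      have hgen : ∀ y : Y, y ⤳ ξ → p y = closedPoint V → y = ξ := by
        intro y hy hpy
        obtain ⟨ξ₂', h1, h2⟩ := Flat.generalizingMap h hy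
        have hp₂' : p₂ ξ₂' = closedPoint V₂ := by
          rcases eq_closedPoint_or_eq_bot (p₂ ξ₂') with h3 | h3
          · exact h3
          · exfalso
            have h4 := hph ξ₂'
            rw [h2, hpy, h3] at h4
            exact bot_ne_closedPoint ((specMap_bot ψ hψ).symm.trans h4.symm)
        have h3 : ξ₂' = ξ₂ := eq_of_specializes p₂ h1 hp₂' hdim.le
        rw [← h2, h3]
      have hdom := isDomain p ξ
      obtain ⟨hdvr, hirr⟩ := isDiscreteValuationRing p hϖ hx hgen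
      let O : Type u := Y.presheaf.stalk ξ
      let F := FractionRing O
      have hOF : IsOpenImmersion (specMap O F) :=
        Groth.Agent.Models.DVRGeneric.isOpenImmersion_generic O F
      -- the generic point
      have hne : ∀ x : PrimeSpectrum O, x ≠ closedPoint O → Y.fromSpecStalk ξ x ∈ Set.range g := by
        intro x hx'
        rw [mem_range_iff hG]
        intro h1
        apply hx'
        have h2 := (sm_mem_iff p hϖ ξ x).mpr h1
        have h3 : maximalIdeal O ≤ x.asIdeal := by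
          rw [maximalIdeal_eq p hϖ hx hgen, Ideal.span_singleton_le_iff_mem]
          exact h2
        apply PrimeSpectrum.ext
        exact (((IsLocalRing.maximalIdeal.isMaximal O).eq_of_le x.isPrime.ne_top h3)).symm
      have hF : ∀ x : ↥(Spec (CommRingCat.of F)), (specMap O F) x ≠ closedPoint O := by
        intro x h1
        have h6 : x = (⊥ : PrimeSpectrum F) := Subsingleton.elim (α := PrimeSpectrum F) _ _
        have h7 : (closedPoint O).asIdeal = ⊥ := by
          rw [← h1, h6]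
          change Ideal.comap (algebraMap O F) ⊥ = ⊥
          rw [← RingHom.ker_eq_comap_bot]
          exact (RingHom.injective_iff_ker_eq_bot _).mp (IsFractionRing.injective O F)
        exact IsDiscreteValuationRing.not_a_field O h7
      let j₀ : Spec (CommRingCat.of F) ⟶ G := IsOpenImmersion.lift g (specMap O F ≫ Y.fromSpecStalk ξ) (by
        rintro _ ⟨x, rfl⟩
        rw [Scheme.Hom.comp_apply]
        exact hne _ (hF x))
      have hj₀ : j₀ ≫ g = specMap O F ≫ Y.fromSpecStalk ξ := IsOpenImmersion.lift_fac _ _ _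
      have hnO : (n : O) ∉ maximalIdeal O := by
        have h1 : IsUnit (n : O) := by
          have h2 := hn.map (sm p ξ)
          rwa [map_natCast] at h2
        exact fun h2 => h2 h1
      obtain ⟨W₂, hW₂⟩ := K286.AbhGal.exists_ext O F hirr n hnO ((FEt.restrict j₀).obj W₀)
        (bcAction j₀ ρ) (K286.TransAct.bc hρ j₀) hcard (Y₂.presheaf.stalk ξ₂) (h.stalkMap ξ₂).hom
        (sm p₂ ξ₂ t) (by rw [stalkMap_sm h ψ hw, ← ht, map_pow])
      refine ⟨W₂, ?_⟩
      let P := pullback U.ι (Y₂.fromSpecStalk ξ₂)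
      let a : P ⟶ Spec (CommRingCat.of (Y₂.presheaf.stalk ξ₂)) := pullback.snd U.ι (Y₂.fromSpecStalk ξ₂)
      have hst : Spec.map (CommRingCat.ofHom (h.stalkMap ξ₂).hom) ≫ Y.fromSpecStalk ξ =
          Y₂.fromSpecStalk ξ₂ ≫ h := Scheme.SpecMap_stalkMap_fromSpecStalk h
      let b : P ⟶ (U : Scheme.{u}) := pullback.fst U.ι (Y₂.fromSpecStalk ξ₂)
      have hPw : b ≫ U.ι = a ≫ Y₂.fromSpecStalk ξ₂ := pullback.condition
      have key : (a ≫ Spec.map (CommRingCat.ofHom (h.stalkMap ξ₂).hom)) ≫ Y.fromSpecStalk ξ =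
          (b ≫ e ≫ m) ≫ g :=
        calc (a ≫ Spec.map (CommRingCat.ofHom (h.stalkMap ξ₂).hom)) ≫ Y.fromSpecStalk ξ
            = a ≫ Y₂.fromSpecStalk ξ₂ ≫ h := by rw [Category.assoc, hst]
          _ = (b ≫ U.ι) ≫ h := by rw [hPw, Category.assoc]
          _ = (b ≫ e ≫ g₂) ≫ h := by rw [he]
          _ = (b ≫ e ≫ m) ≫ g := by rw [Category.assoc, Category.assoc, Category.assoc,
                Category.assoc, hm]
      let c : P ⟶ Spec (CommRingCat.of F) := IsOpenImmersion.lift (specMap O F)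
        (a ≫ Spec.map (CommRingCat.ofHom (h.stalkMap ξ₂).hom)) (by
        rintro _ ⟨x, rfl⟩
        refine Groth.Agent.Models.DVRGeneric.range_generic O F _ ?_
        intro h1
        have h2 : p (Y.fromSpecStalk ξ
            ((a ≫ Spec.map (CommRingCat.ofHom (h.stalkMap ξ₂).hom)) x)) = closedPoint V := by
          rw [h1, Scheme.fromSpecStalk_closedPoint]
          exact hx
        have h3 : Y.fromSpecStalk ξ
            ((a ≫ Spec.map (CommRingCat.ofHom (h.stalkMap ξ₂).hom)) x) = g ((b ≫ e ≫ m) x) := by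
          rw [← Scheme.Hom.comp_apply, key, Scheme.Hom.comp_apply]
        rw [h3] at h2
        exact (mem_range_iff hG _).mp ⟨_, rfl⟩ h2)
      have hc : c ≫ specMap O F = a ≫ Spec.map (CommRingCat.ofHom (h.stalkMap ξ₂).hom) :=
        IsOpenImmersion.lift_fac _ _ _
      obtain ⟨i⟩ := hW₂ P a c hc
      have hcj : c ≫ j₀ = b ≫ e ≫ m := by
        rw [← cancel_mono g, Category.assoc, hj₀, ← Category.assoc, hc, key]
      obtain ⟨j⟩ := (Bc.refl (e ≫ m) W₀).comp (Bc.refl (pullback.fst U.ι (Y₂.fromSpecStalk ξ₂)) Z)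
      obtain ⟨j'⟩ := (Bc.refl j₀ W₀).comp' hcj (Bc.refl c _)
      exact ⟨i ≪≫ j'.symm ≪≫ j⟩)
  refine ⟨Y', ?_⟩
  have e1 : Bc g₂ Y' ((FEt.restrict g₂.isoOpensRange.hom).obj Z) :=
    (show Bc U.ι Y' Z from ⟨i⟩).comp' (g₂.isoOpensRange_hom_ι) (Bc.refl _ Z)
  have e2 : Bc m W₀ ((FEt.restrict g₂.isoOpensRange.hom).obj Z) :=
    (Bc.refl (e ≫ m) W₀).comp' (by
      rw [← Category.assoc]
      change (g₂.isoOpensRange.hom ≫ g₂.isoOpensRange.inv) ≫ m = m
      rw [Iso.hom_inv_id, Category.id_comp]) (Bc.refl _ Z)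
  obtain ⟨i1⟩ := e1
  obtain ⟨i2⟩ := e2
  exact ⟨i1 ≪≫ i2.symm⟩

end K286.Extend
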