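import Groth.Agent.SGA4h.K286.AbhGal

/-!
# `AdjoinRoot (X ^ n - C ϖ)` over a discrete valuation ring is a discrete valuation ring
-/

set_option autoImplicit false

universe u

open IsLocalRing Polynomial

namespace K286.KumAdjoin

open Groth.Agent.Sga1.AbhKumDvr

/-- The two presentations of `R[T]/(T^n - ϖ)`. -/
noncomputable def equiv (R : Type u) [CommRing R] (ϖ : R) (n : ℕ) :
    Kum R ϖ n ≃+* AdjoinRoot (X ^ n - C ϖ : R[X]) := by
  have h1 : (AdjoinRoot.root (X ^ n - C ϖ : R[X])) ^ n = algebraMap R _ ϖ := by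
    have h2 := AdjoinRoot.eval₂_root (X ^ n - C ϖ : R[X])
    rw [eval₂_sub, eval₂_pow, eval₂_X, eval₂_C, sub_eq_zero] at h2
    exact h2
  let φ : Kum R ϖ n →+* AdjoinRoot (X ^ n - C ϖ : R[X]) :=
    K286.AbhGal.kumMap (algebraMap R (AdjoinRoot (X ^ n - C ϖ : R[X]))) ϖ n (AdjoinRoot.root _) h1
  let ψ : AdjoinRoot (X ^ n - C ϖ : R[X]) →+* Kum R ϖ n :=
    AdjoinRoot.lift (algebraMap R (Kum R ϖ n)) (root R ϖ n) (by
      rw [eval₂_sub, eval₂_pow, eval₂_X, eval₂_C, root_pow, sub_self])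
  have hφC : ∀ r : R, φ (algebraMap R _ r) = algebraMap R _ r := fun r =>
    DFunLike.congr_fun (K286.AbhGal.kumMap_algebraMap
        (algebraMap R (AdjoinRoot (X ^ n - C ϖ : R[X]))) ϖ n (AdjoinRoot.root _) h1) r
  have hφX : φ (root R ϖ n) = AdjoinRoot.root _ := MvPolynomial.eval₂Hom_X' _ _ _
  have hψC : ∀ r : R, ψ (algebraMap R _ r) = algebraMap R _ r := fun r => AdjoinRoot.lift_of _
  have hψX : ψ (AdjoinRoot.root _) = root R ϖ n := AdjoinRoot.lift_root _
  refine RingEquiv.ofRingHom φ ψ ?_ ?_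
  · refine AdjoinRoot.ringHom_ext (RingHom.ext fun r => ?_) ?_
    · change φ (ψ (algebraMap R _ r)) = algebraMap R _ r
      rw [hψC, hφC]
    · change φ (ψ (AdjoinRoot.root _)) = AdjoinRoot.root _
      rw [hψX, hφX]
  · apply Ideal.Quotient.ringHom_ext
    apply MvPolynomial.ringHom_ext
    · intro r
      change ψ (φ (algebraMap R _ r)) = algebraMap R _ r
      rw [hφC, hψC]
    · intro i
      rw [Subsingleton.elim i 0]
      change ψ (φ (root R ϖ n)) = root R ϖ n
      rw [hφX, hψX]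

section

variable (R : Type u) [CommRing R] [IsDomain R] [IsDiscreteValuationRing R] {ϖ : R}
  (hϖ : Irreducible ϖ) (n : ℕ) (hn : 1 ≤ n)

include hϖ hn

theorem isDomain : IsDomain (AdjoinRoot (X ^ n - C ϖ : R[X])) := by
  have h := Groth.Agent.Sga1.AbhKumDvr.isDomain R hϖ n hn
  exact (equiv R ϖ n).symm.toMulEquiv.isDomain _

theorem isDiscreteValuationRing [IsDomain (AdjoinRoot (X ^ n - C ϖ : R[X]))] :
    IsDiscreteValuationRing (AdjoinRoot (X ^ n - C ϖ : R[X])) := by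
  have h := Groth.Agent.Sga1.AbhKumDvr.isDomain R hϖ n hn
  obtain ⟨h1, -⟩ := Groth.Agent.Sga1.AbhKumDvr.isDiscreteValuationRing R hϖ n hn
  exact IsDiscreteValuationRing.RingEquivClass.isDiscreteValuationRing (equiv R ϖ n)

end

end K286.KumAdjoin
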