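import Groth.Agent.Pi1.H382.BC
import Groth.Agent.Pi1.H383.PrincBC

/-!
# Group actions on finite étale covers which are transitive on geometric fibres
-/

set_option autoImplicit false

universe u v

open CategoryTheory CategoryTheory.Limits AlgebraicGeometry

namespace K286.TransAct

open Groth.Agent.Pi1A.FEtAffine Groth.Agent.Pi1.H383.PrincBC

/-- A group acting on a finite étale cover, transitively on the geometric fibres. -/
def TransAct {X : Scheme.{u}} {W : FEt.Cat X} {G : Type v} [Group G] (ρ : G →* Aut W) : Prop :=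
  ∀ (Ω : Type u) [Field Ω] [IsAlgClosed Ω] (s t : Spec (CommRingCat.of Ω) ⟶ W.left),
    s ≫ W.hom = t ≫ W.hom → ∃ σ, s ≫ (ρ σ).hom.left = t

variable {X Y : Scheme.{u}} {W : FEt.Cat X} {G : Type v} [Group G]

/-- Transitivity in terms of fibre functors. -/
theorem of_fiber (h : ∀ (Ω : Type u) [Field Ω] [IsAlgClosed Ω]
    (ξ : Spec (CommRingCat.of Ω) ⟶ X) (s s' : FEt.fiberObj ξ W),
    ∃ σ : Aut W, (FEt.fiber ξ).map σ.hom s = s') : TransAct (MonoidHom.id (Aut W)) := by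
  intro Ω _ _ s t hst
  obtain ⟨σ, hσ⟩ := h Ω (s ≫ W.hom) ⟨s, rfl⟩ ⟨t, hst.symm⟩
  exact ⟨σ, congrArg Subtype.val hσ⟩

theorem bc {ρ : G →* Aut W} (h : TransAct ρ) (g : Y ⟶ X) : TransAct (bcAction g ρ) := by
  intro Ω _ _ s t hst
  obtain ⟨σ, hσ⟩ := h Ω (s ≫ proj g W) (t ≫ proj g W) (by
    rw [Category.assoc, Category.assoc, (isPullback g W).w, ← Category.assoc, hst, Category.assoc])
  refine ⟨σ, (isPullback g W).hom_ext ?_ ?_⟩
  · rw [bcAction_hom, Category.assoc, map_left_proj, ← Category.assoc, hσ]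
  · rw [Category.assoc, hom_w, hst]

theorem conj {ρ : G →* Aut W} (h : TransAct ρ) {V : FEt.Cat X} (e : W ≅ V) :
    TransAct (conjAction e ρ) := by
  intro Ω _ _ s t hst
  obtain ⟨σ, hσ⟩ := h Ω (s ≫ e.inv.left) (t ≫ e.inv.left) (by
    rw [Category.assoc, Category.assoc, hom_w, hst])
  refine ⟨σ, ?_⟩
  rw [conjAction_hom]
  have h1 : (e.inv ≫ (ρ σ).hom ≫ e.hom).left = e.inv.left ≫ (ρ σ).hom.left ≫ e.hom.left := rfl
  have h2 : e.inv.left ≫ e.hom.left = 𝟙 _ := by
    have h3 : (e.inv ≫ e.hom).left = 𝟙 _ := by rw [e.inv_hom_id]; rfl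
    exact h3
  rw [h1, ← Category.assoc, ← Category.assoc, hσ, Category.assoc, h2, Category.comp_id]

end K286.TransAct
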