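import Groth.Agent.SGA4h.K286.TameDvd
import Groth.Agent.SGA4h.K286.TransAct
import Groth.Agent.Models.DVRGeneric

/-!
# Abhyankar's lemma for Galois covers of the generic point of a discrete valuation ring

After adjoining an `n`-th root of a uniformizer, `n` the (invertible) order of the group, a cover of the
generic point on which the group acts transitively extends.
-/

set_option autoImplicit false

universe u v

open CategoryTheory CategoryTheory.Limits AlgebraicGeometry IsLocalRing TensorProduct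

namespace K286.AbhGal

open Groth.Agent.Pi1A.FEtAffine Groth.Agent.Pi1.H383.PrincBC K286.TransAct K286.TameDvd
open Groth.Agent.Pi1.H382.BC Groth.Agent.Sga1.AbhKumDvr Groth.Agent.Sga1.AbhKum

/-- The map out of a Kummer algebra. -/
noncomputable def kumMap {O O₂ : Type u} [CommRing O] [CommRing O₂] (φ : O →+* O₂) (ϖ : O)
    (n : ℕ) (τ : O₂) (hτ : τ ^ n = φ ϖ) : Kum O ϖ n →+* O₂ :=
  Ideal.Quotient.lift _ (MvPolynomial.eval₂Hom φ (fun _ => τ)) (by
    intro a ha
    have h : Ideal.span (Set.range fun i : Fin 1 => (MvPolynomial.X i : MvPolynomial (Fin 1) O) ^ n -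
        MvPolynomial.C ϖ) ≤ RingHom.ker (MvPolynomial.eval₂Hom φ (fun _ => τ)) := by
      rw [Ideal.span_le]
      rintro _ ⟨i, rfl⟩
      simp [RingHom.mem_ker, hτ]
    exact h ha)

theorem kumMap_algebraMap {O O₂ : Type u} [CommRing O] [CommRing O₂] (φ : O →+* O₂)
    (ϖ : O) (n : ℕ) (τ : O₂) (hτ : τ ^ n = φ ϖ) :
    (kumMap φ ϖ n τ hτ).comp (algebraMap O (Kum O ϖ n)) = φ := by
  ext a
  exact MvPolynomial.eval₂Hom_C φ (fun _ => τ) a

section

variable (O : Type u) [CommRing O] [IsDomain O] [IsDiscreteValuationRing O]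
  (F : Type u) [Field F] [Algebra O F] [IsFractionRing O F] {ϖ : O} (hϖ : Irreducible ϖ)
  (n : ℕ) (hn : (n : O) ∉ maximalIdeal O)

/-- Algebra form. -/
theorem exists_algebra (M : Type u) [CommRing M] [Algebra F M] [Algebra.Etale F M]
    {G : Type u} [Group G] (ρ : G → (M →ₐ[F] M)) (hρ1 : ρ 1 = AlgHom.id F M)
    (hρm : ∀ σ τ, ρ (σ * τ) = (ρ τ).comp (ρ σ))
    (htr : ∀ (Ω : Type u) [Field Ω] [IsAlgClosed Ω] (s t : M →+* Ω),
      s.comp (algebraMap F M) = t.comp (algebraMap F M) → ∃ σ, s.comp (ρ σ : M →+* M) = t)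
    (hcard : Nat.card G ∣ n) (hϖ : Irreducible ϖ) (hn : (n : O) ∉ maximalIdeal O)
    [IsDomain (Kum O ϖ n)] [IsDiscreteValuationRing (Kum O ϖ n)]
    (hmax : maximalIdeal (Kum O ϖ n) = Ideal.span {root O ϖ n})
    (K₂ : Type u) [Field K₂] [Algebra (Kum O ϖ n) K₂] [IsFractionRing (Kum O ϖ n) K₂] [Algebra F K₂]
    [Algebra O K₂] [IsScalarTower O (Kum O ϖ n) K₂] [IsScalarTower O F K₂] :
    ∃ (C : Type u) (_ : CommRing C) (_ : Algebra (Kum O ϖ n) C), Module.Finite (Kum O ϖ n) C ∧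
      Algebra.Etale (Kum O ϖ n) C ∧ Nonempty (K₂ ⊗[Kum O ϖ n] C ≃ₐ[K₂] K₂ ⊗[F] M) := by
  let _ : Algebra O M := ((algebraMap F M).comp (algebraMap O F)).toAlgebra
  have : IsScalarTower O F M := IsScalarTower.of_algebraMap_eq' rfl
  exact Groth.Agent.Sga1.AbhExt2.exists_extension_kummer O F M hϖ hn
    (fun L _ ψ hψ => tameDvd_of_trans O F M ρ hρ1 hρm htr n hn hcard L ψ hψ) (Kum O ϖ n) hmax
    (root_pow O n) (adjoin_root O n) K₂

end

/-- Two morphisms out of a scheme agreeing on the spectrum of `Kum`. -/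
theorem exists_frac_map {R₂ K₂ F O : Type u} [CommRing R₂] [IsDomain R₂] [IsDiscreteValuationRing R₂]
    [Field K₂] [Algebra R₂ K₂] [IsFractionRing R₂ K₂] [CommRing O] [IsDomain O]
    [IsDiscreteValuationRing O] [Field F] [Algebra O F] [IsFractionRing O F] [Algebra O R₂]
    [Algebra F K₂] [Algebra O K₂] [IsScalarTower O R₂ K₂] [IsScalarTower O F K₂]
    [IsLocalHom (algebraMap O R₂)] {P : Scheme.{u}} (b : P ⟶ Spec (CommRingCat.of R₂))
    (c : P ⟶ Spec (CommRingCat.of F))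
    (h : c ≫ specMap O F = b ≫ specMap O R₂) :
    ∃ d : P ⟶ Spec (CommRingCat.of K₂), d ≫ specMap R₂ K₂ = b ∧ d ≫ specMap F K₂ = c := by
  have h1 : IsOpenImmersion (specMap R₂ K₂) :=
    Groth.Agent.Models.DVRGeneric.isOpenImmersion_generic R₂ K₂
  have h2 : IsOpenImmersion (specMap O F) :=
    Groth.Agent.Models.DVRGeneric.isOpenImmersion_generic O F
  have hr : Set.range b ⊆ Set.range (specMap R₂ K₂) := by
    rintro _ ⟨x, rfl⟩
    refine Groth.Agent.Models.DVRGeneric.range_generic R₂ K₂ (b x) ?_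
    intro hb
    have h3 : (specMap O R₂) (b x) = closedPoint O := by
      rw [hb]
      exact IsLocalRing.comap_closedPoint (algebraMap O R₂)
    have h4 : (specMap O F) (c x) = closedPoint O := by
      rw [← h3, ← Scheme.Hom.comp_apply, h, Scheme.Hom.comp_apply]
    have h5 : closedPoint O ∈ Set.range (specMap O F) := ⟨_, h4⟩
    obtain ⟨y, hy⟩ := h5
    have h6 : (specMap O F) y = (specMap O F) (⊥ : PrimeSpectrum F) := by
      congr 1
      exact Subsingleton.elim _ _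
    have h7 : (closedPoint O).asIdeal = ⊥ := by
      rw [← hy, h6]
      change Ideal.comap (algebraMap O F) ⊥ = ⊥
      rw [← RingHom.ker_eq_comap_bot]
      exact (RingHom.injective_iff_ker_eq_bot _).mp (IsFractionRing.injective O F)
    exact IsDiscreteValuationRing.not_a_field O h7
  refine ⟨IsOpenImmersion.lift (specMap R₂ K₂) b hr, IsOpenImmersion.lift_fac _ _ _, ?_⟩
  rw [← cancel_mono (specMap O F), h, Category.assoc]
  have h3 : specMap F K₂ ≫ specMap O F = specMap R₂ K₂ ≫ specMap O R₂ := by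
    rw [specMap, specMap, specMap, specMap, ← Spec.map_comp, ← Spec.map_comp, ← CommRingCat.ofHom_comp,
      ← CommRingCat.ofHom_comp, ← IsScalarTower.algebraMap_eq, ← IsScalarTower.algebraMap_eq]
  rw [h3, ← Category.assoc, IsOpenImmersion.lift_fac]

/-- **Abhyankar's lemma** for a cover of the generic point of a discrete valuation ring with a group
acting transitively on geometric fibres: after adjoining an `n`-th root of a uniformizer, `n` an
invertible multiple of the order of the group, the cover extends. -/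
theorem exists_ext (O : Type u) [CommRing O] [IsDomain O] [IsDiscreteValuationRing O]
    (F : Type u) [Field F] [Algebra O F] [IsFractionRing O F] {ϖ : O} (hϖ : Irreducible ϖ)
    (n : ℕ) (hn : (n : O) ∉ maximalIdeal O) (W₀ : FEt.Cat (Spec (CommRingCat.of F)))
    {G : Type u} [Group G] (ρ : G →* Aut W₀) (hρ : TransAct ρ) (hcard : Nat.card G ∣ n)
    (O₂ : Type u) [CommRing O₂] (φ : O →+* O₂) (τ : O₂) (hτ : τ ^ n = φ ϖ) :
    ∃ W₂ : FEt.Cat (Spec (CommRingCat.of O₂)), ∀ (P : Scheme.{u}) (a : P ⟶ Spec (CommRingCat.of O₂))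
      (c : P ⟶ Spec (CommRingCat.of F)), c ≫ specMap O F = a ≫ Spec.map (CommRingCat.ofHom φ) →
      Nonempty ((FEt.restrict a).obj W₂ ≅ (FEt.restrict c).obj W₀) := by
  have hn1 : 1 ≤ n := by
    rcases Nat.eq_zero_or_pos n with h | h
    · subst h
      simp at hn
    · exact h
  have hdom := isDomain O hϖ n hn1
  obtain ⟨hdvr, hmax⟩ := isDiscreteValuationRing O hϖ n hn1
  let K₂ := FractionRing (Kum O ϖ n)
  have hinj : Function.Injective (algebraMap O K₂) := by
    rw [IsScalarTower.algebraMap_eq O (Kum O ϖ n) K₂]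
    exact (IsFractionRing.injective (Kum O ϖ n) K₂).comp (injective_algebraMap O n hn1)
  let _ : Algebra F K₂ := (IsFractionRing.lift hinj : F →+* K₂).toAlgebra
  have htow : IsScalarTower O F K₂ := IsScalarTower.of_algebraMap_eq fun x =>
    (IsFractionRing.lift_algebraMap hinj x).symm
  obtain ⟨M, _, _, hMf, hMe, ⟨e⟩⟩ := exists_iso_ofAlgebra W₀
  -- the action on `M`
  let ρ' : G → (M →ₐ[F] M) := fun σ => algHomOfHom (conjAction e ρ σ).hom
  have hρ' : ∀ σ, homOfAlgHom (ρ' σ) = (conjAction e ρ σ).hom := fun σ =>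
    homOfAlgHom_algHomOfHom _
  have hρ1 : ρ' 1 = AlgHom.id F M := by
    apply homOfAlgHom_injective
    rw [hρ', homOfAlgHom_id, map_one]
    rfl
  have hρm : ∀ σ τ, ρ' (σ * τ) = (ρ' τ).comp (ρ' σ) := by
    intro σ τ
    apply homOfAlgHom_injective
    rw [hρ', homOfAlgHom_comp, hρ', hρ', map_mul]
    rfl
  have htr : ∀ (Ω : Type u) [Field Ω] [IsAlgClosed Ω] (s t : M →+* Ω),
      s.comp (algebraMap F M) = t.comp (algebraMap F M) → ∃ σ, s.comp (ρ' σ : M →+* M) = t := by
    intro Ω _ _ s t hst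
    obtain ⟨σ, hσ⟩ := (K286.TransAct.conj hρ e) Ω (Spec.map (CommRingCat.ofHom s)) (Spec.map (CommRingCat.ofHom t)) (by
      have h0 : CommRingCat.ofHom (algebraMap F M) ≫ CommRingCat.ofHom s =
          CommRingCat.ofHom (algebraMap F M) ≫ CommRingCat.ofHom t := by
        rw [← CommRingCat.ofHom_comp, ← CommRingCat.ofHom_comp, hst]
      exact (Spec.map_comp _ _).symm.trans ((congrArg Spec.map h0).trans (Spec.map_comp _ _)))
    refine ⟨σ, ?_⟩
    rw [← hρ', homOfAlgHom_left] at hσ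
    have h1 : Spec.map (CommRingCat.ofHom (s.comp (ρ' σ : M →+* M))) =
        Spec.map (CommRingCat.ofHom t) := by
      refine Eq.trans ?_ hσ
      exact (congrArg Spec.map (CommRingCat.ofHom_comp _ _)).trans (Spec.map_comp _ _)
    exact congrArg CommRingCat.Hom.hom (Spec.map_injective h1)
  obtain ⟨C, _, _, hCf, hCe, ⟨ε⟩⟩ := exists_algebra O F n M ρ' hρ1 hρm htr hcard hϖ hn hmax K₂
  let κ := kumMap φ ϖ n τ hτ
  let sκ : Spec (CommRingCat.of O₂) ⟶ Spec (CommRingCat.of (Kum O ϖ n)) :=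
    Spec.map (CommRingCat.ofHom κ)
  have hκ : sκ ≫ specMap O (Kum O ϖ n) = Spec.map (CommRingCat.ofHom φ) := by
    simp only [sκ]
    rw [specMap, ← Spec.map_comp, ← CommRingCat.ofHom_comp, kumMap_algebraMap]
  refine ⟨(FEt.restrict sκ).obj (ofAlgebra (Kum O ϖ n) C), fun P a c hac => ?_⟩
  have hloc : IsLocalHom (algebraMap O (Kum O ϖ n)) := by
    refine ⟨fun x hx => ?_⟩
    by_contra hx'
    have h1 : x ∈ maximalIdeal O := (mem_maximalIdeal x).mpr hx'
    rw [hϖ.maximalIdeal_eq, Ideal.mem_span_singleton] at h1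
    obtain ⟨y, rfl⟩ := h1
    rw [map_mul, ← root_pow] at hx
    have h2 : IsUnit (root O ϖ n) := by
      have h3 := isUnit_of_mul_isUnit_left hx
      exact (isUnit_pow_iff (by omega)).mp h3
    have h3 : root O ϖ n ∈ maximalIdeal (Kum O ϖ n) := by
      rw [hmax]
      exact Ideal.mem_span_singleton_self _
    exact h3 h2
  obtain ⟨d, hd1, hd2⟩ := exists_frac_map (K₂ := K₂) (a ≫ sκ) c (by rw [Category.assoc, hκ, hac])
  have e1 : Bc (a ≫ sκ) (ofAlgebra (Kum O ϖ n) C) ((FEt.restrict a).obj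
      ((FEt.restrict sκ).obj (ofAlgebra (Kum O ϖ n) C))) := (Bc.refl sκ _).comp (Bc.refl a _)
  have e2 : Bc (a ≫ sκ) (ofAlgebra (Kum O ϖ n) C) ((FEt.restrict d).obj
      (ofAlgebra K₂ (K₂ ⊗[Kum O ϖ n] C))) :=
    Bc.comp' hd1 (show Bc (specMap (Kum O ϖ n) K₂) _ _ from ⟨restrictOfAlgebraIso _ _ _⟩) (Bc.refl d _)
  have e3 : Bc c W₀ ((FEt.restrict d).obj (ofAlgebra K₂ (K₂ ⊗[F] M))) :=
    Bc.comp' hd2 (show Bc (specMap F K₂) W₀ _ from
      ⟨(FEt.restrict (specMap F K₂)).mapIso e ≪≫ restrictOfAlgebraIso _ _ _⟩) (Bc.refl d _)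
  obtain ⟨i1⟩ := e1.unique e2
  obtain ⟨i3⟩ := e3
  exact ⟨i1 ≪≫ (FEt.restrict d).mapIso (isoOfAlgEquiv ε).symm ≪≫ i3.symm⟩

end K286.AbhGal
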