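import Groth.Agent.SGA4h.K286.TransDesc
import Groth.Agent.Pi1A.FEtModel
import Groth.Agent.S0237

/-!
# Descent of finite étale covers with group action to finitely generated subrings
-/

set_option autoImplicit false

universe u v

open CategoryTheory CategoryTheory.Limits AlgebraicGeometry TensorProduct

namespace K286.ActDesc

open Groth.Agent.Pi1A Groth.Agent.Pi1A.FEtAffine Groth.Agent.Pi1.H383.PrincBC
open Groth.Agent.Pi1.H382.EBc K286.TransAct

/-- Actions lift along morphisms `f` for which the restriction functor is faithful as soon as the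
individual automorphisms do. -/
theorem exists_action {X X' : Scheme.{u}} (f : X' ⟶ X) [(FEt.restrict f).Faithful] {G : Type v}
    [Group G] {W : FEt.Cat X} {V : FEt.Cat X'} (q : V.left ⟶ W.left)
    (hq : IsPullback q V.hom W.hom f) (σ : G →* Aut V)
    (h : ∀ c, ∃ b : W.left ⟶ W.left, b ≫ W.hom = W.hom ∧ q ≫ b = (σ c).hom.left ≫ q) :
    ∃ ρ : G →* Aut W, EBc f ρ σ := by
  let e : (FEt.restrict f).obj W ≅ V := isoMk ((isPullback f W).isoIsPullback _ _ hq)
    (IsPullback.isoIsPullback_hom_snd _ _ _ _)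
  have he : e.hom.left ≫ q = proj f W := IsPullback.isoIsPullback_hom_fst _ _ _ _
  choose b hb1 hb2 using h
  let B : G → (W ⟶ W) := fun c => MorphismProperty.Over.homMk (b c) (hb1 c) trivial
  have hB : ∀ c, (FEt.restrict f).map (B c) ≫ e.hom = e.hom ≫ (σ c).hom := by
    intro c
    apply MorphismProperty.Over.Hom.ext
    apply hq.hom_ext
    · rw [MorphismProperty.Comma.comp_left, MorphismProperty.Comma.comp_left, Category.assoc,
        Category.assoc, he, map_left_proj, ← hb2, ← Category.assoc, he]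
      rfl
    · rw [hom_w, hom_w]
  have hB' : ∀ c, (FEt.restrict f).map (B c) = e.hom ≫ (σ c).hom ≫ e.inv := by
    intro c
    rw [← Category.assoc, ← hB, Category.assoc, Iso.hom_inv_id, Category.comp_id]
  have hmul : ∀ c d, B (c * d) = B d ≫ B c := by
    intro c d
    apply (FEt.restrict f).map_injective
    rw [Functor.map_comp, hB', hB', hB', map_mul]
    have h1 : (σ c * σ d).hom = (σ d).hom ≫ (σ c).hom := rfl
    rw [h1]
    simp only [Category.assoc, Iso.inv_hom_id_assoc]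
  have hone : B 1 = 𝟙 W := by
    apply (FEt.restrict f).map_injective
    have h1 : (σ 1).hom = 𝟙 V := by rw [map_one]; rfl
    rw [hB', h1, Category.id_comp, Iso.hom_inv_id]
    exact ((FEt.restrict f).map_id W).symm
  let ρ : G →* Aut W := MonoidHom.mk'
    (fun c => ⟨B c, B c⁻¹, by rw [← hmul, inv_mul_cancel, hone], by
      rw [← hmul, mul_inv_cancel, hone]⟩) (by
      intro c d
      apply Iso.ext
      exact hmul c d)
  exact ⟨ρ, e, fun c => hB c⟩

/-- Lifting of algebra maps. -/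
theorem exists_lift {R₀ R₁ R : Type u} [CommRing R₀] [CommRing R₁] [CommRing R] [Algebra R₀ R₁]
    [Algebra R₁ R] [Algebra R₀ R] [IsScalarTower R₀ R₁ R] (hinj : Function.Injective (algebraMap R₁ R))
    (B C : Type u) [CommRing B] [Algebra R₀ B] [CommRing C] [Algebra R₀ C]
    [Module.Flat R₀ C] (φ : R ⊗[R₀] B →ₐ[R] R ⊗[R₀] C) (S : Set B)
    (hS : Submodule.span R₀ S = ⊤)
    (h : ∀ b ∈ S, ∃ y : R₁ ⊗[R₀] C, Algebra.TensorProduct.map (Algebra.ofId R₁ R)
      (AlgHom.id R₀ C) y = φ (1 ⊗ₜ[R₀] b)) :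
    ∃ ψ : R₁ ⊗[R₀] B →ₐ[R₁] R₁ ⊗[R₀] C, ∀ x, Algebra.TensorProduct.map (Algebra.ofId R₁ R)
      (AlgHom.id R₀ C) (ψ x) = φ (Algebra.TensorProduct.map (Algebra.ofId R₁ R)
      (AlgHom.id R₀ B) x) := by
  let jB : R₁ ⊗[R₀] B →ₐ[R₁] R ⊗[R₀] B :=
    Algebra.TensorProduct.map (Algebra.ofId R₁ R) (AlgHom.id R₀ B)
  let jC : R₁ ⊗[R₀] C →ₐ[R₁] R ⊗[R₀] C :=
    Algebra.TensorProduct.map (Algebra.ofId R₁ R) (AlgHom.id R₀ C)
  have hj : Function.Injective jC := by
    have h1 : Function.Injective (LinearMap.rTensor C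
        (IsScalarTower.toAlgHom R₀ R₁ R).toLinearMap) :=
      Module.Flat.rTensor_preserves_injective_linearMap _ hinj
    have heq : ⇑jC = ⇑(LinearMap.rTensor C (IsScalarTower.toAlgHom R₀ R₁ R).toLinearMap) := by
      ext x
      induction x with
      | zero => simp
      | add x y hx hy => rw [map_add, map_add, hx, hy]
      | tmul x y => rfl
    rw [heq]
    exact h1
  let φ₁ : R₁ ⊗[R₀] B →ₐ[R₁] R ⊗[R₀] C := (φ.restrictScalars R₁).comp jB
  have hφB : ∀ b : B, φ₁ (1 ⊗ₜ[R₀] b) ∈ jC.range := by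
    intro b
    have hb : b ∈ Submodule.span R₀ S := by rw [hS]; trivial
    have h1 : ∀ b : B, φ₁ (1 ⊗ₜ[R₀] b) = φ (1 ⊗ₜ[R₀] b) := by
      intro b
      change φ (jB (1 ⊗ₜ[R₀] b)) = _
      congr 1
      change algebraMap R₁ R 1 ⊗ₜ[R₀] b = _
      rw [map_one]
    induction hb using Submodule.span_induction with
    | mem b hb =>
      obtain ⟨y, hy⟩ := h b hb
      rw [h1, ← hy]
      exact ⟨y, rfl⟩
    | zero =>
      rw [TensorProduct.tmul_zero, map_zero]
      exact Subalgebra.zero_mem _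
    | add b b' _ _ hb hb' =>
      rw [TensorProduct.tmul_add, map_add]
      exact Subalgebra.add_mem _ hb hb'
    | smul r b _ hb =>
      have h2 : (1 ⊗ₜ[R₀] (r • b) : R₁ ⊗[R₀] B) = algebraMap R₀ R₁ r • (1 ⊗ₜ[R₀] b) := by
        rw [TensorProduct.tmul_smul, algebraMap_smul]
      rw [h2, map_smul]
      exact Subalgebra.smul_mem _ hb _
  have hφ₁ : ∀ x, φ₁ x ∈ jC.range := by
    intro x
    induction x with
    | zero =>
      rw [map_zero]
      exact Subalgebra.zero_mem _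
    | add x y hx hy =>
      rw [map_add]
      exact Subalgebra.add_mem _ hx hy
    | tmul r b =>
      have h2 : (r ⊗ₜ[R₀] b : R₁ ⊗[R₀] B) = r • (1 ⊗ₜ[R₀] b) := by
        rw [TensorProduct.smul_tmul', smul_eq_mul, mul_one]
      rw [h2, map_smul]
      exact Subalgebra.smul_mem _ (hφB b) _
  let ε : R₁ ⊗[R₀] C ≃ₐ[R₁] jC.range := AlgEquiv.ofInjective jC hj
  refine ⟨(ε.symm : jC.range →ₐ[R₁] R₁ ⊗[R₀] C).comp (φ₁.codRestrict jC.range hφ₁), fun x => ?_⟩
  change jC (ε.symm (φ₁.codRestrict jC.range hφ₁ x)) = φ₁ x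
  have h3 : ε (ε.symm (φ₁.codRestrict jC.range hφ₁ x)) = φ₁.codRestrict jC.range hφ₁ x :=
    ε.apply_symm_apply _
  exact congrArg Subtype.val h3

/-- The pullback square of a tower. -/
theorem isPullback_tower (R₀ R₁ R : Type u) [CommRing R₀] [CommRing R₁] [CommRing R] [Algebra R₀ R₁]
    [Algebra R₁ R] [Algebra R₀ R] [IsScalarTower R₀ R₁ R] (B : Type u) [CommRing B] [Algebra R₀ B] :
    IsPullback (Spec.map (CommRingCat.ofHom (Algebra.TensorProduct.map (Algebra.ofId R₁ R)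
      (AlgHom.id R₀ B) : R₁ ⊗[R₀] B →ₐ[R₁] R ⊗[R₀] B).toRingHom))
      (Spec.map (CommRingCat.ofHom (algebraMap R (R ⊗[R₀] B))))
      (Spec.map (CommRingCat.ofHom (algebraMap R₁ (R₁ ⊗[R₀] B)))) (specMap R₁ R) := by
  have h1 := isPullback_SpecMap_of_isPushout _ _ _ _
    (CommRingCat.isPushout_tensorProduct R₀ R₁ B).flip
  have h2 := isPullback_SpecMap_of_isPushout _ _ _ _
    (CommRingCat.isPushout_tensorProduct R₀ R B).flip
  refine IsPullback.of_right (h₁₂ := Spec.map (CommRingCat.ofHom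
    (Algebra.TensorProduct.includeRight : B →ₐ[R₀] R₁ ⊗[R₀] B).toRingHom))
    (h₂₂ := specMap R₀ R₁) (v₁₃ := Spec.map (CommRingCat.ofHom (algebraMap R₀ B))) ?_ ?_ h1
  · have h3 : Spec.map (CommRingCat.ofHom (Algebra.TensorProduct.map (Algebra.ofId R₁ R)
      (AlgHom.id R₀ B) : R₁ ⊗[R₀] B →ₐ[R₁] R ⊗[R₀] B).toRingHom) ≫
        Spec.map (CommRingCat.ofHom
        (Algebra.TensorProduct.includeRight : B →ₐ[R₀] R₁ ⊗[R₀] B).toRingHom) =
      Spec.map (CommRingCat.ofHom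
        (Algebra.TensorProduct.includeRight : B →ₐ[R₀] R ⊗[R₀] B).toRingHom) := by
      rw [← Spec.map_comp, ← CommRingCat.ofHom_comp]
      congr 2
      ext b
      change algebraMap R₁ R 1 ⊗ₜ[R₀] b = 1 ⊗ₜ[R₀] b
      rw [map_one]
    have h4 : specMap R₁ R ≫ specMap R₀ R₁ = specMap R₀ R := by
      rw [specMap, specMap, specMap, ← Spec.map_comp, ← CommRingCat.ofHom_comp,
        ← IsScalarTower.algebraMap_eq]
    rw [h3, h4]
    exact h2
  · rw [← Spec.map_comp, ← Spec.map_comp, ← CommRingCat.ofHom_comp, ← CommRingCat.ofHom_comp]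
    congr 2

/-- Elements of `R ⊗ B` come from finitely generated subrings. -/
theorem exists_finset {R₀ R : Type u} [CommRing R₀] [CommRing R] [Algebra R₀ R] (B : Type u)
    [CommRing B] [Algebra R₀ B] (z : R ⊗[R₀] B) :
    ∃ T : Finset R, ∀ (R₁ : Type u) [CommRing R₁] [Algebra R₀ R₁] [Algebra R₁ R]
      [IsScalarTower R₀ R₁ R], (T : Set R) ⊆ Set.range (algebraMap R₁ R) →
      ∃ y : R₁ ⊗[R₀] B, Algebra.TensorProduct.map (Algebra.ofId R₁ R) (AlgHom.id R₀ B) y = z := by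
  classical
  induction z with
  | zero => exact ⟨∅, fun R₁ _ _ _ _ _ => ⟨0, map_zero _⟩⟩
  | add x y hx hy =>
    obtain ⟨T, hT⟩ := hx
    obtain ⟨T', hT'⟩ := hy
    refine ⟨T ∪ T', fun R₁ _ _ _ _ h => ?_⟩
    rw [Finset.coe_union, Set.union_subset_iff] at h
    obtain ⟨x', rfl⟩ := hT R₁ h.1
    obtain ⟨y', rfl⟩ := hT' R₁ h.2
    exact ⟨x' + y', map_add _ _ _⟩
  | tmul r b =>
    refine ⟨{r}, fun R₁ _ _ _ _ h => ?_⟩
    obtain ⟨r', hr'⟩ := h (Finset.mem_coe.2 (Finset.mem_singleton_self r))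
    refine ⟨r' ⊗ₜ[R₀] b, ?_⟩
    rw [← hr']
    rfl

/-- **Descent** of finite étale covers with group action to finitely generated subrings. -/
theorem exists_desc (A : Type u) [CommRing A] (Y : FEt.Cat (Spec (CommRingCat.of A))) {G : Type v}
    [Group G] [Finite G] (ρ : G →* Aut Y) :
    ∃ A₁ : Subalgebra ℤ A, A₁.FG ∧ ∃ (W : FEt.Cat (Spec (CommRingCat.of A₁))) (ρ₁ : G →* Aut W),
      EBc (specMap A₁ A) ρ₁ ρ := by
  classical
  obtain ⟨B, _, _, _, _, ⟨e⟩⟩ := exists_iso_ofAlgebra Y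
  obtain ⟨A₀, B₀, _, _, ⟨t, ht⟩, _, _, ⟨e'⟩⟩ := FEtModel.exists_subalgebra_fg ℤ A B
  let V := ofAlgebra A (A ⊗[A₀] B₀)
  let i : Y ≅ V := e ≪≫ (isoOfAlgEquiv e').symm
  let σ : G →* Aut V := conjAction i ρ
  let φ : G → (A ⊗[A₀] B₀ →ₐ[A] A ⊗[A₀] B₀) := fun c => algHomOfHom (σ c).hom
  obtain ⟨S, hS⟩ := (inferInstance : Module.Finite A₀ B₀).fg_top
  have h1 := fun (c : G) (b : B₀) => exists_finset B₀ (φ c (1 ⊗ₜ[A₀] b))
  choose T hT using h1
  have := Fintype.ofFinite G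
  let T' : Finset A := t ∪ Finset.univ.biUnion fun c : G => S.biUnion fun b => T c b
  let A₁ : Subalgebra ℤ A := Algebra.adjoin ℤ (T' : Set A)
  have hle : A₀ ≤ A₁ := by
    rw [← ht]
    apply Algebra.adjoin_mono
    intro x hx
    simp only [T', Finset.coe_union, Set.mem_union]
    exact Or.inl hx
  have hT' : ∀ c, ∀ b ∈ S, (T c b : Set A) ⊆ Set.range (algebraMap A₁ A) := by
    intro c b hb x hx
    refine ⟨⟨x, Algebra.subset_adjoin ?_⟩, rfl⟩
    simp only [T', Finset.coe_union, Set.mem_union, Finset.coe_biUnion, Set.mem_iUnion,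
      Finset.mem_coe]
    exact Or.inr ⟨c, Finset.mem_univ c, b, hb, hx⟩
  let _ : Algebra A₀ A₁ := (Subalgebra.inclusion hle).toRingHom.toAlgebra
  have : IsScalarTower A₀ A₁ A := IsScalarTower.of_algebraMap_eq (fun x => rfl)
  let W := ofAlgebra A₁ (A₁ ⊗[A₀] B₀)
  have hfaith : (FEt.restrict (specMap A₁ A)).Faithful := by
    apply Groth.Agent.S0237.result
    refine (PrimeSpectrum.denseRange_comap_iff_ker_le_nilRadical (algebraMap A₁ A)).2 ?_
    rw [(RingHom.injective_iff_ker_eq_bot (algebraMap A₁ A)).1 Subtype.val_injective]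
    exact bot_le
  obtain ⟨ρ₁, hρ₁⟩ := exists_action (specMap A₁ A) (W := W) (V := V) _
    (isPullback_tower A₀ A₁ A B₀) σ (fun c => by
      obtain ⟨ψ, hψ⟩ := exists_lift (R₁ := A₁) Subtype.val_injective B₀ B₀ (φ c) (S : Set B₀) hS
        (fun b hb => hT c b A₁ (hT' c b hb))
      refine ⟨Spec.map (CommRingCat.ofHom ψ.toRingHom), hom_w (homOfAlgHom ψ), ?_⟩
      rw [← homOfAlgHom_algHomOfHom (σ c).hom, homOfAlgHom_left]
      change Spec.map _ ≫ Spec.map _ = Spec.map _ ≫ Spec.map _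
      rw [← Spec.map_comp, ← Spec.map_comp, ← CommRingCat.ofHom_comp, ← CommRingCat.ofHom_comp]
      congr 2
      exact RingHom.ext fun x => hψ x)
  refine ⟨A₁, ⟨T', rfl⟩, W, ρ₁, ?_⟩
  obtain ⟨e₁, he₁⟩ := hρ₁
  refine ⟨e₁ ≪≫ i.symm, fun c => ?_⟩
  rw [Iso.trans_hom, ← Category.assoc, he₁, conjAction_hom]
  simp only [Category.assoc, Iso.symm_hom, Iso.hom_inv_id, Category.comp_id]

end K286.ActDesc
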