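import Groth.Agent.Lefpen.H416.Spl
import Groth.Agent.Pi1C.SplitAlg
import Groth.Agent.Pi1.H396.SplitGlue
import Mathlib.RingTheory.Flat.Basic

/-!
# Finite étale algebras over a field split over finitely generated extensions
-/

set_option autoImplicit false
set_option linter.unusedSectionVars false

universe u

open CategoryTheory CategoryTheory.Limits AlgebraicGeometry TensorProduct

namespace K286

namespace SplitField

open Groth.Agent.Pi1A.FEtAffine

theorem exists_finset {k₁ Ω : Type u} [Field k₁] [Field Ω] [IsAlgClosed Ω] [Algebra k₁ Ω]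
    (M : Type u) [CommRing M] [Algebra k₁ M] [Module.Finite k₁ M] [Algebra.Etale k₁ M] :
    ∃ T : Finset Ω, (∀ x ∈ T, IsIntegral k₁ x) ∧ ∀ (k₂ : Type u) [Field k₂] [Algebra k₁ k₂]
      [Algebra k₂ Ω] [IsScalarTower k₁ k₂ Ω], (T : Set Ω) ⊆ Set.range (algebraMap k₂ Ω) →
      Pi1.IsSplit (ofAlgebra k₂ (k₂ ⊗[k₁] M)) := by
  classical
  have hs := Groth.Agent.Lefpen.H416.Spl.isSplit_of_isSepClosed (ofAlgebra Ω (Ω ⊗[k₁] M))
  obtain ⟨ι, hι, ⟨e⟩⟩ := Groth.Agent.Pi1C.SplitAlg.nonempty_algEquiv_pi_of_isSplit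
    (ofAlgebra Ω (Ω ⊗[k₁] M)) (Iso.refl _) hs
  have := Fintype.ofFinite ι
  obtain ⟨S, hS⟩ := (inferInstance : Module.Finite k₁ M).fg_top
  let h : ι → (M →ₐ[k₁] Ω) := fun i =>
    (((Pi.evalAlgHom Ω (fun _ : ι => Ω) i).comp (e : Ω ⊗[k₁] M →ₐ[Ω] (ι → Ω))).restrictScalars
      k₁).comp Algebra.TensorProduct.includeRight
  let T : Finset Ω := Finset.univ.biUnion fun i : ι => S.image (h i)
  refine ⟨T, fun x hx => ?_, fun k₂ _ _ _ _ hT => ?_⟩
  · simp only [T, Finset.mem_biUnion, Finset.mem_image] at hx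
    obtain ⟨i, -, b, -, rfl⟩ := hx
    exact (Algebra.IsIntegral.isIntegral (R := k₁) b).map (h i)
  have hinj : Function.Injective (algebraMap k₂ Ω) := (algebraMap k₂ Ω).injective
  have hmem : ∀ i b, h i b ∈ (IsScalarTower.toAlgHom k₁ k₂ Ω).range := by
    intro i b
    have hb : b ∈ Submodule.span k₁ (S : Set M) := by rw [hS]; trivial
    induction hb using Submodule.span_induction with
    | mem b hb =>
      obtain ⟨y, hy⟩ := hT (show h i b ∈ (T : Set Ω) from by
        simp only [T, Finset.coe_biUnion, Set.mem_iUnion, Finset.mem_coe, Finset.mem_image]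
        exact ⟨i, Finset.mem_univ i, b, hb, rfl⟩)
      exact ⟨y, hy⟩
    | zero => rw [map_zero]; exact Subalgebra.zero_mem _
    | add x y _ _ hx hy => rw [map_add]; exact Subalgebra.add_mem _ hx hy
    | smul r x _ hx => rw [map_smul]; exact Subalgebra.smul_mem _ hx r
  let ε : k₂ ≃ₐ[k₁] (IsScalarTower.toAlgHom k₁ k₂ Ω).range := AlgEquiv.ofInjective _ hinj
  let h' : ι → (M →ₐ[k₁] k₂) := fun i =>
    (ε.symm : _ →ₐ[k₁] k₂).comp ((h i).codRestrict _ (hmem i))
  have hh' : ∀ i b, algebraMap k₂ Ω (h' i b) = h i b := by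
    intro i b
    have h2 : ε (ε.symm ((h i).codRestrict _ (hmem i) b)) = (h i).codRestrict _ (hmem i) b :=
      ε.apply_symm_apply _
    exact congrArg Subtype.val h2
  let g : k₂ ⊗[k₁] M →ₐ[k₂] (ι → k₂) := AlgHom.pi fun i =>
    Algebra.TensorProduct.lift (Algebra.ofId k₂ k₂) (h' i) (fun _ _ => Commute.all _ _)
  let jM : k₂ ⊗[k₁] M →ₐ[k₂] Ω ⊗[k₁] M :=
    Algebra.TensorProduct.map (Algebra.ofId k₂ Ω) (AlgHom.id k₁ M)
  have hjM : Function.Injective jM := by
    have h1 : Function.Injective (LinearMap.rTensor M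
        (IsScalarTower.toAlgHom k₁ k₂ Ω).toLinearMap) :=
      Module.Flat.rTensor_preserves_injective_linearMap _ hinj
    have heq : ⇑jM = ⇑(LinearMap.rTensor M (IsScalarTower.toAlgHom k₁ k₂ Ω).toLinearMap) := by
      ext x
      induction x with
      | zero => simp
      | add x y hx hy => rw [map_add, map_add, hx, hy]
      | tmul x y => rfl
    rw [heq]
    exact h1
  have hg : ∀ x i, algebraMap k₂ Ω (g x i) = e (jM x) i := by
    intro x i
    induction x with
    | zero => simp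
    | add x y hx hy => rw [map_add, map_add, map_add, Pi.add_apply, Pi.add_apply, map_add, hx, hy]
    | tmul c b =>
      have h1 : g (c ⊗ₜ[k₁] b) i = c * h' i b := rfl
      have h2 : jM (c ⊗ₜ[k₁] b) = algebraMap k₂ Ω c • (1 ⊗ₜ[k₁] b : Ω ⊗[k₁] M) := by
        change algebraMap k₂ Ω c ⊗ₜ[k₁] b = _
        rw [TensorProduct.smul_tmul', smul_eq_mul, mul_one]
      rw [h1, h2, map_mul, hh', map_smul, Pi.smul_apply, smul_eq_mul]
      rfl
  have hginj : Function.Injective g := by
    intro x y hxy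
    apply hjM
    apply e.injective
    ext i
    rw [← hg, ← hg, hxy]
  have hfr : Module.finrank k₂ (k₂ ⊗[k₁] M) = Module.finrank k₂ (ι → k₂) := by
    have h1 : Module.finrank Ω (Ω ⊗[k₁] M) = Fintype.card ι := by
      rw [e.toLinearEquiv.finrank_eq, Module.finrank_fintype_fun_eq_card]
    rw [Module.finrank_fintype_fun_eq_card, Module.finrank_baseChange, ← h1,
      Module.finrank_baseChange]
  have hbij : Function.Bijective g :=
    ⟨hginj, (LinearMap.injective_iff_surjective_of_finrank_eq_finrank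
      (f := g.toLinearMap) hfr).1 hginj⟩
  exact Groth.Agent.Pi1.H396.SplitGlue.isSplit_ofAlgebra (AlgEquiv.ofBijective g hbij)

end SplitField

end K286
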