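import Groth.Agent.SGA4h.K286.LevelCore
import Groth.Agent.SGA4h.K286.SplitField
import Groth.Agent.EtpbcB.LocAcycRoot

/-!
# Extension of Galois covers of the generic fibre of étale algebras over `A[X]`
-/

set_option autoImplicit false
set_option linter.unusedSectionVars false

universe u

open CategoryTheory CategoryTheory.Limits AlgebraicGeometry Polynomial IsLocalRing TensorProduct

namespace K286

namespace FiniteLevel

open Groth.Agent.Pi1A.FEtAffine Groth.Agent.Pi1.H382.BC Groth.Agent.EtpbcB.LocAcyc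
open K286.TransAct

/-- Factorization of ring maps through injective ring maps. -/
theorem exists_factor {L R F : Type*} [CommRing L] [CommRing R] [CommRing F] (T : Set L)
    (hT : Algebra.adjoin ℤ T = ⊤) (ν : L →+* F) (η : R →+* F) (hη : Function.Injective η)
    (h : ∀ x ∈ T, ν x ∈ η.range) : ∃ μ : L →+* R, ∀ x, η (μ x) = ν x := by
  have h1 : ∀ x, ν x ∈ η.range := by
    intro x
    have hx : x ∈ Algebra.adjoin ℤ T := by rw [hT]; trivial
    induction hx using Algebra.adjoin_induction with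
    | mem x hx => exact h x hx
    | algebraMap r => exact ⟨(r : R), by simp⟩
    | add x y _ _ hx hy => rw [map_add]; exact add_mem hx hy
    | mul x y _ _ hx hy => rw [map_mul]; exact mul_mem hx hy
  let ε : R ≃+* η.range := RingEquiv.ofBijective η.rangeRestrict
    ⟨fun x y h => hη (congrArg Subtype.val h), η.rangeRestrict_surjective⟩
  refine ⟨(ε.symm : η.range →+* R).comp (ν.codRestrict η.range h1), fun x => ?_⟩
  have h2 : ε (ε.symm (ν.codRestrict η.range h1 x)) = ν.codRestrict η.range h1 x :=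
    ε.apply_symm_apply _
  exact congrArg Subtype.val h2

/-- **The finite level theorem.** -/
theorem exists_cover {A : Type u} [CommRing A] [IsDomain A] [IsIntegrallyClosed A]
    [IsAlgClosed (FractionRing A)] {E : Type u} [CommRing E] [IsDomain E] [Algebra A[X] E]
    [Algebra.Etale A[X] E] (σ : E →+* A) (hσ : ∀ a, σ (algebraMap A[X] E (C a)) = a)
    (m : Ideal A) [m.IsPrime] (n : ℕ) (hn0 : n ≠ 0) (hn : (n : A) ∉ m) (s : A) (hs : s ≠ 0)
    {F : Type u} [Field F] [Algebra E F] (hF : Function.Injective (algebraMap E F))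
    {L₀ : Type u} [CommRing L₀] (T : Finset L₀) (hT : Algebra.adjoin ℤ (T : Set L₀) = ⊤)
    (ν : L₀ →+* F)
    (hν : ∀ x ∈ T, ∃ e : E, algebraMap E F (algebraMap A[X] E (C s)) * ν x = algebraMap E F e)
    (W : FEt.Cat (Spec (CommRingCat.of L₀))) {Γ : Type u} [Group Γ] (ρ : Γ →* Aut W)
    (hρ : TransAct ρ) (hcard : Nat.card Γ ∣ n) :
    ∃ (κ : Localization.AtPrime (m.comap σ) →+* F)
      (Z : FEt.Cat (Spec (CommRingCat.of (Localization.AtPrime (m.comap σ))))),
      (∀ e, κ (algebraMap E _ e) = algebraMap E F e) ∧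
      Bc (Spec.map (CommRingCat.ofHom κ)) Z ((FEt.restrict (Spec.map (CommRingCat.ofHom ν))).obj W) := by
  classical
  choose! e he using hν
  obtain ⟨A₀, S, hfg, hsA₀, hmod⟩ := modelStatement A E σ hσ (e '' (T : Set L₀))
    (T.finite_toSet.image e) s
  have hN := nagataSub A
  have hinj : Function.Injective (algebraMap A[X] E) := by
    have : Module.IsTorsionFree A[X] E := Module.Flat.isTorsionFree
    exact FaithfulSMul.algebraMap_injective _ _
  -- the first normalization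
  obtain ⟨A₁, h01, -, hfg1, hnoeth1, hnorm1, -⟩ := hN A₀ hfg ∅ (by simp)
  let E₁ := modelRing A₁ S
  let alg1 : Algebra A₁[X] E₁ := (modelMap A₁ S).toAlgebra
  have het1 : Algebra.Etale A₁[X] E₁ := hmod.etale A₁ h01
  let s₁ : A₁ := ⟨s, h01 hsA₀⟩
  have hs₁ : s₁ ≠ 0 := fun h => hs (congrArg Subtype.val h)
  have hcoe1 : ∀ b : A₁, ((algebraMap A₁[X] E₁ (C b) : E₁) : E) = algebraMap A[X] E (C (b : A)) := by
    intro b
    change ((modelMap A₁ S (C b) : E₁) : E) = _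
    rw [coe_modelMap, map_C]
    rfl
  have hsE : algebraMap A[X] E (C s) ≠ 0 := by
    rw [Ne, map_eq_zero_iff _ hinj, C_eq_zero]
    exact hs
  obtain ⟨f, hf0, hf⟩ := Groth.Agent.EtpbcB.LocAcycRam.exists_uniformizer hs₁
  have hroot : ∀ b : A, ∃ c : A, c ^ n = b := by
    intro b
    obtain ⟨c, hc⟩ := Groth.Agent.EtpbcB.LocAcycSecA.exists_root_of_monic (X ^ n - C b)
      (monic_X_pow_sub_C b hn0) (by rwa [natDegree_X_pow_sub_C])
    refine ⟨c, ?_⟩
    simpa [IsRoot, sub_eq_zero] using hc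
  obtain ⟨γ, hγ⟩ := hroot (f : A)
  let sE : E₁ := algebraMap A₁[X] E₁ (C s₁)
  have hsE1 : (sE : E) = algebraMap A[X] E (C s) := hcoe1 s₁
  let Es := Localization.Away sE
  let ιF : E₁ →+* F := (algebraMap E F).comp E₁.subtype
  have hιF : Function.Injective ιF := hF.comp Subtype.val_injective
  have hsF : IsUnit (ιF sE) := by
    rw [isUnit_iff_ne_zero, Ne, map_eq_zero_iff _ hιF]
    intro h
    apply hsE
    rw [← hsE1, h]
    rfl
  let η₀ : Es →+* F := IsLocalization.Away.lift sE hsF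
  have hη₀ : ∀ x : E₁, η₀ (algebraMap E₁ Es x) = algebraMap E F x := fun x =>
    IsLocalization.Away.lift_eq sE hsF x
  have hη₀inj : Function.Injective η₀ := by
    apply IsLocalization.injective_of_map_algebraMap_zero (R := E₁) Es (M := Submonoid.powers sE)
    intro x hx
    rw [hη₀] at hx
    have h1 : x = 0 := hιF (hx.trans (map_zero ιF).symm)
    rw [h1, map_zero]
  -- the map `L₀ → Es`
  obtain ⟨μ, hμ⟩ := exists_factor (T : Set L₀) hT ν η₀ hη₀inj (by
    intro x hx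
    have hx1 : e x ∈ E₁ := hmod.sub A₁ h01 ⟨x, hx, rfl⟩
    have h1 := IsLocalization.map_units Es (⟨sE, Submonoid.mem_powers sE⟩ : Submonoid.powers sE)
    obtain ⟨v, hv⟩ := h1
    refine ⟨(↑v⁻¹ : Es) * algebraMap E₁ Es ⟨e x, hx1⟩, ?_⟩
    apply hsF.mul_left_cancel
    have h2 : ιF sE = η₀ (v : Es) := by
      rw [hv]
      exact (hη₀ sE).symm
    have h3 : ιF sE * ν x = algebraMap E F (e x) := by
      rw [← he x hx, ← hsE1]
      rfl
    rw [h3, map_mul, hη₀, h2, ← mul_assoc, ← map_mul, Units.mul_inv, map_one, one_mul])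
  -- the section
  let Ω := FractionRing A
  let σ₁ : E₁ →+* A₁ := RingHom.codRestrict (σ.comp E₁.subtype) A₁
    (fun x => hmod.map A₁ h01 x x.2)
  have hσ₁ : ∀ x : E₁, ((σ₁ x : A₁) : A) = σ x := fun x => rfl
  let k₁ := FractionRing A₁
  have hσ₁s : σ₁ sE = s₁ := by
    apply Subtype.ext
    rw [hσ₁, hsE1, hσ]
  have hsk₁ : IsUnit (((algebraMap A₁ k₁).comp σ₁) sE) := by
    rw [RingHom.comp_apply, hσ₁s, isUnit_iff_ne_zero, Ne, FaithfulSMul.algebraMap_eq_zero_iff]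
    exact hs₁
  let θ₁ : Es →+* k₁ := IsLocalization.Away.lift sE hsk₁
  have hθ₁ : ∀ x : E₁, θ₁ (algebraMap E₁ Es x) = algebraMap A₁ k₁ (σ₁ x) := fun x =>
    IsLocalization.Away.lift_eq sE hsk₁ x
  let W₁ : FEt.Cat (Spec (CommRingCat.of k₁)) :=
    (FEt.restrict (Spec.map (CommRingCat.ofHom (θ₁.comp μ)))).obj W
  obtain ⟨M, _, _, _, _, ⟨iM⟩⟩ := exists_iso_ofAlgebra W₁
  have hAΩ : Function.Injective (algebraMap A Ω) := IsFractionRing.injective A Ω
  have hA₁Ω : Function.Injective ((algebraMap A Ω).comp A₁.subtype) :=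
    hAΩ.comp Subtype.val_injective
  let κ₁ : k₁ →+* Ω := IsFractionRing.lift hA₁Ω
  have hκ₁ : ∀ a : A₁, κ₁ (algebraMap A₁ k₁ a) = algebraMap A Ω a := fun a =>
    IsFractionRing.lift_algebraMap hA₁Ω a
  let _ : Algebra k₁ Ω := κ₁.toAlgebra
  have : IsScalarTower A₁ k₁ Ω := IsScalarTower.of_algebraMap_eq fun a => (hκ₁ a).symm
  obtain ⟨Θ, hΘ1, hΘ2⟩ := SplitField.exists_finset (k₁ := k₁) (Ω := Ω) M
  have hΘ3 : ∀ x ∈ Θ, ∃ (b : A₁) (a : A), b ≠ 0 ∧ (A₁.subtype).IsIntegralElem a ∧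
      algebraMap A Ω a = algebraMap A Ω b * x := by
    intro x hx
    obtain ⟨b, hb⟩ := IsIntegral.exists_multiple_integral_of_isLocalization
      (nonZeroDivisors A₁) x (hΘ1 x hx)
    have hb' : IsIntegral A₁ ((b : A₁) • x) := hb
    have h1 : IsIntegral A ((b : A₁) • x) := hb'.tower_top
    obtain ⟨a, ha⟩ := IsIntegrallyClosed.isIntegral_iff.1 h1
    have h2 : (b : A₁) • x = algebraMap A Ω ((b : A₁) : A) * x := by
      rw [Algebra.smul_def]
      rfl
    refine ⟨b, a, nonZeroDivisors.ne_zero b.2, ?_, by rw [ha, h2]⟩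
    obtain ⟨p, hp, hpx⟩ := hb'
    refine ⟨p, hp, hAΩ ?_⟩
    rw [Polynomial.hom_eval₂, map_zero, ha, ← hpx]
    rfl
  choose! bΘ aΘ hbΘ haΘ habΘ using hΘ3
  -- the second normalization
  obtain ⟨A₂, h12, hG, hfg2, hnoeth2, hnorm2, hint2⟩ := hN A₁ hfg1 (insert γ (Θ.image aΘ)) (by
    intro b hb
    rw [Finset.mem_insert, Finset.mem_image] at hb
    rcases hb with hb | ⟨x, hx, rfl⟩
    · refine ⟨X ^ n - C f, monic_X_pow_sub_C _ hn0, ?_⟩
      rw [hb, eval₂_sub, eval₂_X_pow, eval₂_C, hγ]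
      exact sub_self _
    · exact haΘ x hx)
  have h02 : A₀ ≤ A₂ := h01.trans h12
  have hγ2 : γ ∈ A₂ := hG (by simp)
  have haΘ2 : ∀ x ∈ Θ, aΘ x ∈ A₂ := fun x hx => hG (by
    rw [Finset.coe_insert, Finset.coe_image]
    exact Or.inr ⟨x, hx, rfl⟩)
  let E₂ := modelRing A₂ S
  let alg2 : Algebra A₂[X] E₂ := (modelMap A₂ S).toAlgebra
  have het2 : Algebra.Etale A₂[X] E₂ := hmod.etale A₂ h02
  have hcoe2 : ∀ b : A₂, ((algebraMap A₂[X] E₂ (C b) : E₂) : E) = algebraMap A[X] E (C (b : A)) := by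
    intro b
    change ((modelMap A₂ S (C b) : E₂) : E) = _
    rw [coe_modelMap, map_C]
    rfl
  have hinj2 : Function.Injective (algebraMap A₂[X] E₂) := by
    intro p q hpq
    have h3 := congrArg Subtype.val hpq
    change ((modelMap A₂ S p : E₂) : E) = ((modelMap A₂ S q : E₂) : E) at h3
    rw [coe_modelMap, coe_modelMap] at h3
    exact map_injective _ Subtype.val_injective (hinj h3)
  let σ₂ : E₂ →+* A₂ := RingHom.codRestrict (σ.comp E₂.subtype) A₂
    (fun e => hmod.map A₂ h02 e e.2)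
  have hσ₂ : ∀ e : E₂, ((σ₂ e : A₂) : A) = σ e := fun e => rfl
  let m₂ : Ideal A₂ := m.comap A₂.subtype
  have hm₂ : m₂.IsPrime := Ideal.comap_isPrime _ _
  let j : A₁ →+* A₂ := Subring.inclusion h12
  have hj : Function.Injective j := Subring.inclusion_injective _
  have hji : j.IsIntegral := by
    rintro ⟨x, hx⟩
    obtain ⟨p, hp, hpx⟩ := hint2 x hx
    refine ⟨p, hp, Subtype.ext ?_⟩
    have h2 : A₂.subtype.comp j = A₁.subtype := rfl
    have h3 := Polynomial.hom_eval₂ p j A₂.subtype ⟨x, hx⟩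
    rw [h2] at h3
    exact h3.trans hpx
  let J : E₁ →+* E₂ := Subring.inclusion (modelRing_mono h12 S)
  have hJ : ∀ p, J (algebraMap A₁[X] E₁ p) = algebraMap A₂[X] E₂ (p.map j) := by
    intro p
    apply Subtype.ext
    change ((modelMap A₁ S p : E₁) : E) = ((modelMap A₂ S (p.map j) : E₂) : E)
    rw [coe_modelMap, coe_modelMap, Polynomial.map_map]
    rfl
  have hJinj : Function.Injective J := Subring.inclusion_injective _
  -- the fraction field of `A₂`
  let k₂ := FractionRing A₂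
  have hA₂Ω : Function.Injective ((algebraMap A Ω).comp A₂.subtype) :=
    hAΩ.comp Subtype.val_injective
  let κ₂ : k₂ →+* Ω := IsFractionRing.lift hA₂Ω
  have hκ₂ : ∀ a : A₂, κ₂ (algebraMap A₂ k₂ a) = algebraMap A Ω a := fun a =>
    IsFractionRing.lift_algebraMap hA₂Ω a
  have hA₁k₂ : Function.Injective ((algebraMap A₂ k₂).comp j) :=
    (IsFractionRing.injective A₂ k₂).comp hj
  let κ₁₂ : k₁ →+* k₂ := IsFractionRing.lift hA₁k₂
  have hκ₁₂ : ∀ a : A₁, κ₁₂ (algebraMap A₁ k₁ a) = algebraMap A₂ k₂ (j a) := fun a =>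
    IsFractionRing.lift_algebraMap hA₁k₂ a
  let _ : Algebra k₁ k₂ := κ₁₂.toAlgebra
  let _ : Algebra k₂ Ω := κ₂.toAlgebra
  have : IsScalarTower k₁ k₂ Ω := by
    apply IsScalarTower.of_algebraMap_eq'
    apply IsLocalization.ringHom_ext (nonZeroDivisors A₁)
    ext a
    change κ₁ (algebraMap A₁ k₁ a) = κ₂ (κ₁₂ (algebraMap A₁ k₁ a))
    rw [hκ₁, hκ₁₂, hκ₂]
    rfl
  have hΘk₂ : (Θ : Set Ω) ⊆ Set.range (algebraMap k₂ Ω) := by
    intro x hx
    refine ⟨algebraMap A₂ k₂ ⟨aΘ x, haΘ2 x hx⟩ / algebraMap A₂ k₂ (j (bΘ x)), ?_⟩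
    have h1 : algebraMap A Ω ((bΘ x : A₁) : A) ≠ 0 := by
      rw [Ne, map_eq_zero_iff _ hAΩ]
      intro h
      exact hbΘ x hx (Subtype.ext h)
    change κ₂ _ = _
    rw [map_div₀, hκ₂, hκ₂]
    change algebraMap A Ω (aΘ x) / algebraMap A Ω ((bΘ x : A₁) : A) = x
    rw [habΘ x hx, mul_div_cancel_left₀ _ h1]
  let θ₂ : Es →+* k₂ := κ₁₂.comp θ₁
  have hθ₂ : ∀ x : E₁, θ₂ (algebraMap E₁ Es x) = algebraMap A₂ k₂ (σ₂ (J x)) := by
    intro x
    change κ₁₂ (θ₁ (algebraMap E₁ Es x)) = _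
    rw [hθ₁, hκ₁₂]
    congr 1
  have hsplit : Pi1.IsSplit ((FEt.restrict (Spec.map (CommRingCat.ofHom θ₂) ≫
      Spec.map (CommRingCat.ofHom μ))).obj W) := by
    have h1 : Spec.map (CommRingCat.ofHom κ₁₂) ≫ Spec.map (CommRingCat.ofHom (θ₁.comp μ)) =
        Spec.map (CommRingCat.ofHom θ₂) ≫ Spec.map (CommRingCat.ofHom μ) := by
      rw [← Spec.map_comp, ← Spec.map_comp, ← CommRingCat.ofHom_comp, ← CommRingCat.ofHom_comp]
    obtain ⟨i1⟩ := Bc.of_comp h1 (Bc.refl _ W) (Bc.refl _ W)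
    have h2 := hΘ2 k₂ hΘk₂
    exact Groth.Agent.Pi1.H384.SplitBasic.isSplit_of_iso
      ((restrictOfAlgebraIso k₁ k₂ M).symm ≪≫ (FEt.restrict (specMap k₁ k₂)).mapIso iM.symm ≪≫ i1) h2
  -- the fraction field of `E₂`
  let F₂ := FractionRing E₂
  have hE₂F : Function.Injective ((algebraMap E F).comp E₂.subtype) :=
    hF.comp Subtype.val_injective
  let φ₂ : F₂ →+* F := IsFractionRing.lift hE₂F
  have hφ₂ : ∀ x : E₂, φ₂ (algebraMap E₂ F₂ x) = algebraMap E F x := fun x =>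
    IsFractionRing.lift_algebraMap hE₂F x
  have hE₁F₂ : Function.Injective ((algebraMap E₂ F₂).comp J) :=
    (IsFractionRing.injective E₂ F₂).comp hJinj
  have hsF₂ : IsUnit (((algebraMap E₂ F₂).comp J) sE) := by
    rw [isUnit_iff_ne_zero, Ne, map_eq_zero_iff _ hE₁F₂]
    intro h
    apply hsE
    rw [← hsE1, h]
    rfl
  let η : Es →+* F₂ := IsLocalization.Away.lift sE hsF₂
  have hη : ∀ x : E₁, η (algebraMap E₁ Es x) = algebraMap E₂ F₂ (J x) := fun x =>
    IsLocalization.Away.lift_eq sE hsF₂ x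
  have hηη₀ : φ₂.comp η = η₀ := by
    apply IsLocalization.ringHom_ext (Submonoid.powers sE)
    ext x
    rw [RingHom.comp_apply, RingHom.comp_apply, RingHom.comp_apply, hη, hφ₂, hη₀]
    rfl
  have hmap2 : ∀ a : A₂, σ₂ (algebraMap A₂[X] E₂ (C a)) = a := by
    intro a
    apply Subtype.ext
    rw [hσ₂, hcoe2, hσ]
  have hn₂ : (n : A₂) ∉ m₂ := by
    intro h
    apply hn
    have h3 : ((n : A₂) : A) ∈ m := h
    simpa using h3
  obtain ⟨κ, Z₂, hκ, hZ₂⟩ := LevelCore.exists_cover j J hJ hinj2 hj hji hs₁ hf n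
    (γ := ⟨γ, hγ2⟩) (Subtype.ext hγ) σ₂ hmap2 m₂ hn₂ (Spec.map (CommRingCat.ofHom μ)) W ρ hρ hcard
    θ₂ hθ₂ hsplit η hη
  let P₂ : Ideal E₂ := m₂.comap σ₂
  let P : Ideal E := m.comap σ
  have hP : P₂ = P.comap E₂.subtype := rfl
  let lr : Localization.AtPrime P₂ →+* Localization.AtPrime P :=
    Localization.localRingHom P₂ P E₂.subtype hP
  have hlr : ∀ x : E₂, lr (algebraMap E₂ _ x) = algebraMap E _ (x : E) := fun x =>
    Localization.localRingHom_to_map P₂ P E₂.subtype hP x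
  let κE : Localization.AtPrime P →+* F :=
    IsLocalization.lift (M := P.primeCompl) (g := algebraMap E F) (fun y => by
      rw [isUnit_iff_ne_zero, Ne, map_eq_zero_iff _ hF]
      intro h
      exact y.2 (by rw [h]; exact P.zero_mem))
  have hκE : ∀ x, κE (algebraMap E _ x) = algebraMap E F x := fun x => IsLocalization.lift_eq _ _
  refine ⟨κE, (FEt.restrict (Spec.map (CommRingCat.ofHom lr))).obj Z₂, hκE, ?_⟩
  have hcomp : κE.comp lr = φ₂.comp κ := by
    apply IsLocalization.ringHom_ext P₂.primeCompl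
    ext x
    rw [RingHom.comp_apply, RingHom.comp_apply, RingHom.comp_apply, RingHom.comp_apply, hlr, hκE, hκ,
      hφ₂]
  have e1 : Bc (Spec.map (CommRingCat.ofHom φ₂) ≫ Spec.map (CommRingCat.ofHom κ)) Z₂
      ((FEt.restrict (Spec.map (CommRingCat.ofHom φ₂))).obj
        ((FEt.restrict (Spec.map (CommRingCat.ofHom η) ≫ Spec.map (CommRingCat.ofHom μ))).obj W)) :=
    hZ₂.comp (Bc.refl _ _)
  have e2 : Bc (Spec.map (CommRingCat.ofHom ν)) W
      ((FEt.restrict (Spec.map (CommRingCat.ofHom φ₂))).obj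
        ((FEt.restrict (Spec.map (CommRingCat.ofHom η) ≫ Spec.map (CommRingCat.ofHom μ))).obj W)) := by
    refine (Bc.refl _ W).comp' ?_ (Bc.refl _ _)
    rw [← Spec.map_comp, ← Spec.map_comp, ← CommRingCat.ofHom_comp, ← CommRingCat.ofHom_comp]
    congr 2
    ext x
    rw [← hμ x, ← hηη₀]
    rfl
  have e3 : Bc (Spec.map (CommRingCat.ofHom κE) ≫ Spec.map (CommRingCat.ofHom lr)) Z₂
      ((FEt.restrict (Spec.map (CommRingCat.ofHom κE))).obj
        ((FEt.restrict (Spec.map (CommRingCat.ofHom lr))).obj Z₂)) :=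
    (Bc.refl _ _).comp (Bc.refl _ _)
  have h5 : Spec.map (CommRingCat.ofHom κE) ≫ Spec.map (CommRingCat.ofHom lr) =
      Spec.map (CommRingCat.ofHom φ₂) ≫ Spec.map (CommRingCat.ofHom κ) := by
    rw [← Spec.map_comp, ← Spec.map_comp, ← CommRingCat.ofHom_comp, ← CommRingCat.ofHom_comp, hcomp]
  rw [h5] at e3
  obtain ⟨i1⟩ := e3.unique e1
  obtain ⟨i2⟩ := e2
  exact ⟨i1 ≪≫ i2.symm⟩

end FiniteLevel

end K286
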