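import Mathlib.AlgebraicGeometry.Morphisms.QuasiSeparated

/-!
# Dividing a global section by a nonzerodivisor, locally
-/

set_option autoImplicit false
set_option linter.unusedSectionVars false

universe u

open CategoryTheory CategoryTheory.Limits AlgebraicGeometry TopologicalSpace Opposite

namespace K286.Glue

variable {Z : Scheme.{u}} [CompactSpace Z] [QuasiSeparatedSpace Z]

/-- Restriction of a global section. -/
noncomputable abbrev res (O : Z.Opens) (x : Γ(Z, ⊤)) : Γ(Z, O) :=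
  Z.presheaf.map (homOfLE le_top).op x

theorem res_res {O O' : Z.Opens} (h : O' ≤ O) (x : Γ(Z, ⊤)) :
    Z.presheaf.map (homOfLE h).op (res O x) = res O' x := by
  rw [res, res, ← CommRingCat.comp_apply, ← Functor.map_comp]
  rfl

/-- A section over a basic open killed by a nonzerodivisor vanishes. -/
theorem eq_zero_of_mul (s : Γ(Z, ⊤)) (hs : ∀ x : Γ(Z, ⊤), s * x = 0 → x = 0) (f : Γ(Z, ⊤))
    (x : Γ(Z, Z.basicOpen f)) (hx : res (Z.basicOpen f) s * x = 0) : x = 0 := by
  have hloc : IsLocalization.Away f Γ(Z, Z.basicOpen f) :=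
    isLocalization_basicOpen_of_qcqs isCompact_univ isQuasiSeparated_univ f
  obtain ⟨⟨y, ⟨_, n, rfl⟩⟩, hy⟩ := IsLocalization.surj (Submonoid.powers f) x
  have hy' : x * res (Z.basicOpen f) (f ^ n) = res (Z.basicOpen f) y := hy
  have h1 : res (Z.basicOpen f) (s * y) = 0 := by
    have h2 : res (Z.basicOpen f) (s * y) = res (Z.basicOpen f) s * res (Z.basicOpen f) y :=
      map_mul _ _ _
    rw [h2, ← hy', ← mul_assoc, hx, zero_mul]
  obtain ⟨⟨_, m, rfl⟩, hm⟩ := (IsLocalization.map_eq_zero_iff (Submonoid.powers f)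
    Γ(Z, Z.basicOpen f) (s * y)).1 h1
  have h3 : s * (f ^ m * y) = 0 := by
    rw [← hm]
    change _ = f ^ m * (s * y)
    ring
  have h4 := hs _ h3
  have h5 : res (Z.basicOpen f) y = 0 :=
    (IsLocalization.map_eq_zero_iff (Submonoid.powers f) Γ(Z, Z.basicOpen f) y).2
      ⟨⟨_, m, rfl⟩, h4⟩
  have h6 : IsUnit (res (Z.basicOpen f) (f ^ n)) :=
    IsLocalization.map_units (M := Submonoid.powers f) Γ(Z, Z.basicOpen f) ⟨_, n, rfl⟩
  rw [h5] at hy'
  exact (h6.mul_left_eq_zero).1 hy'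

/-- **Local division**. -/
theorem exists_eq_mul (s b : Γ(Z, ⊤)) (hs : ∀ x : Γ(Z, ⊤), s * x = 0 → x = 0)
    (h : ∀ z : Z, ∃ r : Γ(Z, ⊤), z ∈ Z.basicOpen r ∧ ∃ b' : Γ(Z, ⊤), r * b = s * b') :
    ∃ b' : Γ(Z, ⊤), b = s * b' := by
  let I := {r : Γ(Z, ⊤) // ∃ b' : Γ(Z, ⊤), r * b = s * b'}
  choose c hc using fun r : I => r.2
  have hu : ∀ r : I, IsUnit (res (Z.basicOpen r.1) r.1) := fun r =>
    RingedSpace.isUnit_res_basicOpen Z.toLocallyRingedSpace.toRingedSpace r.1
  choose v hv using fun r : I => (hu r).exists_right_inv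
  let x : ∀ r : I, Γ(Z, Z.basicOpen r.1) := fun r => v r * res (Z.basicOpen r.1) (c r)
  have hx : ∀ r : I, res (Z.basicOpen r.1) s * x r = res (Z.basicOpen r.1) b := by
    intro r
    have h1 : res (Z.basicOpen r.1) r.1 * res (Z.basicOpen r.1) b =
        res (Z.basicOpen r.1) s * res (Z.basicOpen r.1) (c r) := by
      rw [← map_mul, ← map_mul, hc]
    calc res (Z.basicOpen r.1) s * x r
        = v r * (res (Z.basicOpen r.1) s * res (Z.basicOpen r.1) (c r)) := by
          simp only [x]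
          ring
      _ = (res (Z.basicOpen r.1) r.1 * v r) * res (Z.basicOpen r.1) b := by
          rw [← h1]
          ring
      _ = _ := by rw [hv, one_mul]
  have hcompat : TopCat.Presheaf.IsCompatible Z.sheaf.1 (fun r : I => Z.basicOpen r.1) x := by
    intro i j
    have hO : Z.basicOpen (i.1 * j.1) = Z.basicOpen i.1 ⊓ Z.basicOpen j.1 := Z.basicOpen_mul _ _
    have key : ∀ (O : Z.Opens) (hO : Z.basicOpen (i.1 * j.1) = O) (hi : O ≤ Z.basicOpen i.1)
        (hj : O ≤ Z.basicOpen j.1), Z.presheaf.map (homOfLE hi).op (x i) =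
          Z.presheaf.map (homOfLE hj).op (x j) := by
      intro O hO hi hj
      subst hO
      rw [← sub_eq_zero]
      apply eq_zero_of_mul s hs
      rw [mul_sub, sub_eq_zero, ← res_res hi s, ← map_mul, hx, res_res hi, res_res hi,
        ← res_res hj s, ← map_mul, hx, res_res hj]
    exact key _ hO inf_le_left inf_le_right
  obtain ⟨(y : Γ(Z, ⊤)), hy, -⟩ := TopCat.Sheaf.existsUnique_gluing' Z.sheaf
    (fun r : I => Z.basicOpen r.1) ⊤ (fun _ => homOfLE le_top) (by
      intro z _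
      obtain ⟨r, hr, hr'⟩ := h z
      exact Opens.mem_iSup.2 ⟨⟨r, hr'⟩, hr⟩) x hcompat
  refine ⟨y, ?_⟩
  refine TopCat.Sheaf.eq_of_locally_eq' Z.sheaf (fun r : I => Z.basicOpen r.1) ⊤
    (fun _ => homOfLE le_top) (by
      intro z _
      obtain ⟨r, hr, hr'⟩ := h z
      exact Opens.mem_iSup.2 ⟨⟨r, hr'⟩, hr⟩) b (s * y) ?_
  intro r
  have h1 : res (Z.basicOpen r.1) y = x r := hy r
  change res (Z.basicOpen r.1) b = res (Z.basicOpen r.1) (s * y)
  have h2 : res (Z.basicOpen r.1) (s * y) = res (Z.basicOpen r.1) s * res (Z.basicOpen r.1) y :=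
    map_mul _ _ _
  rw [h2, h1, hx]

end K286.Glue
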