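import Groth.Agent.SGA4h.K286.TrForm
import Mathlib.RingTheory.Localization.AsSubring
import Mathlib.RingTheory.LocalRing.Module
import Mathlib.RingTheory.Etale.Basic
import Groth.Agent.EtpbcB.LocAcycD

/-!
# Algebras which are finite étale at the points of a subset containing the points of codimension one
-/

set_option autoImplicit false
set_option linter.unusedSectionVars false

universe u

open TensorProduct

namespace K286

/-- `B` is finite étale over `C` at the points of `V`, torsion free, and its elements are determined by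
their images at the points of `V`. -/
structure GoodCover (C B : Type u) [CommRing C] [CommRing B] [Algebra C B]
    (V : Set (PrimeSpectrum C)) : Prop where
  finite : ∀ 𝔮 ∈ V, Module.Finite (Localization.AtPrime 𝔮.asIdeal)
    (Localization.AtPrime 𝔮.asIdeal ⊗[C] B)
  etale : ∀ 𝔮 ∈ V, Algebra.Etale (Localization.AtPrime 𝔮.asIdeal)
    (Localization.AtPrime 𝔮.asIdeal ⊗[C] B)
  torsion : ∀ (c : C) (b : B), c ≠ 0 → c • b = 0 → b = 0
  hartogs : ∀ (s : C) (b : B), s ≠ 0 →
    (∀ 𝔮 ∈ V, ∃ r : C, r ∉ 𝔮.asIdeal ∧ ∃ b' : B, r • b = s • b') → ∃ b' : B, b = s • b'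

namespace GoodCover

variable {C B : Type u} [CommRing C] [CommRing B] [Algebra C B] {V : Set (PrimeSpectrum C)}

section General

/-- Algebra structure over the localization. -/
@[reducible]
noncomputable def locAlg (𝔮 : Ideal C) [𝔮.IsPrime] (D : Type u) [CommRing D] [Algebra C D]
    (hD : ∀ c : C, c ∉ 𝔮 → IsUnit (algebraMap C D c)) : Algebra (Localization.AtPrime 𝔮) D :=
  (IsLocalization.lift (M := 𝔮.primeCompl) (g := algebraMap C D) (fun y => hD _ y.2)).toAlgebra

theorem locAlg_tower (𝔮 : Ideal C) [𝔮.IsPrime] (D : Type u) [CommRing D] [Algebra C D]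
    (hD : ∀ c : C, c ∉ 𝔮 → IsUnit (algebraMap C D c)) :
    let _ := locAlg 𝔮 D hD
    IsScalarTower C (Localization.AtPrime 𝔮) D := by
  let _ := locAlg 𝔮 D hD
  exact .of_algebraMap_eq fun c => (IsLocalization.lift_eq _ _).symm

theorem finite_of (h : GoodCover C B V) (𝔮 : PrimeSpectrum C) (h𝔮 : 𝔮 ∈ V) (D : Type u)
    [CommRing D] [Algebra C D] (hD : ∀ c : C, c ∉ 𝔮.asIdeal → IsUnit (algebraMap C D c)) :
    Module.Finite D (D ⊗[C] B) := by
  let _ := locAlg 𝔮.asIdeal D hD
  have := locAlg_tower 𝔮.asIdeal D hD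
  have := h.finite 𝔮 h𝔮
  let e : D ⊗[Localization.AtPrime 𝔮.asIdeal] (Localization.AtPrime 𝔮.asIdeal ⊗[C] B) ≃ₐ[D]
    D ⊗[C] B := Algebra.TensorProduct.cancelBaseChange C _ D D B
  exact Module.Finite.equiv e.toLinearEquiv

theorem etale_of (h : GoodCover C B V) (𝔮 : PrimeSpectrum C) (h𝔮 : 𝔮 ∈ V) (D : Type u)
    [CommRing D] [Algebra C D] (hD : ∀ c : C, c ∉ 𝔮.asIdeal → IsUnit (algebraMap C D c)) :
    Algebra.Etale D (D ⊗[C] B) := by
  let _ := locAlg 𝔮.asIdeal D hD
  have := locAlg_tower 𝔮.asIdeal D hD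
  have := h.etale 𝔮 h𝔮
  let e : D ⊗[Localization.AtPrime 𝔮.asIdeal] (Localization.AtPrime 𝔮.asIdeal ⊗[C] B) ≃ₐ[D]
    D ⊗[C] B := Algebra.TensorProduct.cancelBaseChange C _ D D B
  exact Algebra.Etale.of_equiv
    (A := D ⊗[Localization.AtPrime 𝔮.asIdeal] (Localization.AtPrime 𝔮.asIdeal ⊗[C] B)) e

theorem free_of (h : GoodCover C B V) (𝔮 : PrimeSpectrum C) (h𝔮 : 𝔮 ∈ V) (D : Type u)
    [CommRing D] [IsLocalRing D] [Algebra C D]
    (hD : ∀ c : C, c ∉ 𝔮.asIdeal → IsUnit (algebraMap C D c)) :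
    Module.Free D (D ⊗[C] B) := by
  have := h.finite_of 𝔮 h𝔮 D hD
  have := h.etale_of 𝔮 h𝔮 D hD
  exact Module.free_of_flat_of_isLocalRing

/-- Elements of a localized module. -/
theorem exists_smul_eq {M : Submonoid C} (D : Type u) [CommRing D] [Algebra C D]
    [IsLocalization M D] (x : D ⊗[C] B) : ∃ s ∈ M, ∃ b : B, s • x = 1 ⊗ₜ[C] b := by
  have : IsLocalizedModule M (TensorProduct.mk C D B 1) :=
    (isLocalizedModule_iff_isBaseChange M D _).2 (TensorProduct.isBaseChange C B D)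
  obtain ⟨⟨b, s⟩, hs⟩ := IsLocalizedModule.surj M (TensorProduct.mk C D B 1) x
  exact ⟨s, s.2, b, hs⟩

end General

section Domain

variable [IsDomain C] [IsNoetherianRing C] [IsIntegrallyClosed C]
  (K : Type u) [Field K] [Algebra C K] [IsFractionRing C K]

theorem injective (h : GoodCover C B V) {b b' : B} (hb : (1 ⊗ₜ[C] b : K ⊗[C] B) = 1 ⊗ₜ[C] b') :
    b = b' := by
  have : IsLocalizedModule (nonZeroDivisors C) (TensorProduct.mk C K B 1) :=
    (isLocalizedModule_iff_isBaseChange (nonZeroDivisors C) K _).2 (TensorProduct.isBaseChange C B K)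
  obtain ⟨c, hc⟩ := (IsLocalizedModule.eq_iff_exists (nonZeroDivisors C)
    (TensorProduct.mk C K B 1)).1 hb
  have h1 : (c : C) • (b - b') = 0 := by
    rw [smul_sub, sub_eq_zero]
    exact hc
  exact sub_eq_zero.1 (h.torsion c _ (nonZeroDivisors.ne_zero c.2) h1)

/-- The primes of height at most one, and the generic point of the section -/
def ContainsHeightOne (V : Set (PrimeSpectrum C)) : Prop :=
  ∀ 𝔮 : PrimeSpectrum C, 𝔮.asIdeal.height ≤ 1 → 𝔮 ∈ V

theorem unit_K (c : C) (hc : c ∉ (⊥ : Ideal C)) : IsUnit (algebraMap C K c) := by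
  rw [isUnit_iff_ne_zero, Ne, FaithfulSMul.algebraMap_eq_zero_iff]
  exact hc

theorem bot_mem (hV : ContainsHeightOne V) : (⟨⊥, Ideal.isPrime_bot⟩ : PrimeSpectrum C) ∈ V := by
  apply hV
  change (⊥ : Ideal C).height ≤ 1
  rw [Ideal.height_bot]
  exact zero_le_one

theorem finite_K (h : GoodCover C B V) (hV : ContainsHeightOne V) :
    Module.Finite K (K ⊗[C] B) :=
  h.finite_of _ (bot_mem hV) K (unit_K K)

theorem etale_K (h : GoodCover C B V) (hV : ContainsHeightOne V) :
    Algebra.Etale K (K ⊗[C] B) :=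
  h.etale_of _ (bot_mem hV) K (unit_K K)

/-- The localization at a prime as a subalgebra of the fraction field. -/
noncomputable abbrev loc (𝔮 : Ideal C) [𝔮.IsPrime] : Subalgebra C K :=
  Localization.subalgebra.ofField K 𝔮.primeCompl 𝔮.primeCompl_le_nonZeroDivisors

theorem loc_unit (𝔮 : Ideal C) [𝔮.IsPrime] (c : C) (hc : c ∉ 𝔮) :
    IsUnit (algebraMap C (loc K 𝔮) c) :=
  IsLocalization.map_units (M := 𝔮.primeCompl) (loc K 𝔮) ⟨c, hc⟩

theorem isLocalRing_loc (𝔮 : Ideal C) [𝔮.IsPrime] : IsLocalRing (loc K 𝔮) :=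
  IsLocalization.AtPrime.isLocalRing (loc K 𝔮) 𝔮

theorem loc_spec (𝔮 : Ideal C) [𝔮.IsPrime] (z : loc K 𝔮) :
    ∃ a s : C, s ∉ 𝔮 ∧ (z : K) * algebraMap C K s = algebraMap C K a := by
  obtain ⟨⟨a, s⟩, h⟩ := IsLocalization.surj 𝔮.primeCompl z
  exact ⟨a, s, s.2, congrArg Subtype.val h⟩

/-- The trace of an element of `B` lies in `C`. -/
theorem exists_tr (h : GoodCover C B V) (hV : ContainsHeightOne V) (b : B) :
    ∃ c : C, algebraMap C K c = TrForm.tr C B K b := by
  apply Groth.Agent.EtpbcB.LocAcyc.exists_algebraMap_eq_of_height_one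
  intro 𝔮 h𝔮 h1
  have h𝔮V : (⟨𝔮, h𝔮⟩ : PrimeSpectrum C) ∈ V := hV _ h1.le
  have := isLocalRing_loc K 𝔮
  have := h.finite_of _ h𝔮V (loc K 𝔮) (loc_unit K 𝔮)
  have := h.free_of _ h𝔮V (loc K 𝔮) (loc_unit K 𝔮)
  rw [TrForm.tr_tower C B (loc K 𝔮) K]
  exact loc_spec K 𝔮 _

/-- The trace as a map to `C`. -/
noncomputable def Tr (h : GoodCover C B V) (hV : ContainsHeightOne V) : B →ₗ[C] C where
  toFun b := (h.exists_tr (FractionRing C) hV b).choose
  map_add' x y := by
    apply FaithfulSMul.algebraMap_injective C (FractionRing C)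
    have h1 := (h.exists_tr (FractionRing C) hV (x + y)).choose_spec
    have h2 := (h.exists_tr (FractionRing C) hV x).choose_spec
    have h3 := (h.exists_tr (FractionRing C) hV y).choose_spec
    rw [h1, map_add, map_add, h2, h3]
  map_smul' c x := by
    apply FaithfulSMul.algebraMap_injective C (FractionRing C)
    have h1 := (h.exists_tr (FractionRing C) hV (c • x)).choose_spec
    have h2 := (h.exists_tr (FractionRing C) hV x).choose_spec
    rw [h1, RingHom.id_apply, smul_eq_mul, map_mul, h2, map_smul, Algebra.smul_def]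

theorem Tr_spec₀ (h : GoodCover C B V) (hV : ContainsHeightOne V) (b : B) :
    TrForm.tr C B (FractionRing C) b = algebraMap C (FractionRing C) (h.Tr hV b) :=
  ((h.exists_tr (FractionRing C) hV b).choose_spec).symm

/-- Compatibility of the trace with base change. -/
theorem Tr_spec (h : GoodCover C B V) (hV : ContainsHeightOne V) (𝔮 : PrimeSpectrum C)
    (h𝔮 : 𝔮 ∈ V) (D : Type u)
    [CommRing D] [Algebra C D] (hD : ∀ c : C, c ∉ 𝔮.asIdeal → IsUnit (algebraMap C D c)) (b : B) :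
    TrForm.tr C B D b = algebraMap C D (h.Tr hV b) := by
  let _ := locAlg 𝔮.asIdeal D hD
  have := locAlg_tower 𝔮.asIdeal D hD
  have hloc : ∀ c : C, c ∉ 𝔮.asIdeal → IsUnit (algebraMap C (Localization.AtPrime 𝔮.asIdeal) c) :=
    fun c hc => IsLocalization.map_units (M := 𝔮.asIdeal.primeCompl) _ ⟨c, hc⟩
  have hfrac : ∀ c : C, c ∉ 𝔮.asIdeal → IsUnit (algebraMap C (FractionRing C) c) :=
    fun c hc => by
      apply unit_K
      intro h0
      rw [Ideal.mem_bot] at h0
      exact hc (h0 ▸ 𝔮.asIdeal.zero_mem)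
  let _ := locAlg 𝔮.asIdeal (FractionRing C) hfrac
  have := locAlg_tower 𝔮.asIdeal (FractionRing C) hfrac
  have := h.finite 𝔮 h𝔮
  have := h.free_of 𝔮 h𝔮 (Localization.AtPrime 𝔮.asIdeal) hloc
  rw [TrForm.tr_tower C B (Localization.AtPrime 𝔮.asIdeal) D,
    IsScalarTower.algebraMap_apply C (Localization.AtPrime 𝔮.asIdeal) D]
  congr 1
  have hinj : Function.Injective (algebraMap (Localization.AtPrime 𝔮.asIdeal) (FractionRing C)) := by
    apply IsLocalization.injective_of_map_algebraMap_zero (R := C)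
      (Localization.AtPrime 𝔮.asIdeal) (M := 𝔮.asIdeal.primeCompl)
    intro c hc
    rw [← IsScalarTower.algebraMap_apply, FaithfulSMul.algebraMap_eq_zero_iff] at hc
    rw [hc, map_zero]
  apply hinj
  rw [← TrForm.tr_tower C B (Localization.AtPrime 𝔮.asIdeal) (FractionRing C), Tr_spec₀ h hV,
    ← IsScalarTower.algebraMap_apply]

end Domain

end GoodCover

end K286
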