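import Groth.Agent.SGA4h.K286.GoodCover

/-!
# Trace duality for algebras finite étale in codimension one
-/

set_option autoImplicit false
set_option linter.unusedSectionVars false

universe u

open TensorProduct

namespace K286

namespace GoodCover

variable {C B : Type u} [CommRing C] [CommRing B] [Algebra C B] {V : Set (PrimeSpectrum C)}

/-- Base change of a linear form. -/
noncomputable def form (φ : B →ₗ[C] C) (D : Type u) [CommRing D] [Algebra C D] :
    D ⊗[C] B →ₗ[D] D :=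
  (TensorProduct.AlgebraTensorModule.rid C D D).toLinearMap.comp (φ.baseChange D)

theorem form_tmul (φ : B →ₗ[C] C) (D : Type u) [CommRing D] [Algebra C D] (b : B) :
    form φ D (1 ⊗ₜ[C] b) = algebraMap C D (φ b) := by
  rw [form, LinearMap.comp_apply, LinearMap.baseChange_tmul]
  change TensorProduct.AlgebraTensorModule.rid C D D (1 ⊗ₜ[C] φ b) = _
  rw [TensorProduct.AlgebraTensorModule.rid_tmul, Algebra.algebraMap_eq_smul_one]

theorem exists_form (φ : B →ₗ[C] C) (D : Type u) [CommRing D] [Algebra C D]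
    [Module.Finite D (D ⊗[C] B)] [Module.Free D (D ⊗[C] B)] [Algebra.Etale D (D ⊗[C] B)] :
    ∃ y : D ⊗[C] B, ∀ b : B, Algebra.trace D (D ⊗[C] B) (y * (1 ⊗ₜ[C] b)) =
      algebraMap C D (φ b) := by
  obtain ⟨y, hy⟩ := (Groth.Agent.S2733.bijective_traceForm_of_etale (A := D) (B := D ⊗[C] B)).2
    (form φ D)
  refine ⟨y, fun b => ?_⟩
  rw [← form_tmul, ← hy, Algebra.traceForm_apply]

theorem ext_form (D : Type u) [CommRing D] [Algebra C D]
    [Module.Finite D (D ⊗[C] B)] [Module.Free D (D ⊗[C] B)] [Algebra.Etale D (D ⊗[C] B)]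
    (y z : D ⊗[C] B)
    (h : ∀ b : B, Algebra.trace D (D ⊗[C] B) (y * (1 ⊗ₜ[C] b)) =
      Algebra.trace D (D ⊗[C] B) (z * (1 ⊗ₜ[C] b))) : y = z := by
  apply (Groth.Agent.S2733.bijective_traceForm_of_etale (A := D) (B := D ⊗[C] B)).1
  apply TensorProduct.AlgebraTensorModule.curry_injective
  apply LinearMap.ext
  intro a
  apply LinearMap.ext
  intro b
  have h1 : (a ⊗ₜ[C] b : D ⊗[C] B) = a • (1 ⊗ₜ[C] b) := by
    rw [TensorProduct.smul_tmul', smul_eq_mul, mul_one]
  change Algebra.traceForm D (D ⊗[C] B) y (a ⊗ₜ[C] b) =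
    Algebra.traceForm D (D ⊗[C] B) z (a ⊗ₜ[C] b)
  rw [h1, map_smul, map_smul, Algebra.traceForm_apply, Algebra.traceForm_apply, h]

variable [IsDomain C] [IsNoetherianRing C] [IsIntegrallyClosed C]

/-- **Duality**: all linear forms on `B` are given by the trace. -/
theorem exists_dual (h : GoodCover C B V) (hV : ContainsHeightOne V) (φ : B →ₗ[C] C) :
    ∃ y : B, ∀ b, h.Tr hV (y * b) = φ b := by
  let K := FractionRing C
  have := h.finite_K K hV
  have := h.etale_K K hV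
  obtain ⟨y, hy⟩ := exists_form φ K
  obtain ⟨s, hs, b₀, hb₀⟩ := exists_smul_eq (M := nonZeroDivisors C) K y
  have hs0 : s ≠ 0 := nonZeroDivisors.ne_zero hs
  have hloc : ∀ 𝔮 ∈ V, ∃ r : C, r ∉ 𝔮.asIdeal ∧ ∃ b' : B, r • b₀ = s • b' := by
    intro 𝔮 h𝔮
    have := isLocalRing_loc K 𝔮.asIdeal
    have := h.finite_of _ h𝔮 (loc K 𝔮.asIdeal) (loc_unit K 𝔮.asIdeal)
    have := h.free_of _ h𝔮 (loc K 𝔮.asIdeal) (loc_unit K 𝔮.asIdeal)
    have := h.etale_of _ h𝔮 (loc K 𝔮.asIdeal) (loc_unit K 𝔮.asIdeal)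
    obtain ⟨z, hz⟩ := exists_form φ (loc K 𝔮.asIdeal)
    have hzy : TrForm.bcMap C B (loc K 𝔮.asIdeal) K z = y := by
      apply ext_form
      intro b
      rw [hy]
      have h1 : TrForm.bcMap C B (loc K 𝔮.asIdeal) K z * (1 ⊗ₜ[C] b) =
          TrForm.bcMap C B (loc K 𝔮.asIdeal) K (z * (1 ⊗ₜ[C] b)) := by
        rw [map_mul, TrForm.bcMap_tmul, map_one]
      rw [h1, TrForm.trace_tower, hz, ← IsScalarTower.algebraMap_apply]
    obtain ⟨r, hr, b₁, hb₁⟩ := exists_smul_eq (M := 𝔮.asIdeal.primeCompl) (loc K 𝔮.asIdeal) z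
    refine ⟨r, hr, b₁, ?_⟩
    apply h.injective K
    rw [TensorProduct.tmul_smul, TensorProduct.tmul_smul, ← hb₀, smul_comm]
    congr 1
    rw [← hzy, ← map_smul, hb₁, TrForm.bcMap_tmul, map_one]
  obtain ⟨b', hb'⟩ := h.hartogs s b₀ hs0 hloc
  refine ⟨b', fun b => ?_⟩
  apply FaithfulSMul.algebraMap_injective C K
  have hyb : y = 1 ⊗ₜ[C] b' := by
    rw [hb', TensorProduct.tmul_smul] at hb₀
    have h2 : algebraMap C K s • (y - 1 ⊗ₜ[C] b') = 0 := by
      rw [smul_sub, sub_eq_zero, algebraMap_smul, algebraMap_smul]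
      exact hb₀
    have h3 : algebraMap C K s ≠ 0 := by
      rwa [Ne, FaithfulSMul.algebraMap_eq_zero_iff]
    exact sub_eq_zero.1 ((smul_eq_zero_iff_right h3).1 h2)
  rw [← Tr_spec₀, TrForm.tr_apply, ← hy, hyb, Algebra.TensorProduct.tmul_mul_tmul, one_mul]

/-- `B` is finite over `C`. -/
theorem module_finite (h : GoodCover C B V) (hV : ContainsHeightOne V) : Module.Finite C B := by
  classical
  let K := FractionRing C
  have := h.finite_K K hV
  have := h.etale_K K hV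
  obtain ⟨S, hS⟩ := (Module.Finite.fg_top : (⊤ : Submodule K (K ⊗[C] B)).FG)
  choose s hs b hb using exists_smul_eq (B := B) (M := nonZeroDivisors C) K
  let Φ : B →ₗ[C] (S → C) := LinearMap.pi fun x =>
    (h.Tr hV).comp (LinearMap.mulRight C (b x))
  apply Module.Finite.of_injective Φ
  rw [← LinearMap.ker_eq_bot, eq_bot_iff]
  intro b' hb'
  rw [LinearMap.mem_ker] at hb'
  have h1 : ∀ x ∈ S, Algebra.trace K (K ⊗[C] B) ((1 ⊗ₜ[C] b') * x) = 0 := by
    intro x hx
    have h2 : h.Tr hV (b' * b x) = 0 := congrFun hb' ⟨x, hx⟩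
    have h3 : algebraMap C K (s x) • Algebra.trace K (K ⊗[C] B) ((1 ⊗ₜ[C] b') * x) = 0 := by
      rw [← map_smul, algebraMap_smul, ← mul_smul_comm, hb, Algebra.TensorProduct.tmul_mul_tmul,
        one_mul, ← TrForm.tr_apply, Tr_spec₀ h hV, h2, map_zero]
    have h4 : algebraMap C K (s x) ≠ 0 := by
      rw [Ne, FaithfulSMul.algebraMap_eq_zero_iff]
      exact nonZeroDivisors.ne_zero (hs x)
    exact (smul_eq_zero_iff_right h4).1 h3
  have h5 : Algebra.traceForm K (K ⊗[C] B) (1 ⊗ₜ[C] b') = 0 :=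
    LinearMap.ext_on hS fun x hx => by
      rw [Algebra.traceForm_apply, h1 x hx]
      rfl
  have h6 : (1 ⊗ₜ[C] b' : K ⊗[C] B) = 0 :=
    (Groth.Agent.S2733.bijective_traceForm_of_etale (A := K) (B := K ⊗[C] B)).1
      (h5.trans (map_zero _).symm)
  rw [Submodule.mem_bot]
  apply h.injective K
  rw [h6, TensorProduct.tmul_zero]

end GoodCover

end K286
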