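import Groth.Agent.SGA4h.K286.GoodIC
import Groth.Agent.SGA4h.K286.GoodCore
import Groth.Agent.Pi1.H382.BC
import Groth.Agent.Pi1C.SplitAlg

/-!
# Finite étale covers of the generic point which extend locally and split along a section
-/

set_option autoImplicit false
set_option linter.unusedSectionVars false

universe u

open CategoryTheory CategoryTheory.Limits AlgebraicGeometry TensorProduct

namespace K286

namespace GoodFEt

open Groth.Agent.Pi1A.FEtAffine Groth.Agent.Pi1.H382.BC Groth.Agent.EtpbcB.LocAcyc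

section Loc

variable {C : Type u} [CommRing C] [IsDomain C] [IsIntegrallyClosed C] {K : Type u} [Field K]
  [Algebra C K] [IsFractionRing C K] {L : Type u} [CommRing L] [Algebra K L] [Algebra C L]
  [IsScalarTower C K L] [Module.Finite K L] [Algebra.Etale K L] {V : Set (PrimeSpectrum C)}

/-- The algebra `sub L V` at a point of `V`. -/
theorem exists_model (𝔮 : PrimeSpectrum C) (h𝔮 : 𝔮 ∈ V)
    (κ : Localization.AtPrime 𝔮.asIdeal →+* K) (hκ : ∀ c, κ (algebraMap C _ c) = algebraMap C K c)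
    (Z : FEt.Cat (Spec (CommRingCat.of (Localization.AtPrime 𝔮.asIdeal))))
    (hZ : Bc (Spec.map (CommRingCat.ofHom κ)) Z (ofAlgebra K L)) :
    ∃ (D : Type u) (_ : CommRing D) (_ : Algebra (Localization.AtPrime 𝔮.asIdeal) D)
      (_ : Module.Finite (Localization.AtPrime 𝔮.asIdeal) D)
      (_ : Algebra.Etale (Localization.AtPrime 𝔮.asIdeal) D),
      Nonempty (Z ≅ ofAlgebra (Localization.AtPrime 𝔮.asIdeal) D) ∧
      Nonempty (Localization.AtPrime 𝔮.asIdeal ⊗[C] GoodIC.sub L V ≃ₐ[Localization.AtPrime 𝔮.asIdeal]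
        D) := by
  let R := Localization.AtPrime 𝔮.asIdeal
  obtain ⟨D, _, _, _, _, ⟨i⟩⟩ := exists_iso_ofAlgebra Z
  refine ⟨D, inferInstance, inferInstance, inferInstance, inferInstance, ⟨i⟩, ?_⟩
  let _ : Algebra R K := κ.toAlgebra
  have : IsScalarTower C R K := IsScalarTower.of_algebraMap_eq fun c => (hκ c).symm
  have : IsFractionRing R K :=
    IsFractionRing.isFractionRing_of_isDomain_of_isLocalization 𝔮.asIdeal.primeCompl R K
  have : IsDomain R := IsLocalization.isDomain_of_atPrime R 𝔮.asIdeal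
  have : IsIntegrallyClosed R := isIntegrallyClosed_of_isLocalization R 𝔮.asIdeal.primeCompl
    𝔮.asIdeal.primeCompl_le_nonZeroDivisors
  obtain ⟨z⟩ := hZ
  let e : ofAlgebra K L ≅ ofAlgebra K (K ⊗[R] D) :=
    z.symm ≪≫ (FEt.restrict (specMap R K)).mapIso i ≪≫ restrictOfAlgebraIso R K D
  exact GoodIC.exists_algEquiv (K := K) 𝔮 h𝔮 R D (algEquivOfIso e)

end Loc

/-- The main construction. -/
theorem exists_cover {A C : Type u} [CommRing A] [IsDomain A] [IsNoetherianRing A]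
    [IsIntegrallyClosed A] [CommRing C] [IsDomain C] [IsNoetherianRing C] [IsIntegrallyClosed C]
    [IsLocalRing C] [Algebra A C] {ρ : C →ₐ[A] A} {t : C} (hd : SecData ρ t)
    {V : Set (PrimeSpectrum C)} (hV : GoodCover.ContainsHeightOne V)
    (hρ : GoodCover.ContainsSection ρ V) {K : Type u} [Field K] [Algebra C K] [IsFractionRing C K]
    (WK : FEt.Cat (Spec (CommRingCat.of K)))
    (hU : ∀ 𝔮 ∈ V, ∃ (κ : Localization.AtPrime 𝔮.asIdeal →+* K)
      (Z : FEt.Cat (Spec (CommRingCat.of (Localization.AtPrime 𝔮.asIdeal)))),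
      (∀ c, κ (algebraMap C _ c) = algebraMap C K c) ∧ Bc (Spec.map (CommRingCat.ofHom κ)) Z WK)
    (k : Type u) [Field k] [Algebra A k] [IsFractionRing A k]
    (𝔮₀ : PrimeSpectrum C) (h𝔮₀ : 𝔮₀ ∈ V) (κ₀ : Localization.AtPrime 𝔮₀.asIdeal →+* K)
    (hκ₀ : ∀ c, κ₀ (algebraMap C _ c) = algebraMap C K c)
    (Z₀ : FEt.Cat (Spec (CommRingCat.of (Localization.AtPrime 𝔮₀.asIdeal))))
    (hZ₀ : Bc (Spec.map (CommRingCat.ofHom κ₀)) Z₀ WK)
    (χ : Localization.AtPrime 𝔮₀.asIdeal →+* k)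
    (hχ : ∀ c, χ (algebraMap C _ c) = algebraMap A k (ρ c))
    (hsplit : Pi1.IsSplit ((FEt.restrict (Spec.map (CommRingCat.ofHom χ))).obj Z₀)) :
    ∃ Z : FEt.Cat (Spec (CommRingCat.of C)),
      Bc (Spec.map (CommRingCat.ofHom (algebraMap C K))) Z WK := by
  obtain ⟨L, _, _, _, _, ⟨iL⟩⟩ := exists_iso_ofAlgebra WK
  let _ : Algebra C L := ((algebraMap K L).comp (algebraMap C K)).toAlgebra
  have : IsScalarTower C K L := IsScalarTower.of_algebraMap_eq' rfl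
  have hgood : GoodCover C (GoodIC.sub L V) V := by
    refine GoodIC.goodCover (K := K) fun 𝔮 h𝔮 => ?_
    obtain ⟨κ, Z, hκ, hZ⟩ := hU 𝔮 h𝔮
    obtain ⟨D, _, _, _, _, -, e⟩ := exists_model 𝔮 h𝔮 κ hκ Z
      (hZ.congr rfl ⟨Iso.refl _⟩ ⟨iL⟩)
    exact ⟨D, inferInstance, inferInstance, inferInstance, inferInstance, e⟩
  obtain ⟨D₀, _, _, _, _, ⟨i₀⟩, ⟨e₀⟩⟩ := exists_model 𝔮₀ h𝔮₀ κ₀ hκ₀ Z₀
    (hZ₀.congr rfl ⟨Iso.refl _⟩ ⟨iL⟩)
  let R₀ := Localization.AtPrime 𝔮₀.asIdeal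
  let _ : Algebra R₀ k := χ.toAlgebra
  let _ : Algebra C k := (χ.comp (algebraMap C R₀)).toAlgebra
  have : IsScalarTower C R₀ k := IsScalarTower.of_algebraMap_eq' rfl
  have hk : ∀ c, algebraMap C k c = algebraMap A k (ρ c) := hχ
  obtain ⟨ι, hι, ⟨e⟩⟩ := Groth.Agent.Pi1C.SplitAlg.nonempty_algEquiv_pi_of_isSplit
    ((FEt.restrict (specMap R₀ k)).obj Z₀)
    ((FEt.restrict (specMap R₀ k)).mapIso i₀ ≪≫ restrictOfAlgebraIso R₀ k D₀) hsplit
  obtain ⟨n, ⟨i⟩⟩ := Finite.exists_equiv_fin ι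
  let e1 : k ⊗[R₀] (R₀ ⊗[C] GoodIC.sub L V) ≃ₐ[k] k ⊗[C] GoodIC.sub L V :=
    Algebra.TensorProduct.cancelBaseChange C R₀ k k (GoodIC.sub L V)
  let e2 : k ⊗[R₀] (R₀ ⊗[C] GoodIC.sub L V) ≃ₐ[k] k ⊗[R₀] D₀ :=
    Algebra.TensorProduct.congr AlgEquiv.refl e₀
  let e' : k ⊗[C] GoodIC.sub L V ≃ₐ[k] (Fin n → k) :=
    (e1.symm.trans (e2.trans e)).trans (AlgEquiv.piCongrLeft' k (fun _ => k) i)
  obtain ⟨hf, -, he⟩ := GoodCover.finite_etale hd hgood hV hρ k hk n e'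
  refine ⟨ofAlgebra C (GoodIC.sub L V), ?_⟩
  have h1 : Bc (specMap C R₀) (ofAlgebra C (GoodIC.sub L V)) Z₀ :=
    ⟨restrictOfAlgebraIso C R₀ (GoodIC.sub L V) ≪≫ (isoOfAlgEquiv e₀).symm ≪≫ i₀.symm⟩
  refine h1.comp' ?_ hZ₀
  rw [specMap, ← Spec.map_comp, ← CommRingCat.ofHom_comp]
  congr 2
  exact RingHom.ext hκ₀

end GoodFEt

end K286
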