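import Groth.Agent.Pi1C.PuncCover
import Groth.Agent.Pi1C.FEtExtend
import Groth.Agent.Pi1C.SplitAlg
import Groth.Agent.Pi1A.FEtAffine
import Groth.Agent.SGA4h.K286.GoodCover

/-!
# Functions on finite étale covers of open subschemes of affine schemes
-/

set_option autoImplicit false
set_option linter.unusedSectionVars false

universe u

open CategoryTheory CategoryTheory.Limits AlgebraicGeometry TensorProduct

namespace K286

namespace GoodGeom

open Groth.Agent.Pi1C

variable {C : Type u} [CommRing C] (V : (Spec (CommRingCat.of C)).Opens)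
  (W : FEt.Cat (V : Scheme.{u}))

/-- The ring of functions of a finite étale cover of an open subscheme of `Spec C`. -/
def Fn : Type u := Γ(W.left, ⊤)

noncomputable instance : CommRing (Fn V W) := inferInstanceAs (CommRing Γ(W.left, ⊤))

noncomputable instance : Algebra C (Fn V W) :=
  RingHom.toAlgebra (SectionsOverAffine.toΓ (W.hom ≫ V.ι))

theorem qcqs [CompactSpace V] {Z : Scheme.{u}} (f : Z ⟶ (V : Scheme.{u})) [IsFinite f] :
    CompactSpace Z ∧ QuasiSeparatedSpace Z := by
  have : QuasiSeparatedSpace V := quasiSeparatedSpace_of_quasiSeparated V.ι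
  exact ⟨QuasiCompact.compactSpace_of_compactSpace f, quasiSeparatedSpace_of_quasiSeparated f⟩

theorem isPullback_Fn [CompactSpace V] :
    IsPullback W.left.toSpecΓ W.hom (Spec.map (CommRingCat.ofHom (algebraMap C (Fn V W)))) V.ι := by
  have : IsFinite W.hom := W.prop.1
  obtain ⟨h1, h2⟩ := qcqs V W.hom
  have : CompactSpace W.left := h1
  have : QuasiSeparatedSpace W.left := h2
  exact PuncturedSections.isPullback_toSpecΓ W.hom

/-- The fibre product with `Spec D`. -/
theorem exists_pullback_iso [CompactSpace V] (D : Type u) [CommRing D] [Algebra C D]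
    (β : Spec (CommRingCat.of D) ⟶ V)
    (hβ : β ≫ V.ι = Spec.map (CommRingCat.ofHom (algebraMap C D))) :
    ∃ e : pullback W.hom β ≅ Spec (CommRingCat.of (D ⊗[C] Fn V W)),
      e.hom ≫ Spec.map (CommRingCat.ofHom (algebraMap D (D ⊗[C] Fn V W))) =
        pullback.snd W.hom β := by
  have h1 := (IsPullback.of_hasPullback W.hom β).paste_horiz (isPullback_Fn V W)
  rw [hβ] at h1
  have h2 := isPullback_SpecMap_of_isPushout _ _ _ _
    (CommRingCat.isPushout_tensorProduct C D (Fn V W)).flip
  refine ⟨h1.isoIsPullback _ _ h2, ?_⟩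
  exact IsPullback.isoIsPullback_hom_snd _ _ h1 h2

theorem finite_etale [CompactSpace V] (D : Type u) [CommRing D] [Algebra C D]
    (β : Spec (CommRingCat.of D) ⟶ V)
    (hβ : β ≫ V.ι = Spec.map (CommRingCat.ofHom (algebraMap C D))) :
    Module.Finite D (D ⊗[C] Fn V W) ∧ Algebra.Etale D (D ⊗[C] Fn V W) := by
  obtain ⟨e, he⟩ := exists_pullback_iso V W D β hβ
  have hF : IsFinite W.hom := W.prop.1
  have hE : Etale W.hom := W.prop.2
  have h1 : Spec.map (CommRingCat.ofHom (algebraMap D (D ⊗[C] Fn V W))) =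
      e.inv ≫ pullback.snd W.hom β := by
    rw [← he, Iso.inv_hom_id_assoc]
  have h2 : IsFinite (Spec.map (CommRingCat.ofHom (algebraMap D (D ⊗[C] Fn V W)))) := by
    rw [h1]
    infer_instance
  have h3 : Etale (Spec.map (CommRingCat.ofHom (algebraMap D (D ⊗[C] Fn V W)))) := by
    rw [h1]
    infer_instance
  rw [IsFinite.SpecMap_iff] at h2
  rw [HasRingHomProperty.Spec_iff (P := @Etale)] at h3
  exact ⟨RingHom.finite_algebraMap.1 h2, RingHom.etale_algebraMap.1 h3⟩

/-- Split covers. -/
theorem exists_algEquiv [CompactSpace V] (D : Type u) [CommRing D] [Algebra C D]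
    (β : Spec (CommRingCat.of D) ⟶ V)
    (hβ : β ≫ V.ι = Spec.map (CommRingCat.ofHom (algebraMap C D)))
    (h : Pi1.IsSplit ((FEt.restrict β).obj W)) :
    ∃ (ι : Type u) (_ : Finite ι), Nonempty (D ⊗[C] Fn V W ≃ₐ[D] (ι → D)) := by
  obtain ⟨hf, he⟩ := finite_etale V W D β hβ
  obtain ⟨e, he⟩ := exists_pullback_iso V W D β hβ
  exact SplitAlg.nonempty_algEquiv_pi_of_isSplit ((FEt.restrict β).obj W)
    (Groth.Agent.Pi1A.FEtAffine.isoMk e he) h

/-- The morphism from a localization. -/
theorem exists_lift (𝔮 : PrimeSpectrum C) (h𝔮 : 𝔮 ∈ V) (D : Type u) [CommRing D] [Algebra C D]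
    (hD : ∀ c : C, c ∉ 𝔮.asIdeal → IsUnit (algebraMap C D c)) :
    ∃ β : Spec (CommRingCat.of D) ⟶ V,
      β ≫ V.ι = Spec.map (CommRingCat.ofHom (algebraMap C D)) := by
  have hrange : Set.range (Spec.map (CommRingCat.ofHom (algebraMap C D))) ⊆ Set.range V.ι := by
    rw [Scheme.Opens.range_ι]
    rintro _ ⟨x, rfl⟩
    have h1 : (Spec.map (CommRingCat.ofHom (algebraMap C D)) x : Spec (CommRingCat.of C)) ⤳
        (𝔮 : Spec (CommRingCat.of C)) := by
      have h2 : PrimeSpectrum.comap (algebraMap C D) x ≤ 𝔮 := by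
        intro c hc
        by_contra hcq
        exact x.2.ne_top (Ideal.eq_top_of_isUnit_mem _ hc (hD c hcq))
      exact (PrimeSpectrum.le_iff_specializes _ _).1 h2
    exact h1.mem_open V.2 h𝔮
  exact ⟨IsOpenImmersion.lift V.ι _ hrange, IsOpenImmersion.lift_fac _ _ _⟩

end GoodGeom

end K286
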