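import Groth.Agent.SGA4h.K286.GoodGeom
import Groth.Agent.SGA4h.K286.Glue
import Groth.Agent.Pi1C.PuncturedNormal

/-!
# Functions on finite étale covers are good covers
-/

set_option autoImplicit false
set_option linter.unusedSectionVars false

universe u

open CategoryTheory CategoryTheory.Limits AlgebraicGeometry TensorProduct

namespace K286

namespace GoodGeom

open Groth.Agent.Pi1C

variable {C : Type u} [CommRing C] (V : (Spec (CommRingCat.of C)).Opens)
  (W : FEt.Cat (V : Scheme.{u}))

theorem torsion [IsDomain C] (c : C) (b : Fn V W) (hc : c ≠ 0) (h : c • b = 0) : b = 0 := by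
  have : IsFinite W.hom := W.prop.1
  have : Etale W.hom := W.prop.2
  have hdom : IsDomain (CommRingCat.of C) := inferInstanceAs (IsDomain C)
  refine SectionsOverAffine.eq_zero_of_toΓ_mul_eq_zero (W.hom ≫ V.ι)
    {a : C | (PrimeSpectrum.basicOpen a : (Spec (CommRingCat.of C)).Opens) ≤ V} ?_ ?_ c hc b h
  · intro z
    obtain ⟨a, ha, haV⟩ := PuncturedSections.exists_DD_le (A := CommRingCat.of C) (U := V)
      (x := (W.hom ≫ V.ι) z) (by
        rw [Scheme.Hom.comp_apply]
        exact (W.hom z).2)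
    exact ⟨a, haV, ha⟩
  · intro a ha
    exact PuncturedNormal.flat_app_of_le V W.hom _ (IsAffineOpen.Spec_basicOpen (R := CommRingCat.of C) a) ha

/-- Functions on finite étale covers of open subschemes of affine integral schemes. -/
theorem goodCover [IsDomain C] [CompactSpace V] :
    GoodCover C (Fn V W) {x : PrimeSpectrum C | x ∈ V} := by
  have : IsFinite W.hom := W.prop.1
  obtain ⟨h1, h2⟩ := qcqs V W.hom
  have hcs : CompactSpace W.left := h1
  have hqs : QuasiSeparatedSpace W.left := h2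
  refine ⟨fun 𝔮 h𝔮 => ?_, fun 𝔮 h𝔮 => ?_, fun c b hc h => torsion V W c b hc h,
    fun s b hs h => ?_⟩
  · obtain ⟨β, hβ⟩ := exists_lift V 𝔮 h𝔮 (Localization.AtPrime 𝔮.asIdeal)
      (fun c hc => IsLocalization.map_units (M := 𝔮.asIdeal.primeCompl) _ ⟨c, hc⟩)
    exact (finite_etale V W _ β hβ).1
  · obtain ⟨β, hβ⟩ := exists_lift V 𝔮 h𝔮 (Localization.AtPrime 𝔮.asIdeal)
      (fun c hc => IsLocalization.map_units (M := 𝔮.asIdeal.primeCompl) _ ⟨c, hc⟩)
    exact (finite_etale V W _ β hβ).2
  · obtain ⟨b', hb'⟩ := Glue.exists_eq_mul (Z := W.left)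
      (SectionsOverAffine.toΓ (W.hom ≫ V.ι) s) b
      (fun x hx => torsion V W s x hs hx) (fun z => by
        obtain ⟨r, hr, b', hb'⟩ := h ((W.hom ≫ V.ι) z) (by
          rw [Scheme.Hom.comp_apply]
          exact (W.hom z).2)
        refine ⟨SectionsOverAffine.toΓ (W.hom ≫ V.ι) r, ?_, b', hb'⟩
        rw [SectionsOverAffine.basicOpen_toΓ]
        exact hr)
    exact ⟨b', hb'⟩

end GoodGeom

end K286
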