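import Groth.Agent.SGA4h.K286.GoodCover
import Groth.Agent.Ega4B.NormalSep
import Mathlib.RingTheory.Localization.Integral
import Mathlib.RingTheory.Flat.Basic

/-!
# Good covers from étale algebras over the fraction field
-/

set_option autoImplicit false
set_option linter.unusedSectionVars false

universe u

open TensorProduct

namespace K286

namespace GoodIC

section Local

variable {R K L D : Type u} [CommRing R] [IsDomain R] [IsIntegrallyClosed R] [Field K] [Algebra R K]
  [IsFractionRing R K] [CommRing L] [Algebra K L] [Algebra R L] [IsScalarTower R K L] [CommRing D]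
  [Algebra R D] [Module.Finite R D] [Algebra.Etale R D] (e : K ⊗[R] D ≃ₐ[K] L)

/-- The map from the model. -/
noncomputable def toL : D →ₐ[R] L :=
  ((e : K ⊗[R] D →ₐ[K] L).restrictScalars R).comp Algebra.TensorProduct.includeRight

theorem toL_injective : Function.Injective (toL e) := by
  have : Module.Flat R D := inferInstance
  exact e.injective.comp (Algebra.TensorProduct.includeRight_injective
    (IsFractionRing.injective R K))

theorem isIntegral_iff (y : L) : IsIntegral R y ↔ ∃ d, toL e d = y := by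
  constructor
  · intro hy
    have h1 : IsIntegral R (e.symm y) := hy.map ((e.symm : L →ₐ[K] K ⊗[R] D).restrictScalars R)
    let c := Algebra.TensorProduct.comm R K D
    have h2 : IsIntegral R (c (e.symm y)) := h1.map c
    have h3 : IsIntegral D (c (e.symm y)) := h2.tower_top
    obtain ⟨d, hd⟩ := Groth.Agent.Ega4B.NormalSep.intClosed_smooth (S := D)
      (Groth.Agent.Ega4B.NormalSep.intClosed_of_isIntegrallyClosed (A := R) K) _ h3
    refine ⟨d, ?_⟩
    have h4 : c (1 ⊗ₜ[R] d) = c (e.symm y) := by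
      rw [← hd]
      rfl
    have h5 : (1 ⊗ₜ[R] d : K ⊗[R] D) = e.symm y := c.injective h4
    change e (1 ⊗ₜ[R] d) = y
    rw [h5, AlgEquiv.apply_symm_apply]
  · rintro ⟨d, rfl⟩
    exact (Algebra.IsIntegral.isIntegral (R := R) d).map (toL e)

end Local

section Main

variable {C : Type u} [CommRing C] (L : Type u) [CommRing L] [Algebra C L]
  (V : Set (PrimeSpectrum C))

/-- The elements which are integral locally at the points of `V`. -/
def sub : Subalgebra C L where
  carrier := {y | ∀ 𝔮 ∈ V, ∃ r ∉ 𝔮.asIdeal, IsIntegral C (r • y)}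
  mul_mem' := by
    intro x y hx hy 𝔮 h𝔮
    obtain ⟨r, hr, hrx⟩ := hx 𝔮 h𝔮
    obtain ⟨s, hs, hsy⟩ := hy 𝔮 h𝔮
    refine ⟨r * s, 𝔮.2.mul_notMem hr hs, ?_⟩
    have h1 := hrx.mul hsy
    rwa [smul_mul_smul_comm] at h1
  add_mem' := by
    intro x y hx hy 𝔮 h𝔮
    obtain ⟨r, hr, hrx⟩ := hx 𝔮 h𝔮
    obtain ⟨s, hs, hsy⟩ := hy 𝔮 h𝔮
    refine ⟨r * s, 𝔮.2.mul_notMem hr hs, ?_⟩
    have h1 := (hrx.smul s).add (hsy.smul r)
    rwa [smul_smul, smul_smul, mul_comm s r, ← smul_add] at h1
  algebraMap_mem' := by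
    intro c 𝔮 h𝔮
    exact ⟨1, fun h => 𝔮.2.ne_top ((Ideal.eq_top_iff_one _).2 h), by
      rw [one_smul]
      exact isIntegral_algebraMap⟩

variable {L V}

theorem mem_sub {y : L} : y ∈ sub L V ↔ ∀ 𝔮 ∈ V, ∃ r ∉ 𝔮.asIdeal, IsIntegral C (r • y) := Iff.rfl

theorem mem_sub_of_isIntegral {y : L} (h : IsIntegral C y) : y ∈ sub L V := fun 𝔮 _ =>
  ⟨1, fun h => 𝔮.2.ne_top ((Ideal.eq_top_iff_one _).2 h), by rwa [one_smul]⟩

variable [IsDomain C] {K : Type u} [Field K] [Algebra C K] [Algebra K L] [IsScalarTower C K L]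

/-- The localization at a point of `V`. -/
theorem exists_algEquiv (𝔮 : PrimeSpectrum C) (h𝔮 : 𝔮 ∈ V) (R : Type u) [CommRing R] [IsDomain R]
    [IsIntegrallyClosed R] [Algebra C R] [IsLocalization.AtPrime R 𝔮.asIdeal] [Algebra R K]
    [IsScalarTower C R K] [IsFractionRing R K] (D : Type u) [CommRing D] [Algebra R D]
    [Module.Finite R D] [Algebra.Etale R D] (e : K ⊗[R] D ≃ₐ[K] L) :
    Nonempty (R ⊗[C] sub L V ≃ₐ[R] D) := by
  let _ : Algebra R L := ((algebraMap K L).comp (algebraMap R K)).toAlgebra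
  have : IsScalarTower R K L := IsScalarTower.of_algebraMap_eq' rfl
  have : IsScalarTower C R L := IsScalarTower.of_algebraMap_eq fun c => by
    rw [IsScalarTower.algebraMap_apply C K L, IsScalarTower.algebraMap_apply C R K]
    rfl
  let _ : Algebra C D := ((algebraMap R D).comp (algebraMap C R)).toAlgebra
  have : IsScalarTower C R D := IsScalarTower.of_algebraMap_eq' rfl
  have hunit : ∀ r ∉ 𝔮.asIdeal, IsUnit (algebraMap C R r) := fun r hr =>
    IsLocalization.map_units (M := 𝔮.asIdeal.primeCompl) R ⟨r, hr⟩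
  have h1 : ∀ y : sub L V, ∃ d : D, toL e d = y := by
    intro y
    rw [← isIntegral_iff e]
    obtain ⟨r, hr, h⟩ := y.2 𝔮 h𝔮
    obtain ⟨u, hu⟩ := hunit r hr
    have h2 : IsIntegral R (r • (y : L)) := h.tower_top
    have h3 : (y : L) = (↑u⁻¹ : R) • (r • (y : L)) := by
      rw [← algebraMap_smul R r (y : L), ← hu, smul_smul, Units.inv_mul, one_smul]
    rw [h3]
    exact h2.smul _
  have hinj := toL_injective e
  let ι : sub L V →ₐ[C] ((toL e).restrictScalars C).range :=
    (sub L V).val.codRestrict _ (fun y => h1 y)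
  let ε : D ≃ₐ[C] ((toL e).restrictScalars C).range :=
    AlgEquiv.ofInjective ((toL e).restrictScalars C) hinj
  let f : sub L V →ₐ[C] D := (ε.symm : _ →ₐ[C] D).comp ι
  have hf : ∀ y, toL e (f y) = y := by
    intro y
    have h2 : ε (ε.symm (ι y)) = ι y := ε.apply_symm_apply _
    exact congrArg Subtype.val h2
  have hfinj : Function.Injective f := by
    intro x y hxy
    apply Subtype.ext
    rw [← hf, ← hf, hxy]
  have hloc : IsLocalizedModule 𝔮.asIdeal.primeCompl f.toLinearMap := by
    constructor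
    · intro r
      rw [Module.End.isUnit_iff]
      obtain ⟨u, hu⟩ := hunit r r.2
      have h3 : ∀ d : D, algebraMap C (Module.End C D) r d = (u : R) • d := by
        intro d
        rw [Module.algebraMap_end_apply, hu, algebraMap_smul]
      constructor
      · intro x y hxy
        rw [h3, h3] at hxy
        have h4 := congrArg (fun z => (↑u⁻¹ : R) • z) hxy
        simpa only [smul_smul, Units.inv_mul, one_smul] using h4
      · intro y
        refine ⟨(↑u⁻¹ : R) • y, ?_⟩
        rw [h3, smul_smul, Units.mul_inv, one_smul]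
    · intro d
      have h3 : IsIntegral R (toL e d) := (isIntegral_iff e _).2 ⟨d, rfl⟩
      obtain ⟨m, hm⟩ := IsIntegral.exists_multiple_integral_of_isLocalization
        𝔮.asIdeal.primeCompl (toL e d) h3
      have hm' : IsIntegral C ((m : C) • toL e d) := hm
      refine ⟨⟨⟨(m : C) • toL e d, mem_sub_of_isIntegral hm'⟩, m⟩, ?_⟩
      apply hinj
      change toL e ((m : C) • d) = toL e (f _)
      rw [hf]
      exact map_smul ((toL e).restrictScalars C) (m : C) d
    · intro x y hxy
      exact ⟨1, by rw [hfinj hxy]⟩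
  have hbc : IsBaseChange R f.toLinearMap :=
    (isLocalizedModule_iff_isBaseChange 𝔮.asIdeal.primeCompl R _).1 hloc
  let g : R ⊗[C] sub L V →ₐ[R] D := Algebra.TensorProduct.lift (Algebra.ofId R D) f
    (fun _ _ => Commute.all _ _)
  have hg : ∀ x, g x = hbc.equiv x := by
    intro x
    induction x with
    | zero => rw [map_zero, map_zero]
    | add x y hx hy => rw [map_add, map_add, hx, hy]
    | tmul r y =>
      rw [IsBaseChange.equiv_tmul]
      change algebraMap R D r * f y = r • f y
      rw [Algebra.smul_def]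
  refine ⟨AlgEquiv.ofBijective g ?_⟩
  have h5 : (g : R ⊗[C] sub L V → D) = hbc.equiv := funext hg
  rw [h5]
  exact hbc.equiv.bijective

/-- The good cover. -/
theorem goodCover [IsFractionRing C K]
    (h : ∀ 𝔮 ∈ V, ∃ (D : Type u) (_ : CommRing D) (_ : Algebra (Localization.AtPrime 𝔮.asIdeal) D),
      Module.Finite (Localization.AtPrime 𝔮.asIdeal) D ∧
      Algebra.Etale (Localization.AtPrime 𝔮.asIdeal) D ∧
      Nonempty (Localization.AtPrime 𝔮.asIdeal ⊗[C] sub L V ≃ₐ[Localization.AtPrime 𝔮.asIdeal] D)) :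
    GoodCover C (sub L V) V := by
  refine ⟨fun 𝔮 h𝔮 => ?_, fun 𝔮 h𝔮 => ?_, fun c b hc hb => ?_, fun s b hs hb => ?_⟩
  · obtain ⟨D, _, _, _, _, ⟨e⟩⟩ := h 𝔮 h𝔮
    exact Module.Finite.equiv e.symm.toLinearEquiv
  · obtain ⟨D, _, _, _, _, ⟨e⟩⟩ := h 𝔮 h𝔮
    exact Algebra.Etale.of_equiv e.symm
  · apply Subtype.ext
    have h1 : c • (b : L) = 0 := congrArg Subtype.val hb
    have hc' : algebraMap C K c ≠ 0 := by
      rw [Ne, FaithfulSMul.algebraMap_eq_zero_iff]
      exact hc
    rw [← algebraMap_smul K c (b : L)] at h1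
    have h2 := congrArg (fun z => (algebraMap C K c)⁻¹ • z) h1
    simp only [smul_zero] at h2
    rw [smul_smul, inv_mul_cancel₀ hc', one_smul] at h2
    exact h2
  · have hs' : algebraMap C K s ≠ 0 := by
      rw [Ne, FaithfulSMul.algebraMap_eq_zero_iff]
      exact hs
    let y : L := (algebraMap C K s)⁻¹ • (b : L)
    have hy : s • y = b := by
      rw [← algebraMap_smul K s y]
      change algebraMap C K s • ((algebraMap C K s)⁻¹ • (b : L)) = b
      rw [smul_smul, mul_inv_cancel₀ hs', one_smul]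
    have hsinj : ∀ x z : L, s • x = s • z → x = z := by
      intro x z hxz
      rw [← algebraMap_smul K s x, ← algebraMap_smul K s z] at hxz
      have h2 := congrArg (fun z => (algebraMap C K s)⁻¹ • z) hxz
      simpa only [smul_smul, inv_mul_cancel₀ hs', one_smul] using h2
    have hmem : y ∈ sub L V := by
      intro 𝔮 h𝔮
      obtain ⟨r, hr, b', hb'⟩ := hb 𝔮 h𝔮
      obtain ⟨r', hr', hint⟩ := b'.2 𝔮 h𝔮
      have h3 : r • y = b' := by
        apply hsinj
        rw [smul_comm, hy]
        exact congrArg Subtype.val hb'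
      refine ⟨r' * r, 𝔮.2.mul_notMem hr' hr, ?_⟩
      rwa [mul_smul, h3]
    exact ⟨⟨y, hmem⟩, Subtype.ext hy.symm⟩

end Main

end GoodIC

end K286
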