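import Groth.Agent.EtpbcB.LocAcycD

/-!
# Lifting linear forms along a section (Artin–Rees)
-/

set_option autoImplicit false

universe u

open PowerSeries

namespace K286.LinLift

open Groth.Agent.EtpbcB.LocAcyc

/-- A linear form with values in power series lifts, with the same constant coefficients, to a
linear form with values in `C`. -/
theorem exists_linearMap {A C : Type u} [CommRing A] [CommRing C] [IsNoetherianRing C]
    [Algebra A C] {ρ : C →ₐ[A] A} {t : C} (hd : SecData ρ t) {M : Type u} [AddCommGroup M]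
    [Module C M] [Module.Finite C M]
    (φ : M →+ A⟦X⟧) (hφ : ∀ (c : C) (m : M), φ (c • m) = hd.expand c * φ m) :
    ∃ ψ : M →ₗ[C] C, ∀ m, ρ (ψ m) = constantCoeff (φ m) := by
  classical
  obtain ⟨r, g, hg⟩ := Module.Finite.exists_fin' C M
  obtain ⟨s, y, hy⟩ := Submodule.fg_iff_exists_fin_generating_family.1
    (IsNoetherian.noetherian (LinearMap.ker g))
  let e : Fin r → A⟦X⟧ := fun i => φ (g (Pi.single i 1))
  have hφg : ∀ v : Fin r → C, φ (g v) = ∑ i, hd.expand (v i) * e i := by
    intro v
    conv_lhs => rw [← Finset.univ_sum_single v]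
    rw [map_sum, map_sum]
    refine Finset.sum_congr rfl fun i _ => ?_
    have h1 : (Pi.single i (v i) : Fin r → C) = v i • Pi.single i (1 : C) := by
      rw [← Pi.single_smul, smul_eq_mul, mul_one]
    rw [h1, map_smul, hφ]
  let L : (Fin r → C) →ₗ[C] (Fin s → C) := Matrix.mulVecLin (Matrix.of y)
  have hL : ∀ d j, L d j = ∑ i, y j i * d i := fun d j => by
    simp [L, Matrix.mulVec, dotProduct]
  have hye : ∀ j, ∑ i, hd.expand (y j i) * e i = 0 := by
    intro j
    rw [← hφg]
    have : y j ∈ LinearMap.ker g := by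
      rw [← hy]
      exact Submodule.subset_span ⟨j, rfl⟩
    rw [LinearMap.mem_ker] at this
    rw [this, map_zero]
  obtain ⟨k, hk⟩ := Ideal.exists_pow_inf_eq_pow_smul (Ideal.span {t}) (LinearMap.range L)
  choose d₀ hd₀ using fun i => hd.exists_approx (e i) (k + 1)
  have h1 : ∀ j, t ^ (k + 1) ∣ L d₀ j := by
    intro j
    apply hd.dvd_of_dvd_expand
    have h2 : hd.expand (L d₀ j) =
        - ∑ i, hd.expand (y j i) * (e i - hd.expand (d₀ i)) := by
      rw [hL, map_sum]
      simp only [mul_sub, map_mul, Finset.sum_sub_distrib]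
      rw [hye]
      ring
    rw [h2, dvd_neg]
    exact Finset.dvd_sum fun i _ => (hd₀ i).mul_left _
  have h3 : L d₀ ∈ (Ideal.span {t} ^ (k + 1) • ⊤ : Submodule C (Fin s → C)) ⊓
      LinearMap.range L := by
    refine ⟨?_, ⟨d₀, rfl⟩⟩
    choose c hc using h1
    have h4 : L d₀ = t ^ (k + 1) • c := by
      ext j
      rw [hc j]
      rfl
    rw [h4]
    refine Submodule.smul_mem_smul ?_ trivial
    exact Ideal.pow_mem_pow (Ideal.mem_span_singleton_self t) _
  rw [hk (k + 1) (Nat.le_succ k), Nat.add_sub_cancel_left, pow_one] at h3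
  have h5 : L d₀ ∈ Ideal.span {t} • LinearMap.range L :=
    Submodule.smul_mono le_rfl inf_le_right h3
  rw [Submodule.ideal_span_singleton_smul, Submodule.mem_smul_pointwise_iff_exists] at h5
  obtain ⟨_, ⟨d', rfl⟩, hd'⟩ := h5
  let d : Fin r → C := d₀ - t • d'
  have hLd : L d = 0 := by
    change L (d₀ - t • d') = 0
    rw [map_sub, map_smul, hd', sub_self]
  have hde : ∀ i, ρ (d i) = constantCoeff (e i) := by
    intro i
    have h8 : constantCoeff (e i - hd.expand (d₀ i)) = 0 := by
      rw [← X_dvd_iff]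
      exact (dvd_pow_self _ (Nat.succ_ne_zero k)).trans (hd₀ i)
    rw [map_sub, hd.constantCoeff_expand, sub_eq_zero] at h8
    rw [h8]
    simp [d, hd.rho_t]
  -- the functional
  let F : (Fin r → C) →ₗ[C] C := ∑ i, (LinearMap.toSpanSingleton C C (d i)).comp (LinearMap.proj i)
  have hF : ∀ v, F v = ∑ i, v i * d i := fun v => by simp [F]
  have hker : LinearMap.ker g ≤ LinearMap.ker F := by
    rw [← hy, Submodule.span_le]
    rintro _ ⟨j, rfl⟩
    rw [SetLike.mem_coe, LinearMap.mem_ker, hF, ← hL, hLd]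
    rfl
  let ψ : M →ₗ[C] C := ((LinearMap.ker g).liftQ F hker).comp
    (g.quotKerEquivOfSurjective hg).symm.toLinearMap
  have hψ : ∀ v, ψ (g v) = F v := by
    intro v
    have : (g.quotKerEquivOfSurjective hg).symm (g v) = (LinearMap.ker g).mkQ v := by
      rw [LinearEquiv.symm_apply_eq]
      rfl
    change ((LinearMap.ker g).liftQ F hker) ((g.quotKerEquivOfSurjective hg).symm (g v)) = F v
    rw [this]
    rfl
  refine ⟨ψ, fun m => ?_⟩
  obtain ⟨v, rfl⟩ := hg m
  rw [hψ, hφg, hF, map_sum, map_sum]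
  refine Finset.sum_congr rfl fun i _ => ?_
  rw [map_mul, map_mul, hde, hd.constantCoeff_expand]

end K286.LinLift
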