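import Groth.Agent.EtpbcB.LocAcycB
import Mathlib.RingTheory.Smooth.AdicCompletion
import Mathlib.RingTheory.AdicCompletion.Completeness
import Mathlib.RingTheory.Etale.Basic
import Mathlib.RingTheory.Localization.AtPrime.Basic

/-!
# Lifting sections of étale algebras to power series
-/

set_option autoImplicit false
set_option linter.unusedSectionVars false

universe u

open PowerSeries TensorProduct

namespace K286.SerLift

open Groth.Agent.EtpbcB.LocAcyc

variable {A C : Type u} [CommRing A] [CommRing C] [Algebra A C] {ρ : C →ₐ[A] A} {t : C}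
  (hd : SecData ρ t) (S : Type u) [CommRing S] [Algebra A S]

/-- The expansion with coefficients in `S`. -/
noncomputable def expS : C →+* S⟦X⟧ :=
  (PowerSeries.map (algebraMap A S)).comp (hd.expand : C →+* A⟦X⟧)

theorem expS_apply (c : C) : expS hd S c = PowerSeries.map (algebraMap A S) (hd.expand c) := rfl

theorem constantCoeff_expS (c : C) : constantCoeff (expS hd S c) = algebraMap A S (ρ c) := by
  rw [expS_apply, ← coeff_zero_eq_constantCoeff_apply, coeff_map,
    coeff_zero_eq_constantCoeff_apply, hd.constantCoeff_expand]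

variable (𝔭 : Ideal A) [𝔭.IsPrime] (hS : ∀ a : A, a ∉ 𝔭 → IsUnit (algebraMap A S a))
  (D : Type u) [CommRing D] [Algebra C D] (𝔮 : Ideal C) [𝔮.IsPrime] [IsLocalization.AtPrime D 𝔮]
  (h𝔮 : ∀ c : C, c ∉ 𝔮 → ρ c ∉ 𝔭)

/-- The expansion on the localization. -/
noncomputable def theta : D →+* S⟦X⟧ :=
  IsLocalization.lift (M := 𝔮.primeCompl) (g := expS hd S) (fun y => by
    rw [isUnit_iff_constantCoeff, constantCoeff_expS]
    exact hS _ (h𝔮 _ y.2))

theorem theta_algebraMap (c : C) :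
    theta hd S 𝔭 hS D 𝔮 h𝔮 (algebraMap C D c) = expS hd S c :=
  IsLocalization.lift_eq _ _

include hS h𝔮 in
/-- Lifting of sections to power series. -/
theorem exists_lift {B : Type u} [CommRing B] [Algebra C B] [Algebra.FormallySmooth D (D ⊗[C] B)]
    (σ : B →+* S) (hσ : ∀ c, σ (algebraMap C B c) = algebraMap A S (ρ c)) :
    ∃ ε : B →+* S⟦X⟧, (∀ c, ε (algebraMap C B c) = expS hd S c) ∧
      ∀ b, constantCoeff (ε b) = σ b := by
  let θ := theta hd S 𝔭 hS D 𝔮 h𝔮
  let _ : Algebra D S⟦X⟧ := θ.toAlgebra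
  let _ : Algebra D S := ((constantCoeff : S⟦X⟧ →+* S).comp θ).toAlgebra
  let _ : Algebra C S := ((algebraMap A S).comp (ρ : C →+* A)).toAlgebra
  have hθ : ∀ c, θ (algebraMap C D c) = expS hd S c := theta_algebraMap hd S 𝔭 hS D 𝔮 h𝔮
  have : IsScalarTower C D S := .of_algebraMap_eq fun c => by
    change algebraMap A S (ρ c) = constantCoeff (θ (algebraMap C D c))
    rw [hθ, constantCoeff_expS]
  let σ₀ : B →ₐ[C] S := { σ with commutes' := hσ }
  let σ₁ : D ⊗[C] B →ₐ[D] S := Algebra.TensorProduct.lift (Algebra.ofId D S) σ₀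
    (fun _ _ => Commute.all _ _)
  let I : Ideal S⟦X⟧ := Ideal.span {X}
  let q : S →ₐ[D] S⟦X⟧ ⧸ I :=
    { (Ideal.Quotient.mk I).comp (PowerSeries.C : S →+* S⟦X⟧) with
      commutes' := fun d => by
        change Ideal.Quotient.mk I (PowerSeries.C (constantCoeff (θ d))) =
          Ideal.Quotient.mk I (θ d)
        rw [Ideal.Quotient.eq, Ideal.mem_span_singleton, X_dvd_iff]
        simp }
  obtain ⟨g, hg⟩ := Algebra.FormallySmooth.exists_mkₐ_comp_eq_of_isAdicComplete (I := I)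
    (q.comp σ₁)
  have hg' : ∀ x, constantCoeff (g x) = σ₁ x := by
    intro x
    have h1 : Ideal.Quotient.mk I (g x) = Ideal.Quotient.mk I (PowerSeries.C (σ₁ x)) :=
      congr($hg x)
    rw [Ideal.Quotient.eq, Ideal.mem_span_singleton, X_dvd_iff, map_sub, constantCoeff_C,
      sub_eq_zero] at h1
    exact h1
  refine ⟨(g : D ⊗[C] B →+* S⟦X⟧).comp
    (Algebra.TensorProduct.includeRight : B →ₐ[C] D ⊗[C] B).toRingHom, fun c => ?_, fun b => ?_⟩
  · change g (1 ⊗ₜ[C] algebraMap C B c) = _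
    have h1 : (1 ⊗ₜ[C] algebraMap C B c : D ⊗[C] B) =
        algebraMap D (D ⊗[C] B) (algebraMap C D c) := by
      rw [Algebra.TensorProduct.algebraMap_apply, Algebra.algebraMap_self, RingHom.id_apply,
        Algebra.algebraMap_eq_smul_one, Algebra.algebraMap_eq_smul_one, TensorProduct.smul_tmul]
    rw [h1, AlgHom.commutes]
    exact hθ c
  · change constantCoeff (g (1 ⊗ₜ[C] b)) = σ b
    rw [hg']
    change Algebra.TensorProduct.lift _ _ _ (1 ⊗ₜ[C] b) = _
    rw [Algebra.TensorProduct.lift_tmul, map_one, one_mul]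
    rfl

include hS h𝔮 in
/-- Uniqueness of the lifts. -/
theorem lift_unique {B : Type u} [CommRing B] [Algebra C B]
    [Algebra.FormallyUnramified D (D ⊗[C] B)] (ε ε' : B →+* S⟦X⟧)
    (h1 : ∀ c, ε (algebraMap C B c) = expS hd S c)
    (h2 : ∀ c, ε' (algebraMap C B c) = expS hd S c)
    (h : ∀ b, constantCoeff (ε b) = constantCoeff (ε' b)) : ε = ε' := by
  let θ := theta hd S 𝔭 hS D 𝔮 h𝔮
  let _ : Algebra D S⟦X⟧ := θ.toAlgebra
  let _ : Algebra C S⟦X⟧ := (expS hd S).toAlgebra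
  have hθ : ∀ c, θ (algebraMap C D c) = expS hd S c := theta_algebraMap hd S 𝔭 hS D 𝔮 h𝔮
  have : IsScalarTower C D S⟦X⟧ := .of_algebraMap_eq fun c => (hθ c).symm
  let σ₀ : B →ₐ[C] S⟦X⟧ := { ε with commutes' := h1 }
  let σ₀' : B →ₐ[C] S⟦X⟧ := { ε' with commutes' := h2 }
  let σ₁ : D ⊗[C] B →ₐ[D] S⟦X⟧ := Algebra.TensorProduct.lift (Algebra.ofId D _) σ₀
    (fun _ _ => Commute.all _ _)
  let σ₁' : D ⊗[C] B →ₐ[D] S⟦X⟧ := Algebra.TensorProduct.lift (Algebra.ofId D _) σ₀'
    (fun _ _ => Commute.all _ _)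
  let I : Ideal S⟦X⟧ := Ideal.span {X}
  have hI : ⨅ i : ℕ, I ^ i = ⊥ := by
    rw [eq_bot_iff]
    intro f hf
    rw [Ideal.mem_iInf] at hf
    ext m
    have h3 := hf (m + 1)
    rw [Ideal.span_singleton_pow, Ideal.mem_span_singleton, X_pow_dvd_iff] at h3
    exact h3 m (Nat.lt_succ_self m)
  have key : σ₁ = σ₁' := by
    apply Algebra.FormallyUnramified.ext_of_iInf I hI
    intro x
    rw [Ideal.Quotient.eq, Ideal.mem_span_singleton, X_dvd_iff, map_sub, sub_eq_zero]
    induction x using TensorProduct.induction_on with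
    | zero => simp
    | add x y hx hy => rw [map_add, map_add, map_add, map_add, hx, hy]
    | tmul d b =>
      have e1 : σ₁ (d ⊗ₜ[C] b) = θ d * ε b := Algebra.TensorProduct.lift_tmul _ _ _ _ _
      have e2 : σ₁' (d ⊗ₜ[C] b) = θ d * ε' b := Algebra.TensorProduct.lift_tmul _ _ _ _ _
      rw [e1, e2, map_mul, map_mul, h]
  ext1 b
  have h4 := congr($key (1 ⊗ₜ[C] b))
  have e1 : σ₁ (1 ⊗ₜ[C] b) = θ 1 * ε b := Algebra.TensorProduct.lift_tmul _ _ _ _ _
  have e2 : σ₁' (1 ⊗ₜ[C] b) = θ 1 * ε' b := Algebra.TensorProduct.lift_tmul _ _ _ _ _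
  rw [e1, e2, map_one, one_mul, one_mul] at h4
  exact h4

end K286.SerLift
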