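import Groth.Agent.SGA4h.K286.GoodDual
import Groth.Agent.SGA4h.K286.SerLift
import Groth.Agent.SGA4h.K286.LinLift

/-!
# Sections of good covers over a section of the base
-/

set_option autoImplicit false
set_option linter.unusedSectionVars false

universe u

open TensorProduct PowerSeries

namespace K286

namespace GoodCover

open Groth.Agent.EtpbcB.LocAcyc

variable {A C B : Type u} [CommRing A] [IsDomain A] [IsNoetherianRing A] [IsIntegrallyClosed A]
  [CommRing C] [CommRing B] [Algebra C B] {V : Set (PrimeSpectrum C)} [Algebra A C]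
  {ρ : C →ₐ[A] A} {t : C} (hd : SecData ρ t)

/-- The image of the points of height at most one. -/
def ContainsSection (ρ : C →ₐ[A] A) (V : Set (PrimeSpectrum C)) : Prop :=
  ∀ 𝔭 : PrimeSpectrum A, 𝔭.asIdeal.height ≤ 1 → PrimeSpectrum.comap (ρ : C →+* A) 𝔭 ∈ V

include hd in
/-- Power series expansions along a section. -/
theorem exists_series (h : GoodCover C B V) (hρ : ContainsSection ρ V) (σ : B →+* A)
    (hσ : ∀ c, σ (algebraMap C B c) = ρ c) :
    ∃ φ : B →+ A⟦X⟧, (∀ (c : C) (b : B), φ (c • b) = hd.expand c * φ b) ∧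
      ∀ b, constantCoeff (φ b) = σ b := by
  let k := FractionRing A
  have hinj : Function.Injective (algebraMap A k) := FaithfulSMul.algebraMap_injective A k
  have hmapinj : Function.Injective (PowerSeries.map (algebraMap A k)) := by
    intro f g hfg
    ext m
    apply hinj
    rw [← coeff_map, hfg, coeff_map]
  let 𝔭₀ : PrimeSpectrum A := ⟨⊥, Ideal.isPrime_bot⟩
  have h𝔭₀ : 𝔭₀.asIdeal.height ≤ 1 := by
    change (⊥ : Ideal A).height ≤ 1
    rw [Ideal.height_bot]
    exact zero_le_one
  let 𝔮₀ : PrimeSpectrum C := PrimeSpectrum.comap (ρ : C →+* A) 𝔭₀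
  have h𝔮₀ : 𝔮₀ ∈ V := hρ _ h𝔭₀
  have := h.etale 𝔮₀ h𝔮₀
  obtain ⟨ε, hε1, hε2⟩ := SerLift.exists_lift hd k 𝔭₀.asIdeal (unit_K k)
    (Localization.AtPrime 𝔮₀.asIdeal) 𝔮₀.asIdeal (fun c hc => hc) ((algebraMap A k).comp σ)
    (fun c => congrArg (algebraMap A k) (hσ c))
  have hcoeff : ∀ b m, ∃ a : A, algebraMap A k a = coeff m (ε b) := by
    intro b m
    apply exists_algebraMap_eq_of_height_one
    intro p hp hp1
    let 𝔭 : PrimeSpectrum A := ⟨p, hp⟩
    let 𝔮 : PrimeSpectrum C := PrimeSpectrum.comap (ρ : C →+* A) 𝔭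
    have h𝔮 : 𝔮 ∈ V := hρ 𝔭 hp1.le
    have := h.etale 𝔮 h𝔮
    obtain ⟨ε', hε'1, hε'2⟩ := SerLift.exists_lift hd (loc k p) 𝔭.asIdeal (loc_unit k p)
      (Localization.AtPrime 𝔮.asIdeal) 𝔮.asIdeal (fun c hc => hc) ((algebraMap A (loc k p)).comp σ)
      (fun c => congrArg (algebraMap A (loc k p)) (hσ c))
    have key : ε = (PowerSeries.map (algebraMap (loc k p) k)).comp ε' := by
      have := h.etale 𝔮₀ h𝔮₀
      refine SerLift.lift_unique hd k 𝔭₀.asIdeal (unit_K k)
        (Localization.AtPrime 𝔮₀.asIdeal) 𝔮₀.asIdeal (fun c hc => hc) ε _ hε1 (fun c => ?_)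
        (fun b => ?_)
      · rw [RingHom.comp_apply, hε'1, SerLift.expS_apply, SerLift.expS_apply]
        ext m
        rw [coeff_map, coeff_map, coeff_map, ← IsScalarTower.algebraMap_apply]
      · rw [hε2, RingHom.comp_apply, RingHom.comp_apply, ← coeff_zero_eq_constantCoeff_apply,
          coeff_map, coeff_zero_eq_constantCoeff_apply, hε'2, RingHom.comp_apply,
          ← IsScalarTower.algebraMap_apply]
    obtain ⟨a, s, hs, ha⟩ := loc_spec k p (coeff m (ε' b))
    refine ⟨a, s, hs, ?_⟩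
    rw [key, RingHom.comp_apply, coeff_map]
    exact ha
  choose a ha using hcoeff
  have hφ : ∀ b, PowerSeries.map (algebraMap A k) (PowerSeries.mk (a b)) = ε b := by
    intro b
    ext m
    rw [coeff_map, coeff_mk, ha]
  let φ : B →+ A⟦X⟧ :=
    { toFun := fun b => PowerSeries.mk (a b)
      map_zero' := by
        apply hmapinj
        rw [hφ, map_zero, map_zero]
      map_add' := fun x y => by
        apply hmapinj
        rw [hφ, map_add, map_add, hφ, hφ] }
  refine ⟨φ, fun c b => ?_, fun b => ?_⟩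
  · apply hmapinj
    change PowerSeries.map (algebraMap A k) (PowerSeries.mk (a (c • b))) =
      PowerSeries.map (algebraMap A k) (hd.expand c * PowerSeries.mk (a b))
    rw [hφ, map_mul, hφ, Algebra.smul_def, map_mul, hε1]
    rfl
  · apply hinj
    have h1 := hε2 b
    rw [← hφ, ← coeff_zero_eq_constantCoeff_apply, coeff_map,
      coeff_zero_eq_constantCoeff_apply] at h1
    exact h1

variable [IsDomain C] [IsNoetherianRing C] [IsIntegrallyClosed C]

include hd in
/-- The section is given modulo `t` by the trace form. -/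
theorem exists_dual_section (h : GoodCover C B V) (hV : ContainsHeightOne V)
    (hρ : ContainsSection ρ V) (σ : B →+* A) (hσ : ∀ c, σ (algebraMap C B c) = ρ c) :
    ∃ y : B, ∀ b, ρ (h.Tr hV (y * b)) = σ b := by
  have := h.module_finite hV
  obtain ⟨φ, hφ1, hφ2⟩ := exists_series hd h hρ σ hσ
  obtain ⟨ψ, hψ⟩ := LinLift.exists_linearMap hd φ hφ1
  obtain ⟨y, hy⟩ := h.exists_dual hV ψ
  refine ⟨y, fun b => ?_⟩
  rw [hy, hψ, hφ2]

end GoodCover

end K286
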