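import Groth.Agent.EtpbcB.LocAcycE
import Groth.Agent.EtpbcB.LocAcycRam
import Mathlib.RingTheory.Flat.Localization
import Mathlib.RingTheory.Smooth.Flat

/-!
# Localizations of an étale algebra over `A[X]` along a section
-/

set_option autoImplicit false
set_option linter.unusedSectionVars false

universe u

open Polynomial IsLocalRing

namespace K286.NoethLoc

open Groth.Agent.EtpbcB.LocAcyc Groth.Agent.EtpbcB.LocAcycRam

/-- The local ring of a Noetherian normal domain at a nonzero prime of height at most one is a
discrete valuation ring. -/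
theorem isDiscreteValuationRing {A : Type u} [CommRing A] [IsDomain A] [IsNoetherianRing A]
    [IsIntegrallyClosed A] (p : Ideal A) [p.IsPrime] (hp : p.height ≤ 1) (hp0 : p ≠ ⊥) :
    IsDiscreteValuationRing (Localization.AtPrime p) := by
  let L := Localization.AtPrime p
  have : IsIntegrallyClosed L := isIntegrallyClosed_of_isLocalization L p.primeCompl
    p.primeCompl_le_nonZeroDivisors
  have : IsNoetherianRing L := IsLocalization.isNoetherianRing p.primeCompl L inferInstance
  have hinj : Function.Injective (algebraMap A L) :=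
    IsLocalization.injective L p.primeCompl_le_nonZeroDivisors
  have hmap : p.map (algebraMap A L) = maximalIdeal L := Localization.AtPrime.map_eq_maximalIdeal
  obtain ⟨s, hsp, hs⟩ := Submodule.exists_mem_ne_zero_of_ne_bot hp0
  have hnf : maximalIdeal L ≠ ⊥ := by
    intro h0
    have : algebraMap A L s ∈ maximalIdeal L := by
      rw [← hmap]
      exact Ideal.mem_map_of_mem _ hsp
    rw [h0, Ideal.mem_bot] at this
    exact hs ((map_eq_zero_iff _ hinj).1 this)
  have huniq : ∀ P : Ideal L, P ≠ ⊥ → P.IsPrime → P = maximalIdeal L := by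
    intro P hP0 hPp
    have h1 : (maximalIdeal L).height ≤ 1 := by
      rw [← IsLocalization.height_under p.primeCompl, Localization.AtPrime.under_maximalIdeal]
      exact hp
    exact eq_of_height_le_one h1 (le_maximalIdeal hPp.ne_top) hP0
  have hprin : (maximalIdeal L).IsPrincipal :=
    ((tfae_of_isNoetherianRing_of_isLocalRing_of_isDomain L).out 3 4 rfl rfl).1
      ⟨inferInstance, huniq⟩
  exact ((IsDiscreteValuationRing.TFAE L (by
      rw [isField_iff_maximalIdeal_eq]; exact hnf)).out 4 0 rfl rfl).1 hprin

/-- Uniformizers. -/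
theorem irreducible_of_dvd {A : Type u} [CommRing A] [IsDomain A] (p : Ideal A) [p.IsPrime]
    [IsDiscreteValuationRing (Localization.AtPrime p)] (f : A) (hfp : f ∈ p)
    (hf : ∀ a ∈ p, ∃ u, u ∉ p ∧ f ∣ u * a) :
    Irreducible (algebraMap A (Localization.AtPrime p) f) := by
  let L := Localization.AtPrime p
  have hmap : p.map (algebraMap A L) = maximalIdeal L := Localization.AtPrime.map_eq_maximalIdeal
  rw [IsDiscreteValuationRing.irreducible_iff_uniformizer, ← hmap]
  apply le_antisymm
  · rw [Ideal.map_le_iff_le_comap]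
    intro a ha
    obtain ⟨u, hu, c, hc⟩ := hf a ha
    rw [Ideal.mem_comap, Ideal.mem_span_singleton]
    have huL : IsUnit (algebraMap A L u) := IsLocalization.map_units L (⟨u, hu⟩ : p.primeCompl)
    rw [← huL.dvd_mul_left, ← map_mul, hc, map_mul]
    exact Dvd.intro _ rfl
  · rw [Ideal.span_singleton_le_iff_mem]
    exact Ideal.mem_map_of_mem _ hfp

/-- Heights and integral extensions of normal domains. -/
theorem height_comap_le_one {A₁ A₂ : Type u} [CommRing A₁] [IsDomain A₁] [IsIntegrallyClosed A₁]
    [CommRing A₂] [IsDomain A₂] (j : A₁ →+* A₂) (hj : Function.Injective j) (hji : j.IsIntegral)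
    (p : Ideal A₂) [p.IsPrime] (hp : p.height ≤ 1) : (p.comap j).height ≤ 1 := by
  let _ : Algebra A₁ A₂ := j.toAlgebra
  have : FaithfulSMul A₁ A₂ := (faithfulSMul_iff_algebraMap_injective A₁ A₂).2 hj
  have : Algebra.IsIntegral A₁ A₂ := ⟨hji⟩
  apply height_le_one_of_forall
  intro q hq hle hq0
  by_contra hne
  obtain ⟨Q', hQ'lt, hQ'p, hQ'lo⟩ :=
    Ideal.exists_ideal_lt_liesOver_of_lt (S := A₂) p (p := q) (q := p.under A₁)
      (lt_of_le_of_ne hle hne)
  have hQ'0 : Q' ≠ ⊥ := by
    rintro rfl
    apply hq0
    rw [hQ'lo.over, eq_bot_iff]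
    intro x hx
    exact (map_eq_zero_iff j hj).1 hx
  exact hQ'lt.ne (eq_of_height_le_one hp hQ'lt.le hQ'0)

theorem mem_minimalPrimes {A : Type u} [CommRing A] [IsDomain A] {s : A} (hs : s ≠ 0) (p : Ideal A)
    [p.IsPrime] (hp : p.height ≤ 1) (hsp : s ∈ p) : p ∈ (Ideal.span {s}).minimalPrimes := by
  refine ⟨⟨inferInstance, by rwa [Ideal.span_singleton_le_iff_mem]⟩, ?_⟩
  rintro q ⟨hq, hsq⟩ hle
  rw [Ideal.span_singleton_le_iff_mem] at hsq
  have : q ≠ ⊥ := by
    rintro rfl
    exact hs ((Submodule.mem_bot A).1 hsq)
  exact (eq_of_height_le_one hp hle this).ge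

section Sec

variable {A E : Type u} [CommRing A] [IsDomain A] [CommRing E] [IsDomain E] [Algebra A[X] E]
  [Algebra.Etale A[X] E] (hinj : Function.Injective (algebraMap A[X] E)) (σ : E →+* A)
  (hσ : ∀ a, σ (algebraMap A[X] E (C a)) = a) (m : Ideal A) [m.IsPrime]

include hinj hσ in
/-- The local ring along a section. -/
theorem exists_secData :
    ∃ (_ : Algebra (Localization.AtPrime m) (Localization.AtPrime (m.comap σ)))
      (ρ : Localization.AtPrime (m.comap σ) →ₐ[Localization.AtPrime m] Localization.AtPrime m)
      (t : Localization.AtPrime (m.comap σ)), SecData ρ t ∧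
      (∀ a : A, algebraMap (Localization.AtPrime m) (Localization.AtPrime (m.comap σ))
        (algebraMap A _ a) = algebraMap E _ (algebraMap A[X] E (C a))) ∧
      (∀ e : E, ρ (algebraMap E _ e) = algebraMap A _ (σ e)) ∧
      Module.Flat (Localization.AtPrime m) (Localization.AtPrime (m.comap σ)) := by
  set P : Ideal E := m.comap σ with hP
  have hPp : P.IsPrime := inferInstance
  let D := Localization.AtPrime P
  let B := Localization.AtPrime m
  let ι : A →+* E := (algebraMap A[X] E).comp (C : A →+* A[X])
  have hιP : m = P.comap ι := by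
    ext b
    rw [hP, Ideal.comap_comap, Ideal.mem_comap]
    change b ∈ m ↔ σ (algebraMap A[X] E (C b)) ∈ m
    rw [hσ]
  let ιp : B →+* D := Localization.localRingHom m P ι hιP
  let ρp : D →+* B := Localization.localRingHom P m σ rfl
  have hι : ∀ b : A, ιp (algebraMap A B b) = algebraMap E D (ι b) := fun b =>
    Localization.localRingHom_to_map m P ι hιP b
  have hρ : ∀ e : E, ρp (algebraMap E D e) = algebraMap A B (σ e) := fun e =>
    Localization.localRingHom_to_map P m σ rfl e
  have hcomp : ∀ b : B, ρp (ιp b) = b := by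
    have : ρp.comp ιp = RingHom.id B := by
      apply IsLocalization.ringHom_ext m.primeCompl
      ext b
      change ρp (ιp (algebraMap A B b)) = algebraMap A B b
      rw [hι, hρ]
      congr 1
      exact hσ b
    intro b
    exact congrArg (fun φ : B →+* B => φ b) this
  let algBD : Algebra B D := ιp.toAlgebra
  let ρ : D →ₐ[B] B := { ρp with commutes' := hcomp }
  have hAB : Function.Injective (algebraMap A B) :=
    IsLocalization.injective B m.primeCompl_le_nonZeroDivisors
  have hED : Function.Injective (algebraMap E D) :=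
    IsLocalization.injective D P.primeCompl_le_nonZeroDivisors
  have i1 : IsDomain D := IsLocalization.isDomain_of_atPrime D P
  have i2 : IsDomain B := IsLocalization.isDomain_of_atPrime B m
  set t : E := algebraMap A[X] E (X - C (σ (algebraMap A[X] E X))) with ht
  have ht0 : t ≠ 0 := by
    rw [ht, Ne, map_eq_zero_iff _ hinj]
    exact X_sub_C_ne_zero _
  have hσt : σ t = 0 := by
    rw [ht, map_sub, map_sub, hσ, sub_self]
  have hker : RingHom.ker ρ = Ideal.span {algebraMap E D t} := by
    apply le_antisymm
    · intro d hd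
      obtain ⟨c, s, rfl⟩ := IsLocalization.exists_mk'_eq P.primeCompl d
      have h1 : ρp (algebraMap E D c) = 0 := by
        rw [← IsLocalization.mk'_spec' D c s, map_mul]
        have : ρp (IsLocalization.mk' D c s) = 0 := hd
        rw [this, mul_zero]
      rw [hρ, map_eq_zero_iff _ hAB] at h1
      obtain ⟨h, y, hh, hy⟩ := exists_mul_eq_of_section σ hσ c h1
      have hhP : h ∈ P.primeCompl := by
        intro hhP
        have : σ h ∈ m := hhP
        rw [hh] at this
        exact (‹m.IsPrime›.ne_top) ((Ideal.eq_top_iff_one m).2 this)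
      rw [Ideal.mem_span_singleton]
      refine ⟨IsLocalization.mk' D y (s * ⟨h, hhP⟩), ?_⟩
      rw [IsLocalization.mul_mk'_eq_mk'_of_mul, ← hy, mul_comm h c]
      exact (IsLocalization.mk'_cancel (S := D) c s ⟨h, hhP⟩).symm
    · rw [Ideal.span_singleton_le_iff_mem, RingHom.mem_ker]
      change ρp (algebraMap E D t) = 0
      rw [hρ, hσt, map_zero]
  have htD : algebraMap E D t ≠ 0 := by
    rwa [Ne, map_eq_zero_iff _ hED]
  -- flatness
  let _ : Algebra A E := ι.toAlgebra
  have hAE : Module.Flat A E := by
    have : IsScalarTower A A[X] E := IsScalarTower.of_algebraMap_eq' rfl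
    have : Module.Flat A[X] E := inferInstance
    exact Module.Flat.trans A A[X] E
  have : IsScalarTower A E D := inferInstance
  have : IsScalarTower A B D := IsScalarTower.of_algebraMap_eq fun a => by
    rw [IsScalarTower.algebraMap_apply A E D]
    exact (hι a).symm
  have hED' : Module.Flat E D := IsLocalization.flat D P.primeCompl
  have hAD : Module.Flat A D := Module.Flat.trans A E D
  have hBD : Module.Flat B D := (Module.flat_iff_of_isLocalization B m.primeCompl D).2 hAD
  exact ⟨algBD, ρ, algebraMap E D t, ⟨fun x y h => mul_left_cancel₀ htD h, hker⟩, hι, hρ, hBD⟩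

end Sec

end K286.NoethLoc
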