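import Groth.Agent.SGA4h.K286.LevelExt
import Groth.Agent.SGA4h.K286.NoethLoc
import Groth.Agent.SGA4h.K286.GoodFEt
import Groth.Agent.SGA4h.K286.LefSplit
import Groth.Agent.Etcore.NormalEtale

/-!
# Extension of Galois covers of the generic fibre at finite level
-/

set_option autoImplicit false
set_option linter.unusedSectionVars false

universe u

open CategoryTheory CategoryTheory.Limits AlgebraicGeometry Polynomial IsLocalRing

namespace K286

namespace LevelCore

open Groth.Agent.Pi1A.FEtAffine Groth.Agent.Pi1.H382.BC Groth.Agent.EtpbcB.LocAcyc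
open K286.TransAct Groth.Agent.Pi1.H382.Trait

section

variable {A₁ A₂ E₁ E₂ : Type u} [CommRing A₁] [IsDomain A₁] [IsNoetherianRing A₁]
  [IsIntegrallyClosed A₁] [CommRing A₂] [IsDomain A₂] [IsNoetherianRing A₂] [IsIntegrallyClosed A₂]
  [CommRing E₁] [Algebra A₁[X] E₁] [Algebra.Etale A₁[X] E₁] [CommRing E₂] [IsDomain E₂]
  [Algebra A₂[X] E₂] [Algebra.Etale A₂[X] E₂]
  (j : A₁ →+* A₂) (J : E₁ →+* E₂)
  (hJ : ∀ p, J (algebraMap A₁[X] E₁ p) = algebraMap A₂[X] E₂ (p.map j))
  (hinj₂ : Function.Injective (algebraMap A₂[X] E₂))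

include hJ in
/-- Local extension at the points where `s` is invertible. -/
theorem exists_local_unit {s : A₁} {Es : Type u} [CommRing Es] [Algebra E₁ Es]
    [IsLocalization.Away (algebraMap A₁[X] E₁ (C s)) Es] {S : Scheme.{u}}
    (l : Spec (CommRingCat.of Es) ⟶ S) (W : FEt.Cat S) {F : Type u} [Field F] (φF : E₂ →+* F)
    (η : Es →+* F) (hη : ∀ e, η (algebraMap E₁ Es e) = φF (J e))
    (R : Type u) [CommRing R] (φ : E₂ →+* R) (κ : R →+* F) (hκ : ∀ e, κ (φ e) = φF e)
    (hs : IsUnit (φ (algebraMap A₂[X] E₂ (C (j s))))) :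
    ∃ lam : Es →+* R, (∀ e, lam (algebraMap E₁ Es e) = φ (J e)) ∧
      Bc (Spec.map (CommRingCat.ofHom κ)) ((FEt.restrict (Spec.map (CommRingCat.ofHom lam) ≫ l)).obj W)
        ((FEt.restrict (Spec.map (CommRingCat.ofHom η) ≫ l)).obj W) := by
  have hu : IsUnit ((φ.comp J) (algebraMap A₁[X] E₁ (C s))) := by
    rw [RingHom.comp_apply, hJ, map_C]
    exact hs
  let lam : Es →+* R := IsLocalization.Away.lift (algebraMap A₁[X] E₁ (C s)) hu
  have hlam : ∀ e, lam (algebraMap E₁ Es e) = φ (J e) := fun e =>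
    IsLocalization.Away.lift_eq (algebraMap A₁[X] E₁ (C s)) hu e
  refine ⟨lam, hlam, ?_⟩
  have h1 : κ.comp lam = η := by
    apply IsLocalization.ringHom_ext (Submonoid.powers (algebraMap A₁[X] E₁ (C s)))
    ext e
    rw [RingHom.comp_apply, RingHom.comp_apply, RingHom.comp_apply, hlam, hκ, hη]
  have h2 : Spec.map (CommRingCat.ofHom κ) ≫ Spec.map (CommRingCat.ofHom lam) ≫ l =
      Spec.map (CommRingCat.ofHom η) ≫ l := by
    rw [← Category.assoc, ← Spec.map_comp, ← CommRingCat.ofHom_comp, h1]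
  exact (Bc.of_comp h2 (Bc.refl _ W) (Bc.refl _ W))

include hJ hinj₂ in
/-- Local extension at the points over primes of height one containing `s`. -/
theorem exists_local_ext (hj : Function.Injective j) (hji : j.IsIntegral) {s : A₁} (hs0 : s ≠ 0)
    {f : A₁} (hf : ∀ p ∈ (Ideal.span {s}).minimalPrimes, f ∈ p ∧ ∀ a ∈ p, ∃ u, u ∉ p ∧ f ∣ u * a)
    (n : ℕ) {γ : A₂} (hγ : γ ^ n = j f)
    {Es : Type u} [CommRing Es] [Algebra E₁ Es]
    [IsLocalization.Away (algebraMap A₁[X] E₁ (C s)) Es] {S : Scheme.{u}}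
    (l : Spec (CommRingCat.of Es) ⟶ S) (W : FEt.Cat S) {Γ : Type u} [Group Γ] (ρ : Γ →* Aut W)
    (hρ : TransAct ρ) (hcard : Nat.card Γ ∣ n) {F : Type u} [Field F] (φF : E₂ →+* F)
    (hφF : Function.Injective φF)
    (η : Es →+* F) (hη : ∀ e, η (algebraMap E₁ Es e) = φF (J e))
    (R : Type u) [CommRing R] (φ : E₂ →+* R) (κ : R →+* F) (hκ : ∀ e, κ (φ e) = φF e)
    (p₂ : Ideal A₂) [p₂.IsPrime] (hp₂ : p₂.height ≤ 1) (hsp : j s ∈ p₂) (hn : (n : A₂) ∉ p₂)
    (hu : ∀ a, a ∉ p₂ → IsUnit (φ (algebraMap A₂[X] E₂ (C a)))) :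
    ∃ Z : FEt.Cat (Spec (CommRingCat.of R)), Bc (Spec.map (CommRingCat.ofHom κ)) Z
        ((FEt.restrict (Spec.map (CommRingCat.ofHom η) ≫ l)).obj W) := by
  let p₁ : Ideal A₁ := p₂.comap j
  have hp₁ : p₁.IsPrime := Ideal.comap_isPrime _ _
  have hp₁h : p₁.height ≤ 1 := NoethLoc.height_comap_le_one j hj hji p₂ hp₂
  have hsp₁ : s ∈ p₁ := hsp
  have hp₁0 : p₁ ≠ ⊥ := by
    intro h
    rw [h] at hsp₁
    exact hs0 ((Submodule.mem_bot A₁).1 hsp₁)
  have hp₂0 : p₂ ≠ ⊥ := by
    intro h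
    rw [h] at hsp
    have h1 : j s = 0 := (Submodule.mem_bot A₂).1 hsp
    exact hs0 (hj (h1.trans (map_zero j).symm))
  obtain ⟨hfp, hfu⟩ := hf p₁ (NoethLoc.mem_minimalPrimes hs0 p₁ hp₁h hsp₁)
  let V := Localization.AtPrime p₁
  let V₂ := Localization.AtPrime p₂
  have i1 : IsDomain V := IsLocalization.isDomain_of_atPrime V p₁
  have i2 : IsDomain V₂ := IsLocalization.isDomain_of_atPrime V₂ p₂
  have i3 : IsDiscreteValuationRing V := NoethLoc.isDiscreteValuationRing p₁ hp₁h hp₁0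
  have i4 : IsDiscreteValuationRing V₂ := NoethLoc.isDiscreteValuationRing p₂ hp₂ hp₂0
  let ψ : V →+* V₂ := Localization.localRingHom p₁ p₂ j rfl
  have hψ1 : ∀ a, ψ (algebraMap A₁ V a) = algebraMap A₂ V₂ (j a) := fun a =>
    Localization.localRingHom_to_map p₁ p₂ j rfl a
  have hA₁V : Function.Injective (algebraMap A₁ V) :=
    IsLocalization.injective V p₁.primeCompl_le_nonZeroDivisors
  have hA₂V₂ : Function.Injective (algebraMap A₂ V₂) :=
    IsLocalization.injective V₂ p₂.primeCompl_le_nonZeroDivisors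
  have hψ : Function.Injective ψ := by
    rw [injective_iff_map_eq_zero]
    intro x hx
    obtain ⟨a, b, rfl⟩ := IsLocalization.exists_mk'_eq p₁.primeCompl x
    have h1 : ψ (algebraMap A₁ V a) = 0 := by
      rw [← IsLocalization.mk'_spec' V a b, map_mul, hx, mul_zero]
    rw [hψ1, map_eq_zero_iff _ hA₂V₂, map_eq_zero_iff _ hj] at h1
    rw [h1, IsLocalization.mk'_zero]
  have hloc : IsLocalHom ψ := Localization.isLocalHom_localRingHom p₁ p₂ j rfl
  have hϖ : Irreducible (algebraMap A₁ V f) := NoethLoc.irreducible_of_dvd p₁ f hfp hfu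
  have hnV : IsUnit (n : V) := by
    have h1 : (n : A₁) ∉ p₁ := by
      intro h
      apply hn
      have h2 : j (n : A₁) ∈ p₂ := h
      rwa [map_natCast] at h2
    have h2 := IsLocalization.map_units V (⟨(n : A₁), h1⟩ : p₁.primeCompl)
    simpa using h2
  -- the schemes
  let s₁ : Spec (CommRingCat.of E₁) ⟶ Spec (CommRingCat.of A₁[X]) :=
    Spec.map (CommRingCat.ofHom (algebraMap A₁[X] E₁))
  let s₂ : Spec (CommRingCat.of E₂) ⟶ Spec (CommRingCat.of A₂[X]) :=
    Spec.map (CommRingCat.ofHom (algebraMap A₂[X] E₂))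
  have hs₁ : Etale s₁ := (HasRingHomProperty.Spec_iff (P := @Etale)).mpr
    (RingHom.etale_algebraMap.mpr inferInstance)
  have hs₂ : Etale s₂ := (HasRingHomProperty.Spec_iff (P := @Etale)).mpr
    (RingHom.etale_algebraMap.mpr inferInstance)
  let i : Spec (CommRingCat.of Es) ⟶ Spec (CommRingCat.of E₁) :=
    Spec.map (CommRingCat.ofHom (algebraMap E₁ Es))
  have hi : IsOpenImmersion i := IsOpenImmersion.of_isLocalization (algebraMap A₁[X] E₁ (C s))
  -- the map `V₂ → R`
  let φA : A₂ →+* R := φ.comp ((algebraMap A₂[X] E₂).comp C)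
  let φV : V₂ →+* R := IsLocalization.lift (M := p₂.primeCompl) (g := φA) (fun y => hu _ y.2)
  have hφV : ∀ a, φV (algebraMap A₂ V₂ a) = φA a := fun a => IsLocalization.lift_eq _ _
  let c₀ : V₂[X] →+* R := eval₂RingHom φV (φ (algebraMap A₂[X] E₂ X))
  have hc₀ : c₀.comp (mapRingHom (algebraMap A₂ V₂)) = φ.comp (algebraMap A₂[X] E₂) := by
    apply Polynomial.ringHom_ext
    · intro a
      simp only [RingHom.comp_apply, coe_mapRingHom, map_C, c₀, coe_eval₂RingHom, eval₂_C]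
      exact hφV a
    · simp only [RingHom.comp_apply, coe_mapRingHom, map_X, c₀, coe_eval₂RingHom, eval₂_X]
  obtain ⟨Z, hZ⟩ := K286.LevelExt.exists_ext (algebraMap A₁ V) (algebraMap A₂ V₂) j ψ hψ
    (RingHom.ext hψ1) s₁ s₂ (Spec.map (CommRingCat.ofHom J)) (by
      rw [← Spec.map_comp, ← Spec.map_comp, ← CommRingCat.ofHom_comp, ← CommRingCat.ofHom_comp]
      congr 2
      exact RingHom.ext hJ) hϖ n hnV hcard (algebraMap A₂ V₂ γ) (by
      rw [hψ1, ← map_pow, hγ]) W ρ hρ i l (by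
      intro x hx
      rw [show Set.range i = _ from
        PrimeSpectrum.localization_away_comap_range Es (algebraMap A₁[X] E₁ (C s))]
      intro hmem
      have h1 : s ∈ ((Spec.map (CommRingCat.ofHom (C : A₁ →+* A₁[X]))) (s₁ x) :
          PrimeSpectrum A₁).asIdeal := hmem
      rw [hx] at h1
      have h2 : algebraMap A₁ V s ∈ (⊥ : Ideal V) := h1
      rw [Ideal.mem_bot, map_eq_zero_iff _ hA₁V] at h2
      exact hs0 h2) (Spec.map (CommRingCat.ofHom φ)) (Spec.map (CommRingCat.ofHom c₀)) (by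
      rw [← Spec.map_comp, ← Spec.map_comp, ← CommRingCat.ofHom_comp, ← CommRingCat.ofHom_comp,
        hc₀])
  refine ⟨Z, ?_⟩
  obtain ⟨e⟩ := hZ (Spec (CommRingCat.of F)) (Spec.map (CommRingCat.ofHom κ))
    (Spec.map (CommRingCat.ofHom η)) (by
      rw [← Spec.map_comp, ← Spec.map_comp, ← Spec.map_comp, ← CommRingCat.ofHom_comp,
        ← CommRingCat.ofHom_comp, ← CommRingCat.ofHom_comp]
      congr 2
      ext x
      rw [RingHom.comp_apply, RingHom.comp_apply, RingHom.comp_apply, hη, hκ]) (by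
      intro x
      have hinj : Function.Injective ((κ.comp c₀).comp (C : V₂ →+* V₂[X])) := by
        rw [injective_iff_map_eq_zero]
        intro v hv
        obtain ⟨a, b, rfl⟩ := IsLocalization.exists_mk'_eq p₂.primeCompl v
        have h1 : ((κ.comp c₀).comp (C : V₂ →+* V₂[X])) (algebraMap A₂ V₂ a) = 0 := by
          rw [← IsLocalization.mk'_spec' V₂ a b, map_mul, hv, mul_zero]
        have h2 : ((κ.comp c₀).comp (C : V₂ →+* V₂[X])) (algebraMap A₂ V₂ a) =
            φF (algebraMap A₂[X] E₂ (C a)) := by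
          simp only [RingHom.comp_apply, c₀, coe_eval₂RingHom, eval₂_C]
          rw [hφV, ← hκ]
          rfl
        rw [h2, map_eq_zero_iff _ hφF, map_eq_zero_iff _ hinj₂, C_eq_zero] at h1
        rw [h1, IsLocalization.mk'_zero]
      have h3 : (Spec.map (CommRingCat.ofHom (C : V₂ →+* V₂[X])))
          ((Spec.map (CommRingCat.ofHom c₀)) ((Spec.map (CommRingCat.ofHom κ)) x)) =
          (⊥ : PrimeSpectrum V₂) := by
        rw [← Scheme.Hom.comp_apply, ← Scheme.Hom.comp_apply, ← Spec.map_comp, ← Spec.map_comp,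
          ← CommRingCat.ofHom_comp, ← CommRingCat.ofHom_comp]
        have h4 : x = (⊥ : PrimeSpectrum F) := Subsingleton.elim (α := PrimeSpectrum F) _ _
        rw [h4]
        apply PrimeSpectrum.ext
        change (⊥ : Ideal F).comap (κ.comp (c₀.comp C)) = ⊥
        rw [← RingHom.ker_eq_comap_bot]
        exact (RingHom.injective_iff_ker_eq_bot _).1 hinj
      rw [h3]
      exact bot_ne_closedPoint)
  exact ⟨e⟩

include hJ hinj₂ in
/-- **The finite level theorem**, Noetherian form. -/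
theorem exists_cover (hj : Function.Injective j) (hji : j.IsIntegral) {s : A₁} (hs0 : s ≠ 0)
    {f : A₁} (hf : ∀ p ∈ (Ideal.span {s}).minimalPrimes, f ∈ p ∧ ∀ a ∈ p, ∃ u, u ∉ p ∧ f ∣ u * a)
    (n : ℕ) {γ : A₂} (hγ : γ ^ n = j f)
    (σ : E₂ →+* A₂) (hσ : ∀ a, σ (algebraMap A₂[X] E₂ (C a)) = a)
    (m : Ideal A₂) [m.IsPrime] (hn : (n : A₂) ∉ m)
    {Es : Type u} [CommRing Es] [Algebra E₁ Es]
    [IsLocalization.Away (algebraMap A₁[X] E₁ (C s)) Es] {S : Scheme.{u}}
    (l : Spec (CommRingCat.of Es) ⟶ S) (W : FEt.Cat S) {Γ : Type u} [Group Γ] (ρ : Γ →* Aut W)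
    (hρ : TransAct ρ) (hcard : Nat.card Γ ∣ n)
    {k : Type u} [Field k] [Algebra A₂ k] [IsFractionRing A₂ k] (θ : Es →+* k)
    (hθ : ∀ e, θ (algebraMap E₁ Es e) = algebraMap A₂ k (σ (J e)))
    (hsplit : Pi1.IsSplit ((FEt.restrict (Spec.map (CommRingCat.ofHom θ) ≫ l)).obj W))
    {F : Type u} [Field F] [Algebra E₂ F] [IsFractionRing E₂ F]
    (η : Es →+* F) (hη : ∀ e, η (algebraMap E₁ Es e) = algebraMap E₂ F (J e)) :
    ∃ (κ : Localization.AtPrime (m.comap σ) →+* F)
      (Z : FEt.Cat (Spec (CommRingCat.of (Localization.AtPrime (m.comap σ))))),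
      (∀ e, κ (algebraMap E₂ _ e) = algebraMap E₂ F e) ∧
      Bc (Spec.map (CommRingCat.ofHom κ)) Z
        ((FEt.restrict (Spec.map (CommRingCat.ofHom η) ≫ l)).obj W) := by
  have hE₂noeth : IsNoetherianRing E₂ := Algebra.FiniteType.isNoetherianRing A₂[X] E₂
  have hE₂ic : IsIntegrallyClosed E₂ :=
    Groth.Agent.Etcore.NormalEtale.isIntegrallyClosed_of_etale A₂[X] E₂
  obtain ⟨_, r, t, hd, halg, hr, hflat⟩ := NoethLoc.exists_secData hinj₂ σ hσ m
  let P : Ideal E₂ := m.comap σ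
  have hPp : P.IsPrime := inferInstance
  let D := Localization.AtPrime P
  let B := Localization.AtPrime m
  have i1 : IsDomain D := IsLocalization.isDomain_of_atPrime D P
  have i2 : IsDomain B := IsLocalization.isDomain_of_atPrime B m
  have i3 : IsNoetherianRing D := IsLocalization.isNoetherianRing P.primeCompl D inferInstance
  have i4 : IsIntegrallyClosed D :=
    isIntegrallyClosed_of_isLocalization D P.primeCompl P.primeCompl_le_nonZeroDivisors
  have i5 : IsNoetherianRing B := IsLocalization.isNoetherianRing m.primeCompl B inferInstance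
  have i6 : IsIntegrallyClosed B :=
    isIntegrallyClosed_of_isLocalization B m.primeCompl m.primeCompl_le_nonZeroDivisors
  have hFinj : Function.Injective (algebraMap E₂ F) := IsFractionRing.injective E₂ F
  have hunitF : ∀ y : P.primeCompl, IsUnit (algebraMap E₂ F y) := fun y => by
    rw [isUnit_iff_ne_zero, Ne, map_eq_zero_iff _ hFinj]
    intro h
    exact y.2 (by rw [h]; exact P.zero_mem)
  let κ : D →+* F := IsLocalization.lift (M := P.primeCompl) (g := algebraMap E₂ F) hunitF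
  have hκ : ∀ e, κ (algebraMap E₂ D e) = algebraMap E₂ F e := fun e => IsLocalization.lift_eq _ _
  let _ : Algebra D F := κ.toAlgebra
  have : IsScalarTower E₂ D F := IsScalarTower.of_algebraMap_eq fun e => (hκ e).symm
  have : IsFractionRing D F :=
    IsFractionRing.isFractionRing_of_isDomain_of_isLocalization P.primeCompl D F
  let V : Set (PrimeSpectrum D) := {𝔮 | (𝔮.asIdeal.comap (algebraMap B D)).height ≤ 1}
  have hV : GoodCover.ContainsHeightOne V := fun 𝔮 h𝔮 =>
    (LefSplit.height_comap_le (A := B) 𝔮.asIdeal).trans h𝔮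
  have hsec : ∀ 𝔭 : PrimeSpectrum B,
      PrimeSpectrum.comap (algebraMap B D) (PrimeSpectrum.comap (r : D →+* B) 𝔭) = 𝔭 := by
    intro 𝔭
    rw [← PrimeSpectrum.comap_comp_apply]
    have h2 : (r : D →+* B).comp (algebraMap B D) = RingHom.id B := by
      ext a
      simp
    rw [h2]
    rfl
  have hρV : GoodCover.ContainsSection r V := by
    intro 𝔭 h𝔭
    change (PrimeSpectrum.comap (algebraMap B D) (PrimeSpectrum.comap (r : D →+* B) 𝔭)).asIdeal.height
      ≤ 1
    rw [hsec]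
    exact h𝔭
  let WF : FEt.Cat (Spec (CommRingCat.of F)) :=
    (FEt.restrict (Spec.map (CommRingCat.ofHom η) ≫ l)).obj W
  -- the maps to the fraction field
  have hκq : ∀ 𝔮 : PrimeSpectrum D, ∃ κq : Localization.AtPrime 𝔮.asIdeal →+* F,
      ∀ c, κq (algebraMap D _ c) = algebraMap D F c := by
    intro 𝔮
    have hu : ∀ y : 𝔮.asIdeal.primeCompl, IsUnit (algebraMap D F y) := fun y => by
      rw [isUnit_iff_ne_zero, Ne, FaithfulSMul.algebraMap_eq_zero_iff]
      intro h
      exact y.2 (by rw [h]; exact 𝔮.asIdeal.zero_mem)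
    exact ⟨IsLocalization.lift (M := 𝔮.asIdeal.primeCompl) (g := algebraMap D F) hu,
      fun c => IsLocalization.lift_eq _ _⟩
  choose κq hκq using hκq
  have hκq' : ∀ 𝔮 : PrimeSpectrum D, ∀ e, κq 𝔮 (((algebraMap D (Localization.AtPrime 𝔮.asIdeal)).comp
      (algebraMap E₂ D)) e) = algebraMap E₂ F e := by
    intro 𝔮 e
    rw [RingHom.comp_apply, hκq]
    exact hκ e
  have hC : ∀ a : A₂, algebraMap B D (algebraMap A₂ B a) = algebraMap E₂ D (algebraMap A₂[X] E₂ (C a)) :=
    halg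
  have hU : ∀ 𝔮 ∈ V, ∃ (κ' : Localization.AtPrime 𝔮.asIdeal →+* F)
      (Z : FEt.Cat (Spec (CommRingCat.of (Localization.AtPrime 𝔮.asIdeal)))),
      (∀ c, κ' (algebraMap D _ c) = algebraMap D F c) ∧ Bc (Spec.map (CommRingCat.ofHom κ')) Z WF := by
    intro 𝔮 h𝔮
    refine ⟨κq 𝔮, ?_⟩
    by_cases hs : algebraMap E₂ D (algebraMap A₂[X] E₂ (C (j s))) ∈ 𝔮.asIdeal
    · let p₃ : Ideal B := 𝔮.asIdeal.comap (algebraMap B D)
      have hp₃ : p₃.IsPrime := Ideal.comap_isPrime _ _
      let p₂ : Ideal A₂ := p₃.under A₂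
      have hp₂ : p₂.IsPrime := Ideal.IsPrime.under A₂ p₃
      have hmem : ∀ a, a ∈ p₂ ↔ algebraMap E₂ D (algebraMap A₂[X] E₂ (C a)) ∈ 𝔮.asIdeal := by
        intro a
        rw [← hC]
        rfl
      have hp₂h : p₂.height ≤ 1 := by
        rw [show p₂.height = p₃.height from IsLocalization.height_under m.primeCompl p₃]
        exact h𝔮
      have hp₂m : p₂ ≤ m := by
        intro a ha
        by_contra ham
        have h1 : IsUnit (algebraMap A₂ B a) := IsLocalization.map_units B (⟨a, ham⟩ : m.primeCompl)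
        exact hp₃.ne_top (Ideal.eq_top_of_isUnit_mem _ ha h1)
      obtain ⟨Z, hZ⟩ := exists_local_ext j J hJ hinj₂ hj hji hs0 hf n hγ l W ρ hρ hcard
        (algebraMap E₂ F) hFinj η hη (Localization.AtPrime 𝔮.asIdeal)
        ((algebraMap D (Localization.AtPrime 𝔮.asIdeal)).comp (algebraMap E₂ D)) (κq 𝔮) (hκq' 𝔮)
        p₂ hp₂h ((hmem _).2 hs) (fun h => hn (hp₂m h)) (fun a ha => by
          rw [RingHom.comp_apply]
          exact IsLocalization.map_units (M := 𝔮.asIdeal.primeCompl) _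
            ⟨_, fun h => ha ((hmem a).2 h)⟩)
      exact ⟨Z, hκq 𝔮, hZ⟩
    · obtain ⟨lam, -, hlam⟩ := exists_local_unit j J hJ l W (algebraMap E₂ F) η hη
        (Localization.AtPrime 𝔮.asIdeal)
        ((algebraMap D (Localization.AtPrime 𝔮.asIdeal)).comp (algebraMap E₂ D)) (κq 𝔮) (hκq' 𝔮)
        (IsLocalization.map_units (M := 𝔮.asIdeal.primeCompl) _ ⟨_, hs⟩)
      exact ⟨_, hκq 𝔮, hlam⟩
  -- the generic point of the section
  let 𝔭₀ : PrimeSpectrum B := ⟨⊥, Ideal.isPrime_bot⟩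
  have h𝔭₀ : 𝔭₀.asIdeal.height ≤ 1 := by
    change (⊥ : Ideal B).height ≤ 1
    rw [Ideal.height_bot]
    exact zero_le_one
  let 𝔮₀ : PrimeSpectrum D := PrimeSpectrum.comap (r : D →+* B) 𝔭₀
  have h𝔮₀ : 𝔮₀ ∈ V := hρV _ h𝔭₀
  have hA₂k : Function.Injective (algebraMap A₂ k) := IsFractionRing.injective A₂ k
  have hunitk : ∀ y : m.primeCompl, IsUnit (algebraMap A₂ k y) := fun y => by
    rw [isUnit_iff_ne_zero, Ne, map_eq_zero_iff _ hA₂k]
    intro h
    exact y.2 (by rw [h]; exact m.zero_mem)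
  let κk : B →+* k := IsLocalization.lift (M := m.primeCompl) (g := algebraMap A₂ k) hunitk
  have hκk : ∀ a, κk (algebraMap A₂ B a) = algebraMap A₂ k a := fun a => IsLocalization.lift_eq _ _
  let _ : Algebra B k := κk.toAlgebra
  have : IsScalarTower A₂ B k := IsScalarTower.of_algebraMap_eq fun a => (hκk a).symm
  have : IsFractionRing B k :=
    IsFractionRing.isFractionRing_of_isDomain_of_isLocalization m.primeCompl B k
  have hBk : Function.Injective (algebraMap B k) := IsFractionRing.injective B k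
  let χ : Localization.AtPrime 𝔮₀.asIdeal →+* k :=
    IsLocalization.lift (M := 𝔮₀.asIdeal.primeCompl) (g := (algebraMap B k).comp (r : D →+* B))
      (fun y => by
        rw [isUnit_iff_ne_zero, RingHom.comp_apply, Ne, map_eq_zero_iff _ hBk]
        intro h
        exact y.2 h)
  have hχ : ∀ c, χ (algebraMap D _ c) = algebraMap B k (r c) := fun c => IsLocalization.lift_eq _ _
  have hrE : ∀ e, r (algebraMap E₂ D e) = algebraMap A₂ B (σ e) := hr
  have hs₀ : algebraMap E₂ D (algebraMap A₂[X] E₂ (C (j s))) ∉ 𝔮₀.asIdeal := by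
    intro h
    have h1 : r (algebraMap E₂ D (algebraMap A₂[X] E₂ (C (j s)))) = 0 := h
    rw [hrE, hσ, map_eq_zero_iff _ (IsLocalization.injective B m.primeCompl_le_nonZeroDivisors),
      map_eq_zero_iff _ hj] at h1
    exact hs0 h1
  obtain ⟨lam, hlam1, hlam2⟩ := exists_local_unit j J hJ l W (algebraMap E₂ F) η hη
    (Localization.AtPrime 𝔮₀.asIdeal)
    ((algebraMap D (Localization.AtPrime 𝔮₀.asIdeal)).comp (algebraMap E₂ D)) (κq 𝔮₀) (hκq' 𝔮₀)
    (IsLocalization.map_units (M := 𝔮₀.asIdeal.primeCompl) _ ⟨_, hs₀⟩)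
  obtain ⟨Z, hZ⟩ := GoodFEt.exists_cover hd hV hρV WF hU k 𝔮₀ h𝔮₀ (κq 𝔮₀) (hκq 𝔮₀) _ hlam2 χ hχ (by
    have h1 : χ.comp lam = θ := by
      apply IsLocalization.ringHom_ext (Submonoid.powers (algebraMap A₁[X] E₁ (C s)))
      ext e
      rw [RingHom.comp_apply, RingHom.comp_apply, RingHom.comp_apply, hlam1, hθ,
        RingHom.comp_apply, hχ, hrE]
      exact hκk _
    have h2 : Spec.map (CommRingCat.ofHom χ) ≫ Spec.map (CommRingCat.ofHom lam) ≫ l =
        Spec.map (CommRingCat.ofHom θ) ≫ l := by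
      rw [← Category.assoc, ← Spec.map_comp, ← CommRingCat.ofHom_comp, h1]
    obtain ⟨z⟩ := Bc.of_comp h2 (Bc.refl _ W) (Bc.refl _ W)
    exact Groth.Agent.Pi1.H384.SplitBasic.isSplit_of_iso z.symm hsplit)
  exact ⟨κ, Z, hκ, hZ⟩

end

end LevelCore

end K286
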