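import Groth.Agent.SGA4h.K286.Extend
import Mathlib.RingTheory.PolynomialAlgebra
import Mathlib.RingTheory.Flat.TorsionFree
import Mathlib.RingTheory.Flat.Stability

/-!
# Extension over the special fibres of Galois covers of étale schemes over the affine line
-/

set_option autoImplicit false
set_option linter.unusedSectionVars false

universe u v

open CategoryTheory CategoryTheory.Limits AlgebraicGeometry IsLocalRing Polynomial

namespace K286.LevelExt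

open Groth.Agent.Pi1A.FEtAffine Groth.Agent.Pi1.H383.PrincBC K286.TransAct
open Groth.Agent.Pi1.H382.StalkDvr Groth.Agent.Pi1.H382.BC Groth.Agent.Pi1.H382.Trait
open Groth.Agent.Pi1.H382.Abh Groth.Agent.Pi1.H382.Extend

attribute [local instance] Polynomial.algebra in
/-- `V[X] → V₂[X]` is flat for an extension of discrete valuation rings. -/
theorem flat_mapRingHom {V V₂ : Type u} [CommRing V] [IsDomain V] [IsDiscreteValuationRing V]
    [CommRing V₂] [IsDomain V₂] (ψ : V →+* V₂) (hψ : Function.Injective ψ) :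
    Flat (Spec.map (CommRingCat.ofHom (mapRingHom ψ))) := by
  rw [HasRingHomProperty.Spec_iff (P := @Flat)]
  let _ : Algebra V V₂ := ψ.toAlgebra
  have h1 : Module.IsTorsionFree V V₂ := by
    have : FaithfulSMul V V₂ := (faithfulSMul_iff_algebraMap_injective V V₂).2 hψ
    infer_instance
  have h2 : Module.Flat V V₂ := inferInstance
  have h3 : Algebra.IsPushout V V[X] V₂ V₂[X] := inferInstance
  have h4 : Module.Flat V[X] V₂[X] := Module.Flat.isBaseChange V V[X] V₂ V₂[X] h3.out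
  exact h4

section

variable {A₁ A₂ V V₂ : Type u} [CommRing A₁] [CommRing A₂] [CommRing V] [IsDomain V]
  [IsDiscreteValuationRing V] [CommRing V₂] [IsDomain V₂] [IsDiscreteValuationRing V₂]

/-- Flatness of the comparison of the localizations. -/
theorem flat_of_etale {Y Y₂ : Scheme.{u}} (q : Y ⟶ Spec (CommRingCat.of V[X])) [Etale q]
    (q₂ : Y₂ ⟶ Spec (CommRingCat.of V₂[X])) [Etale q₂] (ψ : V →+* V₂)
    (hψ : Function.Injective ψ) (h : Y₂ ⟶ Y)
    (hw : h ≫ q = q₂ ≫ Spec.map (CommRingCat.ofHom (mapRingHom ψ))) : Flat h := by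
  have := flat_mapRingHom ψ hψ
  let l : Y₂ ⟶ pullback q (Spec.map (CommRingCat.ofHom (mapRingHom ψ))) := pullback.lift h q₂ hw
  have h1 : Etale l := by
    have : Etale (l ≫ pullback.snd q (Spec.map (CommRingCat.ofHom (mapRingHom ψ)))) := by
      rw [pullback.lift_snd]
      infer_instance
    exact Etale.of_comp l (pullback.snd q (Spec.map (CommRingCat.ofHom (mapRingHom ψ))))
  have h2 : h = l ≫ pullback.fst q (Spec.map (CommRingCat.ofHom (mapRingHom ψ))) :=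
    (pullback.lift_fst _ _ _).symm
  rw [h2]
  infer_instance

theorem smooth_C (V : Type u) [CommRing V] :
    Smooth (Spec.map (CommRingCat.ofHom (C : V →+* V[X]))) := by
  rw [HasRingHomProperty.Spec_iff (P := @Smooth)]
  have h1 : Algebra.Smooth V V[X] := ⟨inferInstance, inferInstance⟩
  exact RingHom.smooth_algebraMap.2 h1

/-- Extension of Galois covers over the special fibres. -/
theorem exists_ext (a₁ : A₁ →+* V) (a₂ : A₂ →+* V₂) (j : A₁ →+* A₂) (ψ : V →+* V₂) [IsLocalHom ψ]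
    (hψ : Function.Injective ψ) (hw : ψ.comp a₁ = a₂.comp j) {S₁ S₂ : Scheme.{u}}
    (s₁ : S₁ ⟶ Spec (CommRingCat.of A₁[X])) [Etale s₁] (s₂ : S₂ ⟶ Spec (CommRingCat.of A₂[X]))
    [Etale s₂] (f : S₂ ⟶ S₁)
    (hf : f ≫ s₁ = s₂ ≫ Spec.map (CommRingCat.ofHom (mapRingHom j)))
    {ϖ : V} (hϖ : Irreducible ϖ) {Γ : Type u} [Group Γ] (n : ℕ)
    (hn : IsUnit (n : V)) (hcard : Nat.card Γ ∣ n) (t : V₂) (ht : t ^ n = ψ ϖ)
    {L : Scheme.{u}} (W : FEt.Cat L) (ρ : Γ →* Aut W) (hρ : TransAct ρ)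
    {S' : Scheme.{u}} (i : S' ⟶ S₁) [IsOpenImmersion i] (l : S' ⟶ L)
    (hi : ∀ x : S₁, (Spec.map (CommRingCat.ofHom (C : A₁ →+* A₁[X]))) (s₁ x) =
      (Spec.map (CommRingCat.ofHom a₁)) (⊥ : PrimeSpectrum V) → x ∈ Set.range i)
    {O : Scheme.{u}} (b : O ⟶ S₂) (c : O ⟶ Spec (CommRingCat.of V₂[X]))
    (hbc : b ≫ s₂ = c ≫ Spec.map (CommRingCat.ofHom (mapRingHom a₂))) :
    ∃ Z : FEt.Cat O, ∀ (T : Scheme.{u}) (τ : T ⟶ O) (t' : T ⟶ S'), t' ≫ i = τ ≫ b ≫ f →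
      (∀ x : T, (Spec.map (CommRingCat.ofHom (C : V₂ →+* V₂[X]))) (c (τ x)) ≠ closedPoint V₂) →
      Nonempty ((FEt.restrict τ).obj Z ≅ (FEt.restrict (t' ≫ l)).obj W) := by
  have hsm1 := smooth_C V
  have hsm2 := smooth_C V₂
  -- first level
  let v₁ : Spec (CommRingCat.of V[X]) ⟶ Spec (CommRingCat.of A₁[X]) :=
    Spec.map (CommRingCat.ofHom (mapRingHom a₁))
  let Y := pullback s₁ v₁
  let y : Y ⟶ S₁ := pullback.fst s₁ v₁
  let q : Y ⟶ Spec (CommRingCat.of V[X]) := pullback.snd s₁ v₁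
  have hyq : y ≫ s₁ = q ≫ v₁ := pullback.condition
  have hqe : Etale q := inferInstanceAs (Etale (pullback.snd s₁ v₁))
  let p : Y ⟶ Spec (CommRingCat.of V) := q ≫ Spec.map (CommRingCat.ofHom (C : V →+* V[X]))
  have hp : Smooth p := inferInstance
  let K := FractionRing V
  let κ : Spec (CommRingCat.of K) ⟶ Spec (CommRingCat.of V) :=
    Spec.map (CommRingCat.ofHom (algebraMap V K))
  let G := pullback p κ
  let g : G ⟶ Y := pullback.fst p κ
  have hG : IsPullback g (pullback.snd p κ) p κ := IsPullback.of_hasPullback p κ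
  have hgo := isOpenImmersion_generic hG
  have hv₁ : v₁ ≫ Spec.map (CommRingCat.ofHom (C : A₁ →+* A₁[X])) =
      Spec.map (CommRingCat.ofHom (C : V →+* V[X])) ≫ Spec.map (CommRingCat.ofHom a₁) := by
    rw [← Spec.map_comp, ← Spec.map_comp, ← CommRingCat.ofHom_comp, ← CommRingCat.ofHom_comp]
    congr 2
    ext x
    simp
  have hpy : y ≫ s₁ ≫ Spec.map (CommRingCat.ofHom (C : A₁ →+* A₁[X])) =
      p ≫ Spec.map (CommRingCat.ofHom a₁) := by
    rw [← Category.assoc, hyq, Category.assoc, hv₁, ← Category.assoc]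
  have hrange : Set.range (g ≫ y) ⊆ Set.range i := by
    rintro _ ⟨z, rfl⟩
    apply hi
    have h1 : p (g z) = (⊥ : PrimeSpectrum V) := by
      rcases eq_closedPoint_or_eq_bot (p (g z)) with h2 | h2
      · exact absurd h2 ((mem_range_iff hG (g z)).1 ⟨z, rfl⟩)
      · exact h2
    rw [← h1, ← Scheme.Hom.comp_apply, ← Scheme.Hom.comp_apply, Category.assoc, hpy,
      ← Scheme.Hom.comp_apply, ← Scheme.Hom.comp_apply]
  obtain ⟨u₀, hu₀⟩ : ∃ u₀ : G ⟶ S', u₀ ≫ i = g ≫ y :=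
    ⟨IsOpenImmersion.lift i (g ≫ y) hrange, IsOpenImmersion.lift_fac i (g ≫ y) hrange⟩
  let W₀ : FEt.Cat G := (FEt.restrict (u₀ ≫ l)).obj W
  let ρ₀ : Γ →* Aut W₀ := bcAction (u₀ ≫ l) ρ
  have hρ₀ : TransAct ρ₀ := bc hρ _
  -- second level
  let v₂ : Spec (CommRingCat.of V₂[X]) ⟶ Spec (CommRingCat.of A₂[X]) :=
    Spec.map (CommRingCat.ofHom (mapRingHom a₂))
  let Y₂ := pullback s₂ v₂
  let y₂ : Y₂ ⟶ S₂ := pullback.fst s₂ v₂
  let q₂ : Y₂ ⟶ Spec (CommRingCat.of V₂[X]) := pullback.snd s₂ v₂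
  have hyq₂ : y₂ ≫ s₂ = q₂ ≫ v₂ := pullback.condition
  have hqe₂ : Etale q₂ := inferInstanceAs (Etale (pullback.snd s₂ v₂))
  let p₂ : Y₂ ⟶ Spec (CommRingCat.of V₂) := q₂ ≫ Spec.map (CommRingCat.ofHom (C : V₂ →+* V₂[X]))
  have hp₂ : Smooth p₂ := inferInstance
  let K₂ := FractionRing V₂
  let κ₂ : Spec (CommRingCat.of K₂) ⟶ Spec (CommRingCat.of V₂) :=
    Spec.map (CommRingCat.ofHom (algebraMap V₂ K₂))
  let G₂ := pullback p₂ κ₂
  let g₂ : G₂ ⟶ Y₂ := pullback.fst p₂ κ₂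
  have hG₂ : IsPullback g₂ (pullback.snd p₂ κ₂) p₂ κ₂ := IsPullback.of_hasPullback p₂ κ₂
  have hgo₂ := isOpenImmersion_generic hG₂
  -- the comparison
  have hv : Spec.map (CommRingCat.ofHom (mapRingHom ψ)) ≫ v₁ =
      v₂ ≫ Spec.map (CommRingCat.ofHom (mapRingHom j)) := by
    rw [← Spec.map_comp, ← Spec.map_comp, ← CommRingCat.ofHom_comp, ← CommRingCat.ofHom_comp,
      mapRingHom_comp, mapRingHom_comp, hw]
  let h : Y₂ ⟶ Y := pullback.lift (y₂ ≫ f) (q₂ ≫ Spec.map (CommRingCat.ofHom (mapRingHom ψ))) (by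
    rw [Category.assoc, hf, ← Category.assoc, hyq₂, Category.assoc, Category.assoc]
    congr 1
    exact hv.symm)
  have hhy : h ≫ y = y₂ ≫ f := pullback.lift_fst _ _ _
  have hhq : h ≫ q = q₂ ≫ Spec.map (CommRingCat.ofHom (mapRingHom ψ)) := pullback.lift_snd _ _ _
  have hflat : Flat h := flat_of_etale q q₂ ψ hψ h hhq
  have hC : Spec.map (CommRingCat.ofHom (mapRingHom ψ)) ≫
      Spec.map (CommRingCat.ofHom (C : V →+* V[X])) =
      Spec.map (CommRingCat.ofHom (C : V₂ →+* V₂[X])) ≫ Spec.map (CommRingCat.ofHom ψ) := by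
    rw [← Spec.map_comp, ← Spec.map_comp, ← CommRingCat.ofHom_comp, ← CommRingCat.ofHom_comp]
    congr 2
    ext x
    simp
  have hhp : h ≫ p = p₂ ≫ Spec.map (CommRingCat.ofHom ψ) := by
    change h ≫ q ≫ Spec.map (CommRingCat.ofHom (C : V →+* V[X])) =
      (q₂ ≫ Spec.map (CommRingCat.ofHom (C : V₂ →+* V₂[X]))) ≫ Spec.map (CommRingCat.ofHom ψ)
    rw [← Category.assoc, hhq, Category.assoc, hC, Category.assoc]
  have hrange₂ : Set.range (g₂ ≫ h) ⊆ Set.range g := by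
    rintro _ ⟨z, rfl⟩
    rw [mem_range_iff hG]
    have h1 : p₂ (g₂ z) = (⊥ : PrimeSpectrum V₂) := by
      rcases eq_closedPoint_or_eq_bot (p₂ (g₂ z)) with h2 | h2
      · exact absurd h2 ((mem_range_iff hG₂ (g₂ z)).1 ⟨z, rfl⟩)
      · exact h2
    have h2 : p ((g₂ ≫ h) z) = (⊥ : PrimeSpectrum V) := by
      rw [← Scheme.Hom.comp_apply, Category.assoc, hhp, Scheme.Hom.comp_apply,
        Scheme.Hom.comp_apply, h1]
      exact specMap_bot ψ hψ
    rw [h2]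
    exact bot_ne_closedPoint
  let m : G₂ ⟶ G := IsOpenImmersion.lift g (g₂ ≫ h) hrange₂
  have hm : m ≫ g = g₂ ≫ h := IsOpenImmersion.lift_fac _ _ _
  obtain ⟨Y', ⟨e⟩⟩ := K286.Extend.exists_extension hG hϖ W₀ ρ₀ hρ₀ n hn hcard V₂ K₂ ψ hψ t ht Y₂ G₂
    p₂ h hhp g₂ (pullback.snd p₂ κ₂) hG₂ m hm
  let r : O ⟶ Y₂ := pullback.lift b c hbc
  have hr1 : r ≫ y₂ = b := pullback.lift_fst _ _ _
  have hr2 : r ≫ q₂ = c := pullback.lift_snd _ _ _
  refine ⟨(FEt.restrict r).obj Y', fun T τ t' ht' hT => ?_⟩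
  have hrange₃ : Set.range (τ ≫ r) ⊆ Set.range g₂ := by
    rintro _ ⟨z, rfl⟩
    rw [mem_range_iff hG₂]
    have h1 : p₂ ((τ ≫ r) z) = (Spec.map (CommRingCat.ofHom (C : V₂ →+* V₂[X]))) (c (τ z)) := by
      rw [← hr2]
      rfl
    rw [h1]
    exact hT z
  let ξ : T ⟶ G₂ := IsOpenImmersion.lift g₂ (τ ≫ r) hrange₃
  have hξ : ξ ≫ g₂ = τ ≫ r := IsOpenImmersion.lift_fac _ _ _
  have ht'' : ξ ≫ m ≫ u₀ = t' := by
    rw [← cancel_mono i, ht']
    calc (ξ ≫ m ≫ u₀) ≫ i = ξ ≫ m ≫ (u₀ ≫ i) := by simp only [Category.assoc]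
      _ = (ξ ≫ (m ≫ g)) ≫ y := by rw [hu₀]; simp only [Category.assoc]
      _ = (ξ ≫ g₂) ≫ h ≫ y := by rw [hm]; simp only [Category.assoc]
      _ = τ ≫ b ≫ f := by rw [hξ, hhy]; simp only [Category.assoc]; rw [reassoc_of% hr1]
  have e1 : Bc (τ ≫ r) Y' ((FEt.restrict τ).obj ((FEt.restrict r).obj Y')) :=
    (Bc.refl r Y').comp (Bc.refl τ _)
  have e2 : Bc (τ ≫ r) Y' ((FEt.restrict ξ).obj ((FEt.restrict m).obj W₀)) :=
    (show Bc g₂ Y' ((FEt.restrict m).obj W₀) from ⟨e⟩).comp' hξ (Bc.refl ξ _)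
  have e3 : Bc (t' ≫ l) W ((FEt.restrict ξ).obj ((FEt.restrict m).obj W₀)) := by
    refine (((Bc.refl (u₀ ≫ l) W).comp (Bc.refl m W₀)).comp (Bc.refl ξ _)).congr ?_
      ⟨Iso.refl _⟩ ⟨Iso.refl _⟩
    rw [← ht'']
    simp only [Category.assoc]
  obtain ⟨i1⟩ := e1.unique e2
  obtain ⟨i2⟩ := e3
  exact ⟨i1 ≪≫ i2.symm⟩

end

end K286.LevelExt
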