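import Groth.Agent.SGA4h.K286.FiniteLevel
import Groth.Agent.SGA4h.K286.ActDesc
import Groth.Agent.EtpbcB.LocAcycModel
import Groth.Agent.Lefpen.H416.NormalBase
import Groth.Agent.Pi1.H395.PurityGen

/-!
# Galois covers of degree prime to the residue characteristic of the generic fibre of the strictly
henselian line over a local ring with algebraically closed fraction field
-/

set_option autoImplicit false
set_option linter.unusedSectionVars false

universe u

open CategoryTheory CategoryTheory.Limits AlgebraicGeometry Polynomial IsLocalRing TensorProduct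

namespace K286

namespace MainM

open Groth.Agent.Pi1A.FEtAffine Groth.Agent.Pi1.H382.BC Groth.Agent.EtpbcB
open K286.TransAct

/-- **Main theorem.** -/
theorem isSplit {A : Type u} [CommRing A] [IsDomain A] [IsIntegrallyClosed A] [IsLocalRing A]
    [IsAlgClosed (FractionRing A)] {B : Type u} [CommRing B] [IsDomain B] [HenselianLocalRing B]
    [IsSepClosed (ResidueField B)] [Algebra A[X] B] (hind : EtPBC.IsIndEtale A[X] B)
    (r : B →+* A) (hr : ∀ a, r (algebraMap A[X] B (C a)) = a) (hrl : IsLocalHom r)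
    (n : ℕ) (hn0 : n ≠ 0) (hn : IsUnit (n : A))
    {Q : Type u} [CommRing Q] [IsDomain Q] [IsIntegrallyClosed Q] (ι : B →+* Q)
    (hι : Function.Injective ι)
    (hQ : ∀ y : Q, ∃ (s : A) (b : B), s ≠ 0 ∧ ι (algebraMap A[X] B (C s)) * y = ι b)
    (Y : FEt.Cat (Spec (CommRingCat.of Q))) {Γ : Type u} [Group Γ] [Finite Γ] (ρ : Γ →* Aut Y)
    (hρ : TransAct ρ) (hcard : Nat.card Γ ∣ n) : Pi1.IsSplit Y := by
  classical
  -- descent to a finitely generated subring
  obtain ⟨L₀, hL₀, W, ρ₁, hW⟩ := K286.ActDesc.exists_desc Q Y ρ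
  have hdom : IsDomain L₀ := inferInstance
  have hconn : ConnectedSpace (Spec (CommRingCat.of L₀)) :=
    inferInstanceAs (ConnectedSpace (PrimeSpectrum L₀))
  have hne : Nonempty (Spec (CommRingCat.of Q)) := inferInstanceAs (Nonempty (PrimeSpectrum Q))
  have hρ₁ : TransAct ρ₁ := desc hW hρ
  obtain ⟨iW, -⟩ := hW
  obtain ⟨T, hT⟩ : (⊤ : Subalgebra ℤ L₀).FG := (L₀.fg_iff_finiteType.1 hL₀).out
  -- denominators
  choose s₀ b₀ hs₀ hb₀ using fun x : L₀ => hQ (x : Q)
  let s : A := ∏ x ∈ T, s₀ x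
  have hs : s ≠ 0 := Finset.prod_ne_zero_iff.2 fun x _ => hs₀ x
  have hsb : ∀ x ∈ T, ∃ b : B, ι (algebraMap A[X] B (C s)) * (x : Q) = ι b := by
    intro x hx
    refine ⟨algebraMap A[X] B (C (∏ y ∈ T.erase x, s₀ y)) * b₀ x, ?_⟩
    rw [map_mul, ← hb₀ x, ← mul_assoc, ← map_mul ι, ← map_mul, ← map_mul, mul_comm (∏ y ∈ T.erase x, s₀ y),
      Finset.mul_prod_erase T s₀ hx]
  choose! b hb using hsb
  -- the étale stage
  obtain ⟨E, _, _, ⟨_, _, _⟩, χ, hχ⟩ := (LocAcycModel.isIndP_domain hind).exists_stage_of_finite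
    (b '' (T : Set L₀)) (T.finite_toSet.image b)
  have hχinj : Function.Injective χ := LocAcycModel.injective_of_isIndEtale hind χ
  let σ : E →+* A := r.comp (χ : E →+* B)
  have hσ : ∀ a, σ (algebraMap A[X] E (C a)) = a := by
    intro a
    change r (χ (algebraMap A[X] E (C a))) = a
    rw [AlgHom.commutes, hr]
  let F := FractionRing Q
  let φE : E →+* F := (algebraMap Q F).comp (ι.comp (χ : E →+* B))
  let _ : Algebra E F := φE.toAlgebra
  have hEF : Function.Injective (algebraMap E F) :=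
    (IsFractionRing.injective Q F).comp (hι.comp hχinj)
  let ν : L₀ →+* F := (algebraMap Q F).comp (algebraMap L₀ Q)
  obtain ⟨κ, Z, hκ, hZ⟩ := FiniteLevel.exists_cover σ hσ (maximalIdeal A) n hn0
    (fun h => h hn) s hs hEF T hT ν (by
      intro x hx
      obtain ⟨e, he⟩ := hχ ⟨x, hx, rfl⟩
      refine ⟨e, ?_⟩
      change algebraMap Q F (ι (χ (algebraMap A[X] E (C s)))) * algebraMap Q F (x : Q) =
        algebraMap Q F (ι (χ e))
      rw [AlgHom.commutes, ← map_mul, hb x hx]
      congr 2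
      exact he.symm) W ρ₁ hρ₁ hcard
  -- the map to `B`
  let P : Ideal E := (maximalIdeal A).comap σ
  have hu : ∀ y : P.primeCompl, IsUnit ((χ : E →+* B) y) := by
    intro y
    have h1 : IsUnit (r (χ y)) := by
      by_contra h
      exact y.2 h
    exact hrl.map_nonunit _ h1
  let χ' : Localization.AtPrime P →+* B :=
    IsLocalization.lift (M := P.primeCompl) (g := (χ : E →+* B)) hu
  have hχ' : ∀ e, χ' (algebraMap E _ e) = χ e := fun e => IsLocalization.lift_eq _ _
  let ZB : FEt.Cat (Spec (CommRingCat.of B)) := (FEt.restrict (Spec.map (CommRingCat.ofHom χ'))).obj Z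
  have hZB : Pi1.IsSplit ZB := Groth.Agent.Pi1.H395.PurityGen.isSplit_of_henselian B ZB
  let Y' : FEt.Cat (Spec (CommRingCat.of Q)) := (FEt.restrict (Spec.map (CommRingCat.ofHom ι))).obj ZB
  have hY' : Pi1.IsSplit Y' := Groth.Agent.Pi1.H384.SplitBasic.isSplit_restrict _ hZB
  have hff := Groth.Agent.Lefpen.H416.NormalBase.ff_fractionRing Q F
  have := hff.1
  have := hff.2
  have e1 : Bc (specMap Q F ≫ Spec.map (CommRingCat.ofHom ι) ≫ Spec.map (CommRingCat.ofHom χ')) Z
      ((FEt.restrict (specMap Q F)).obj Y') :=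
    ((Bc.refl _ Z).comp (Bc.refl _ ZB)).comp' rfl (Bc.refl _ Y')
  have h1 : specMap Q F ≫ Spec.map (CommRingCat.ofHom ι) ≫ Spec.map (CommRingCat.ofHom χ') =
      Spec.map (CommRingCat.ofHom κ) := by
    rw [specMap, ← Spec.map_comp, ← Spec.map_comp, ← CommRingCat.ofHom_comp,
      ← CommRingCat.ofHom_comp]
    congr 2
    apply IsLocalization.ringHom_ext P.primeCompl
    ext e
    rw [RingHom.comp_apply, RingHom.comp_apply, RingHom.comp_apply, RingHom.comp_apply, hχ', hκ]
    rfl
  rw [h1] at e1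
  obtain ⟨i1⟩ := e1.unique hZ
  have e2 : Bc (specMap Q F) Y ((FEt.restrict (Spec.map (CommRingCat.ofHom ν))).obj W) := by
    refine Bc.of_comp (f := specMap Q F) (g := specMap L₀ Q) ?_ ⟨iW⟩ (Bc.refl _ W)
    rw [specMap, specMap, ← Spec.map_comp, ← CommRingCat.ofHom_comp]
  obtain ⟨i2⟩ := e2
  let i : Y' ≅ Y := (FEt.restrict (specMap Q F)).preimageIso (i1 ≪≫ i2.symm)
  exact Groth.Agent.Pi1.H384.SplitBasic.isSplit_of_iso i hY'

end MainM

end K286
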