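import Groth.Agent.EtRam.K585.GalCover
import Groth.Agent.Etalg.InertiaIndex
import Groth.Agent.Sga1.AbhExt2
import Groth.Agent.Sga1.AbhKumDvr

/-!
# Galois extensions of order `n` invertible: tame, with ramification indices dividing `n`
-/

set_option autoImplicit false
universe u
open IsLocalRing EtRam TensorProduct
open scoped Pointwise
open Groth.Agent.Etalg Groth.Agent.Etalg.RamDict Groth.Agent.Sga1.AbhKum

namespace K286.TameDvd

/-- A finite Galois extension `M/K` whose degree divides an integer `n` invertible in the DVR `R`: the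
ramification indices divide `n` and the residue field extensions are separable. -/
theorem tameDvd_of_isGalois (R : Type u) {K M : Type u} [CommRing R] [IsDomain R]
    [IsDiscreteValuationRing R] [Field K] [Algebra R K] [IsFractionRing R K] [Field M] [Algebra K M]
    [FiniteDimensional K M] [IsGalois K M] (n : ℕ) (hn : (n : R) ∉ maximalIdeal R)
    (hcard : Nat.card (M ≃ₐ[K] M) ∣ n) :
    TameDvd R ((algebraMap K M).comp (algebraMap R K)) n := by
  let _ : Algebra R M := ((algebraMap K M).comp (algebraMap R K)).toAlgebra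
  have hRKM : IsScalarTower R K M := IsScalarTower.of_algebraMap_eq' rfl
  let B := integralClosure R M
  let _ : MulSemiringAction (M ≃ₐ[K] M) B := IsIntegralClosure.MulSemiringAction R K M B
  have hfracB : IsFractionRing B M := IsIntegralClosure.isFractionRing_of_finite_extension R K M B
  have hdedB : IsDedekindDomain B := IsIntegralClosure.isDedekindDomain R K M B
  have hintB : Algebra.IsIntegral R B := IsIntegralClosure.isIntegral_algebra R M
  have hfinB : Module.Finite R B := IsIntegralClosure.finite R K M B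
  have hG1 : IsGaloisGroup (M ≃ₐ[K] M) R B := IsGaloisGroup.of_isFractionRing (M ≃ₐ[K] M) R B K M
  have hinj : Function.Injective (algebraMap R M) :=
    (algebraMap K M).injective.comp (IsFractionRing.injective R K)
  have htf : Module.IsTorsionFree R B := by
    refine Module.isTorsionFree_iff_algebraMap_injective.mpr ?_
    intro x y hxy
    exact hinj (congrArg Subtype.val hxy)
  have hflat : Module.Flat R B := inferInstance
  have htame : IsTamelyRamified R ((algebraMap K M).comp (algebraMap R K)) := by
    refine Groth.Agent.Pi1.H383.TameGal.isTamelyRamified_of_isGalois R fun p hp hc => ?_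
    rw [Nat.coprime_comm, Nat.Prime.coprime_iff_not_dvd hp]
    intro hdvd
    apply hn
    obtain ⟨c, hc'⟩ := hdvd.trans hcard
    rw [hc', Nat.cast_mul]
    refine Ideal.mul_mem_right _ _ ?_
    rw [← residue_eq_zero_iff, map_natCast]
    exact CharP.cast_eq_zero _ p
  intro V hV
  let _ : Algebra R V := (RingHom.codRestrict ((algebraMap K M).comp (algebraMap R K)) V hV.1).toAlgebra
  intro hloc
  refine ⟨(htame V hV).1, ?_⟩
  have hdvr : IsDiscreteValuationRing V := RamDVR.isDVR_of_dominates (A := R) (K := K) (F := M) hV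
  have h1 := ramificationIdx_center (A := R) (L := M) B hinj (V := V) hV
  have hmax : (center B hV.1).IsMaximal := center_isMaximal (A := R) (L := M) (C := B) hV
  have hover : (center B hV.1).LiesOver (maximalIdeal R) := center_liesOver (A := R) (L := M) (C := B) hV
  have h2 := InertiaIndex.card_stabilizer_eq (M ≃ₐ[K] M) (maximalIdeal R) (center B hV.1)
  have h3 : Nat.card (MulAction.stabilizer (M ≃ₐ[K] M) (center B hV.1)) ∣ Nat.card (M ≃ₐ[K] M) :=
    Subgroup.card_subgroup_dvd_card _
  rw [h2] at h3
  refine Eq.mpr (congrArg (· ∣ n) h1) ?_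
  exact (Dvd.intro _ rfl).trans (h3.trans hcard)

/-- Algebra form: an étale algebra over the fraction field of a DVR with a group acting transitively on
geometric points. -/
theorem tameDvd_of_trans (R : Type u) [CommRing R] [IsDomain R] [IsDiscreteValuationRing R]
    (K : Type u) [Field K] [Algebra R K] [IsFractionRing R K]
    (M : Type u) [CommRing M] [Algebra K M] [Algebra.Etale K M] [Algebra R M] [IsScalarTower R K M]
    {G : Type u} [Group G] (ρ : G → (M →ₐ[K] M)) (hρ1 : ρ 1 = AlgHom.id K M)
    (hρm : ∀ σ τ, ρ (σ * τ) = (ρ τ).comp (ρ σ))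
    (htr : ∀ (Ω : Type u) [Field Ω] [IsAlgClosed Ω] (s t : M →+* Ω),
      s.comp (algebraMap K M) = t.comp (algebraMap K M) → ∃ σ, s.comp (ρ σ : M →+* M) = t)
    (n : ℕ) (hn : (n : R) ∉ maximalIdeal R) (hcard : Nat.card G ∣ n)
    (L : Type u) [Field L] (ψ : M →+* L) (hψ : Function.Surjective ψ) :
    TameDvd R (ψ.comp (algebraMap R M)) n := by
  let _ : Algebra K L := (ψ.comp (algebraMap K M)).toAlgebra
  let ψ' : M →ₐ[K] L := { ψ with commutes' := fun _ => rfl }
  have hMfin : Module.Finite K M := Algebra.FormallyUnramified.finite_of_free K M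
  have hLfin : FiniteDimensional K L := Module.Finite.of_surjective ψ'.toLinearMap hψ
  have hunr : Algebra.FormallyUnramified K L := Algebra.FormallyUnramified.of_surjective ψ' hψ
  have hsep : Algebra.IsSeparable K L := Algebra.FormallyUnramified.isSeparable K L
  let I : Ideal M := RingHom.ker ψ
  -- the relation `σ` induces `g`
  let Rel : G → (L →+* L) → Prop := fun σ g => ∀ x, g (ψ x) = ψ (ρ σ x)
  have hmem : ∀ σ x, (∀ y, y ∈ I → ρ σ y ∈ I) → x ∈ I → ψ (ρ σ x) = 0 := fun σ x h hx => h x hx
  let D : Subgroup G :=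
    { carrier := {σ | ∀ y, ρ σ y ∈ I ↔ y ∈ I}
      one_mem' := by
        intro y
        rw [hρ1]; rfl
      mul_mem' := by
        intro σ τ hσ hτ y
        rw [hρm]
        exact (hτ _).trans (hσ _)
      inv_mem' := by
        intro σ hσ y
        have h1 : ρ σ⁻¹ (ρ σ y) = y := by
          have h2 : (ρ σ⁻¹).comp (ρ σ) = AlgHom.id K M := by
            rw [← hρm, mul_inv_cancel, hρ1]
          exact DFunLike.congr_fun h2 y
        have h1' : ρ σ (ρ σ⁻¹ y) = y := by
          have h2 : (ρ σ).comp (ρ σ⁻¹) = AlgHom.id K M := by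
            rw [← hρm, inv_mul_cancel, hρ1]
          exact DFunLike.congr_fun h2 y
        rw [← hσ, h1'] }
  have hex : ∀ σ ∈ D, ∃ g : L →+* L, Rel σ g := by
    intro σ hσ
    let g : L →+* L := (Ideal.Quotient.lift I (ψ.comp (ρ σ : M →+* M)) (fun a ha => (hσ a).mpr ha)).comp
      (RingHom.quotientKerEquivOfSurjective hψ).symm.toRingHom
    refine ⟨g, fun x => ?_⟩
    have h1 : (RingHom.quotientKerEquivOfSurjective hψ).symm (ψ x) = Ideal.Quotient.mk I x := by
      rw [RingEquiv.symm_apply_eq]
      exact (RingHom.quotientKerEquivOfSurjective_apply_mk hψ x).symm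
    have h2 : g (ψ x) = Ideal.Quotient.lift I (ψ.comp (ρ σ : M →+* M)) (fun a ha => (hσ a).mpr ha)
        ((RingHom.quotientKerEquivOfSurjective hψ).symm (ψ x)) := rfl
    rw [h2, h1]
    rfl
  have hK : ∀ σ g, Rel σ g → g.comp (algebraMap K L) = algebraMap K L := by
    intro σ g h
    ext x
    change g (ψ (algebraMap K M x)) = ψ (algebraMap K M x)
    rw [h, AlgHom.commutes]
  have hgal := K585.RamGalCover.isGalois_and_card_dvd_abstract (K := K) (M := L) (G := G) Rel
    (fun σ g g' h1 h2 => RingHom.ext fun x => by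
      obtain ⟨y, hy⟩ := hψ x
      rw [← hy]
      exact (h1 y).trans (h2 y).symm)
    (fun σ τ g g' h1 h2 x => by
      change g' (g (ψ x)) = _
      rw [h1 x, h2 (ρ σ x), hρm]
      rfl) D
    (fun σ hσ => by
      obtain ⟨g, hg⟩ := hex σ hσ
      exact ⟨g, hg, hK σ g hg⟩)
    (fun τ hτ => by
      obtain ⟨σ, hσ⟩ := htr (AlgebraicClosure L) ((algebraMap L (AlgebraicClosure L)).comp ψ)
        (τ.comp ψ) (RingHom.ext fun x => (DFunLike.congr_fun hτ x).symm)
      have hσD : σ ∈ D := by
        intro y
        have h1 : algebraMap L (AlgebraicClosure L) (ψ (ρ σ y)) = τ (ψ y) := DFunLike.congr_fun hσ y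
        change ψ (ρ σ y) = 0 ↔ ψ y = 0
        constructor
        · intro h2
          rw [h2, map_zero] at h1
          exact (map_eq_zero τ).mp h1.symm
        · intro h2
          rw [h2, map_zero] at h1
          exact (map_eq_zero _).mp h1
      obtain ⟨g, hg⟩ := hex σ hσD
      refine ⟨σ, hσD, g, hg, hK σ g hg, RingHom.ext fun x => ?_⟩
      obtain ⟨y, rfl⟩ := hψ x
      change τ (ψ y) = algebraMap L (AlgebraicClosure L) (g (ψ y))
      rw [hg]
      exact (DFunLike.congr_fun hσ y).symm)
  have hgal1 := hgal.1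
  have h1 := tameDvd_of_isGalois R (K := K) (M := L) n hn (hgal.2.trans hcard)
  have h2 : (algebraMap K L).comp (algebraMap R K) = ψ.comp (algebraMap R M) := by
    rw [IsScalarTower.algebraMap_eq R K M]
    rfl
  rwa [h2] at h1

end K286.TameDvd
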