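import Groth.Agent.S2733

/-!
# Traces of `1 ⊗ b` in base changes of an algebra
-/

set_option autoImplicit false

universe u

open TensorProduct

namespace K286.TrForm

variable (C : Type u) [CommRing C] (B : Type u) [CommRing B] [Algebra C B]

/-- The trace of `1 ⊗ b` in `D ⊗ B`. -/
noncomputable def tr (D : Type u) [CommRing D] [Algebra C D] : B →ₗ[C] D :=
  ((Algebra.trace D (D ⊗[C] B)).restrictScalars C).comp
    (Algebra.TensorProduct.includeRight : B →ₐ[C] D ⊗[C] B).toLinearMap

theorem tr_apply (D : Type u) [CommRing D] [Algebra C D] (b : B) :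
    tr C B D b = Algebra.trace D (D ⊗[C] B) (1 ⊗ₜ[C] b) := rfl

/-- The base change map `D ⊗ B → D' ⊗ B`. -/
noncomputable def bcMap (D D' : Type u) [CommRing D] [Algebra C D]
    [CommRing D'] [Algebra C D'] [Algebra D D'] [IsScalarTower C D D'] :
    D ⊗[C] B →ₐ[C] D' ⊗[C] B :=
  Algebra.TensorProduct.map (IsScalarTower.toAlgHom C D D') (AlgHom.id C B)

@[simp]
theorem bcMap_tmul (D D' : Type u) [CommRing D] [Algebra C D]
    [CommRing D'] [Algebra C D'] [Algebra D D'] [IsScalarTower C D D'] (d : D) (b : B) :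
    bcMap C B D D' (d ⊗ₜ[C] b) = algebraMap D D' d ⊗ₜ[C] b := rfl

/-- Base change of the trace. -/
theorem trace_tower (D D' : Type u) [CommRing D] [Algebra C D] [Module.Free D (D ⊗[C] B)]
    [Module.Finite D (D ⊗[C] B)] [CommRing D'] [Algebra C D'] [Algebra D D'] [IsScalarTower C D D']
    (x : D ⊗[C] B) :
    Algebra.trace D' (D' ⊗[C] B) (bcMap C B D D' x) =
      algebraMap D D' (Algebra.trace D (D ⊗[C] B) x) := by
  let e : D' ⊗[D] (D ⊗[C] B) ≃ₐ[D'] D' ⊗[C] B :=
    Algebra.TensorProduct.cancelBaseChange C D D' D' B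
  have h1 : Algebra.trace D' (D' ⊗[D] (D ⊗[C] B)) (1 ⊗ₜ[D] x) =
      algebraMap D D' (Algebra.trace D (D ⊗[C] B) x) := by
    rw [Algebra.trace_apply, Algebra.trace_apply, ← LinearMap.trace_baseChange]
    congr 1
    apply TensorProduct.AlgebraTensorModule.curry_injective
    apply LinearMap.ext
    intro a
    apply LinearMap.ext
    intro y
    simp [Algebra.TensorProduct.tmul_mul_tmul]
  have h2 : ∀ x, e (1 ⊗ₜ[D] x) = bcMap C B D D' x := by
    intro x
    induction x using TensorProduct.induction_on with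
    | zero => simp
    | add x y hx hy => rw [TensorProduct.tmul_add, map_add, hx, hy, map_add]
    | tmul d b =>
      rw [Algebra.TensorProduct.cancelBaseChange_tmul, bcMap_tmul, Algebra.smul_def, mul_one]
  rw [← h1, ← h2]
  exact Algebra.trace_eq_of_algEquiv e _

theorem tr_tower (D D' : Type u) [CommRing D] [Algebra C D] [Module.Free D (D ⊗[C] B)]
    [Module.Finite D (D ⊗[C] B)] [CommRing D'] [Algebra C D'] [Algebra D D'] [IsScalarTower C D D']
    (b : B) : tr C B D' b = algebraMap D D' (tr C B D b) := by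
  rw [tr_apply, tr_apply, ← trace_tower, bcMap_tmul, map_one]

end K286.TrForm
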