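import Groth.Agent.SGA4h.K286.TransAct
import Groth.Agent.Pi1.H382.EBc

/-!
# Descent of transitivity of group actions on finite étale covers of connected schemes
-/

set_option autoImplicit false

universe u v

open CategoryTheory CategoryTheory.Limits AlgebraicGeometry

namespace K286.TransAct

open Groth.Agent.Pi1A Groth.Agent.Pi1A.FEtAffine Groth.Agent.Pi1.H383.PrincBC
open Groth.Agent.Pi1.H416.PrincDesc Groth.Agent.Pi1.H382.EBc

/-- Transitivity can be checked at one point of a connected base. -/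
theorem of_bcAction {Y Y' : Scheme.{u}} (g : Y' ⟶ Y) [ConnectedSpace Y] [Nonempty Y'] {C : Type v}
    [Group C] [Finite C] {P : FEt.Cat Y} {ρ : C →* Aut P} (h : TransAct (bcAction g ρ)) :
    TransAct ρ := by
  let π : P.left ⟶ Y := P.hom
  have h1 : IsFinite π := P.prop.1
  have h2 : Etale π := P.prop.2
  let a : C → (P.left ⟶ P.left) := fun c ↦ (ρ c).hom.left
  have ha : ∀ c, a c ≫ π = π := fun c ↦ hom_w (ρ c).hom
  have hsq : FEt.prop (pullback.fst π π ≫ π) :=
    FEt.prop.comp_mem _ _ (FEt.prop.pullback_fst _ _ P.prop) P.prop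
  have hcov : (⋃ c : C, Set.range (graph π (a c) (ha c)))ᶜ = ∅ := by
    set W : Set ↥(pullback π π) := (⋃ c : C, Set.range (graph π (a c) (ha c)))ᶜ with hWdef
    have hW : IsClopen W :=
      (isClopen_iUnion_of_finite fun c ↦ isClopen_range_graph π (a c) (ha c)).compl
    let V : (pullback π π).Opens := ⟨W, hW.isOpen⟩
    have hV : FEt.prop V.ι := Clopen.prop_ι_of_isClosed V hW.isClosed
    let z : (V : Scheme.{u}) ⟶ Y := V.ι ≫ pullback.fst π π ≫ π
    have hz : FEt.prop z := FEt.prop.comp_mem _ _ hV hsq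
    have hz1 : IsFinite z := hz.1
    have hz2 : Etale z := hz.2
    by_contra hne
    obtain ⟨w, hw⟩ := Set.nonempty_iff_ne_empty.mpr hne
    have hcl : IsClopen (Set.range z) :=
      ⟨z.isClosedMap.isClosed_range, z.isOpenMap.isOpen_range⟩
    have huniv : Set.range z = Set.univ :=
      hcl.eq_univ ⟨z (⟨w, hw⟩ : V), ⟨_, rfl⟩⟩
    obtain ⟨y'⟩ := (inferInstance : Nonempty Y')
    obtain ⟨Ω, _, _, ξ, hξ⟩ := exists_geomPt Y' y'
    have hmem : (ξ ≫ g) default ∈ Set.range z := by rw [huniv]; trivial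
    obtain ⟨x, hx⟩ := hmem
    obtain ⟨s, hs, -⟩ := Scheme.exists_fac_of_etale_of_isSepClosed z (ξ ≫ g) x hx
    have e1 : (s ≫ V.ι ≫ pullback.fst π π) ≫ π = ξ ≫ g := by
      rw [← hs]
      simp only [z, Category.assoc]
    have e2 : (s ≫ V.ι ≫ pullback.snd π π) ≫ π = ξ ≫ g := by
      rw [← e1]
      simp only [Category.assoc, pullback.condition]
    obtain ⟨c, hc⟩ := h Ω ((isPullback g P).lift _ ξ e1) ((isPullback g P).lift _ ξ e2) (by
      rw [(isPullback g P).lift_snd, (isPullback g P).lift_snd])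
    have hc' : (s ≫ V.ι ≫ pullback.fst π π) ≫ a c = s ≫ V.ι ≫ pullback.snd π π := by
      have h3 := congrArg (· ≫ proj g P) hc
      simp only [Category.assoc, bcAction_hom, map_left_proj] at h3
      rw [(isPullback g P).lift_fst, (isPullback g P).lift_fst_assoc] at h3
      simpa only [Category.assoc] using h3
    have e3 : s ≫ V.ι = pullback.lift (s ≫ V.ι ≫ pullback.fst π π)
        (s ≫ V.ι ≫ pullback.snd π π) (e1.trans e2.symm) := by
      apply pullback.hom_ext
      · rw [pullback.lift_fst, Category.assoc]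
      · rw [pullback.lift_snd, Category.assoc]
    have h4 : (s ≫ V.ι) default ∈ Set.range (graph π (a c) (ha c)) := by
      rw [e3, mem_range_graph_iff]
      exact hc'
    have h5 : (s ≫ V.ι) default ∈ W := by
      rw [Scheme.Hom.comp_apply]
      exact (s default).2
    exact h5 (Set.mem_iUnion.mpr ⟨c, h4⟩)
  intro Ω _ _ s t hst
  have hmem : pullback.lift s t hst default ∈ ⋃ c : C, Set.range (graph π (a c) (ha c)) := by
    rw [Set.compl_empty_iff] at hcov
    rw [hcov]
    trivial
  obtain ⟨c, hc⟩ := Set.mem_iUnion.mp hmem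
  exact ⟨c, (mem_range_graph_iff π (a c) (ha c) _ _ _ _).mp hc⟩

/-- Transitivity is invariant under equivariant base change. -/
theorem of_EBc {Y Y' : Scheme.{u}} {g : Y' ⟶ Y} {C : Type v} [Group C] {P : FEt.Cat Y}
    {ρ : C →* Aut P} {P' : FEt.Cat Y'} {ρ' : C →* Aut P'} (h : EBc g ρ ρ') (hρ : TransAct ρ) :
    TransAct ρ' := by
  obtain ⟨e, he⟩ := h
  have h2 : conjAction e (bcAction g ρ) = ρ' := by
    ext1 c
    apply Iso.ext
    rw [conjAction_hom, bcAction_hom, he, Iso.inv_hom_id_assoc]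
  rw [← h2]
  exact conj (bc hρ g) e

/-- Descent of transitivity, equivariant form. -/
theorem desc {Y Y' : Scheme.{u}} {g : Y' ⟶ Y} [ConnectedSpace Y] [Nonempty Y'] {C : Type v}
    [Group C] [Finite C] {P : FEt.Cat Y} {ρ : C →* Aut P} {P' : FEt.Cat Y'} {ρ' : C →* Aut P'}
    (h : EBc g ρ ρ') (hρ : TransAct ρ') : TransAct ρ := by
  obtain ⟨e, he⟩ := h
  apply of_bcAction g
  have h2 : conjAction e.symm ρ' = bcAction g ρ := by
    ext1 c
    apply Iso.ext
    rw [conjAction_hom, bcAction_hom]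
    simp only [Iso.symm_inv, Iso.symm_hom]
    rw [← Category.assoc, ← he, Category.assoc, Iso.hom_inv_id, Category.comp_id]
  rw [← h2]
  exact conj hρ e.symm

end K286.TransAct
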